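import Cfsg.Agent.Transfer.SL23Section
import Cfsg.Agent.Transfer.QuatSylow
import Cfsg.Agent.Cit.Nil.SDWTwo_m3
import Cfsg.Agent.OddHalf.RankOne
import Cfsg.Agent.PermutationGroups.AutQuaternion
import Cfsg.Agent.Lib.DihedralRecog
import Cfsg.Agent.SignalizersComponents.PConstrained
import Cfsg.Agent.FastGrp
import Cfsg.Agent.Prune
set_option linter.all false

section
prune_inst 0x7f00000000000000000000000000000000000000000000000000000000000000000000000000000000000000000000000000000000000000000000000000000000000000000000000000000000000000003fffffffffffffffffffffffffffbeffbdffffffff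

-- part: Cit/Nil/Slrel
section
set_option linter.all false
open scoped Cfsg.Agent.FastGrp

/-!
# An element of odd order acting nontrivially on a subgroup `Q` of a quaternion 2-group

`exists_slrel` : `Cfsg.Agent.Transfer.SL23Section.exists_slrel_of_quaternion` with the additional information that
`Q = ⟨i, j⟩` and that `t` is a power of the given element (same proof).
-/

set_option autoImplicit false

namespace Cfsg.Agent.Cit.Nil.Slrel

open Subgroup Cfsg.Agent.Transfer.SL23Recog Cfsg.Agent.Transfer.SL23Section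

variable {G : Type*} [Group G]

theorem exists_slrel [Finite G] {T : Subgroup G} {c z : G} (hT : IsQuat T c z)
    (Q : Subgroup G) (hQ : Q ≤ T) (g : G) (hgQ : g ∈ normalizer (Q : Set G))
    (hg : Odd (orderOf g)) (hgc : g ∉ centralizer (Q : Set G)) :
    ∃ i j t : G, (SLRel i j t ∧ i ^ 2 ≠ 1 ∧ Odd (orderOf t)) ∧ i ∈ Q ∧ j ∈ Q ∧ t ∈ zpowers g ∧
      Q ≤ Subgroup.closure {i, j} := by
  have htwo : ∀ x ∈ T, ∃ k : ℕ, x ^ (2 ^ k) = 1 := by
    intro x hx
    obtain ⟨k, hk⟩ := hT.two ⟨x, hx⟩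
    exact ⟨k, congrArg Subtype.val hk⟩
  have hcT : zpowers c ≤ T := by rw [zpowers_le]; exact hT.c_mem
  have hgq : ∀ q ∈ Q, g * q * g⁻¹ ∈ Q := fun q hq => ((mem_normalizer_iff.mp hgQ) q).mp hq
  -- B = Q ∩ A is cyclic
  obtain ⟨b, hb⟩ : ∃ b, zpowers b = Q ⊓ zpowers c := by
    have h1 : IsCyclic (zpowers c) := inferInstance
    have h2 : IsCyclic (Q.subgroupOf (zpowers c)) := inferInstance
    obtain ⟨b, hb⟩ := h2.exists_generator
    refine ⟨((b : zpowers c) : G), ?_⟩
    apply le_antisymm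
    · rw [zpowers_le]
      exact mem_inf.mpr ⟨b.2, (b : zpowers c).2⟩
    · intro x hx
      obtain ⟨hx1, hx2⟩ := mem_inf.mp hx
      obtain ⟨k, hk⟩ := mem_zpowers_iff.mp (hb ⟨⟨x, hx2⟩, hx1⟩)
      rw [mem_zpowers_iff]
      exact ⟨k, by simpa using congrArg (fun y : (Q.subgroupOf (zpowers c)) => ((y : zpowers c) : G)) hk⟩
  have hbB : b ∈ Q ⊓ zpowers c := by rw [← hb]; exact mem_zpowers b
  obtain ⟨hbQ, hbA⟩ := mem_inf.mp hbB
  obtain ⟨kb, hkb⟩ := htwo b (hQ hbQ)
  by_cases hcase : g * b * g⁻¹ ∈ zpowers c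
  · -- then g centralises Q
    exfalso
    have hgb : Commute g b := by
      apply commute_of_zpowers hkb hg
      rw [hb]
      exact mem_inf.mpr ⟨hgq b hbQ, hcase⟩
    have hgB : ∀ x ∈ Q, x ∈ zpowers c → Commute g x := by
      intro x hx1 hx2
      have : x ∈ zpowers b := by rw [hb]; exact mem_inf.mpr ⟨hx1, hx2⟩
      obtain ⟨k, rfl⟩ := mem_zpowers_iff.mp this
      exact hgb.zpow_right k
    apply hgc
    rw [mem_centralizer_iff]
    intro q hq
    by_cases hqA : q ∈ zpowers c
    · exact (hgB q hq hqA).eq.symm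
    · have h1 : g * q * g⁻¹ ∉ zpowers c := by
        intro h1
        have h2 : Commute g (g * q * g⁻¹) := hgB _ (hgq q hq) h1
        apply hqA
        have h3 : q = g * q * g⁻¹ := by
          have h4 := h2.eq
          have h5 : g * (g * q * g⁻¹) = g * q := by rw [h4]; group
          exact (mul_left_cancel h5).symm
        rw [h3]; exact h1
      -- u = q⁻¹ (g q g⁻¹)
      have hu : q⁻¹ * (g * q * g⁻¹) ∈ zpowers c :=
        hT.quot _ (hQ hq) _ (hQ (hgq q hq)) hqA h1
      have huQ : q⁻¹ * (g * q * g⁻¹) ∈ Q := mul_mem (inv_mem hq) (hgq q hq)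
      set u := q⁻¹ * (g * q * g⁻¹) with hu_def
      have hgu : Commute g u := hgB u huQ hu
      have h2 : g * q * g⁻¹ = q * u := by rw [hu_def]; group
      have h3 : ∀ m : ℕ, g ^ m * q * (g ^ m)⁻¹ = q * u ^ m := by
        intro m
        induction m with
        | zero => simp
        | succ m ih =>
          have : g ^ (m + 1) * q * (g ^ (m + 1))⁻¹ = g * (g ^ m * q * (g ^ m)⁻¹) * g⁻¹ := by
            rw [pow_succ']; group
          rw [this, ih]
          have h4 : g * (q * u ^ m) * g⁻¹ = (g * q * g⁻¹) * (g * u ^ m * g⁻¹) := by group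
          rw [h4, h2, (hgu.pow_right m).eq, mul_inv_cancel_right, mul_assoc, pow_succ']
      have h5 := h3 (orderOf g)
      rw [pow_orderOf_eq_one] at h5
      have h6 : u ^ orderOf g = 1 := by
        simpa using h5.symm
      obtain ⟨k, hk⟩ := htwo u (hcT hu)
      have h7 : u = 1 := by
        rw [← orderOf_eq_one_iff]
        exact Nat.eq_one_of_dvd_coprimes
          (Nat.Coprime.pow_left k (Nat.coprime_two_left.mpr hg))
          (orderOf_dvd_of_pow_eq_one hk) (orderOf_dvd_of_pow_eq_one h6)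
      rw [h7, mul_one, mul_inv_eq_iff_eq_mul] at h2
      exact h2.symm
  · -- j = g b g⁻¹ is outside A
    set j := g * b * g⁻¹ with hj_def
    have hjQ : j ∈ Q := hgq b hbQ
    have hjz : j ^ 2 = z := hT.sq j (hQ hjQ) hcase
    have hzg : g * (b ^ 2) * g⁻¹ = z := by
      rw [← hjz, hj_def, conj_pow]
    have hb4 : b ^ 4 = 1 := by
      have h1 : (g * (b ^ 2) * g⁻¹) ^ 2 = 1 := by rw [hzg, hT.z_sq]
      rw [conj_pow, ← pow_mul] at h1
      have h2 : g * b ^ (2 * 2) = g := by
        rw [mul_inv_eq_one] at h1; exact h1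
      simpa using h2
    have hb2 : b ^ 2 = z := by
      rcases hT.invol (b ^ 2) (pow_mem hbA 2) (by rw [← pow_mul]; exact hb4) with h1 | h1
      · exfalso
        apply hT.z_ne
        rw [← hzg, h1]; group
      · exact h1
    have hbne : b ^ 2 ≠ 1 := by rw [hb2]; exact hT.z_ne
    have hgz : g * z * g⁻¹ = z := by
      rw [hb2] at hzg; exact hzg
    have hQR : QRel b j :=
      { hi := hb4
        hj := by rw [hjz, hb2]
        hji := hT.conj j (hQ hjQ) hcase b hbA }
    set l := g * j * g⁻¹ with hl_def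
    have hlQ : l ∈ Q := hgq j hjQ
    have hl2 : l ^ 2 = z := by
      rw [hl_def, conj_pow, hjz, hgz]
    have hbj : b ≠ j := by
      intro h1; apply hcase; rw [← h1]; exact hbA
    have horder : g ^ (orderOf g + 1) = g := by rw [pow_succ, pow_orderOf_eq_one, one_mul]
    -- l is not in ⟨b⟩
    have hlA : l ∉ zpowers c := by
      intro hlA
      have h1 : l ∈ zpowers b := by rw [hb]; exact mem_inf.mpr ⟨hlQ, hlA⟩
      have h2 : g ^ 2 * b * (g ^ 2)⁻¹ = l := by
        rw [hl_def, hj_def]; simp [pow_succ, mul_assoc]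
      have h3 : Commute (g ^ 2) b := by
        apply commute_of_zpowers hkb
        · exact Odd.of_dvd_nat hg (orderOf_pow_dvd 2)
        · rw [h2]; exact h1
      have h4 : Commute g b := by
        obtain ⟨m, hm⟩ := hg
        have h5 : (g ^ 2) ^ (m + 1) = g := by
          rw [← pow_mul, show 2 * (m + 1) = (2 * m + 1) + 1 by ring, ← hm, horder]
        rw [← h5]
        exact h3.pow_left _
      apply hbj
      rw [hj_def, h4.eq, mul_inv_cancel_right]
    -- l is not in ⟨j⟩
    have hlj : l ∉ zpowers j := by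
      intro h1
      obtain ⟨k, hk⟩ := htwo j (hQ hjQ)
      have h2 : Commute g j := commute_of_zpowers hk hg h1
      apply hbj
      have h3 : g⁻¹ * j * g = j := by
        rw [mul_assoc, ← h2.eq]; group
      have h4 : g⁻¹ * j * g = b := by rw [hj_def]; group
      rw [← h4, h3]
    have h1 : j⁻¹ * l ∈ zpowers b := by
      rw [hb]
      exact mem_inf.mpr ⟨mul_mem (inv_mem hjQ) hlQ, hT.quot j (hQ hjQ) l (hQ hlQ) hcase hlA⟩
    obtain ⟨k, hk⟩ : ∃ k : Fin 4, b ^ (k : ℕ) = j⁻¹ * l := by
      obtain ⟨m, hm⟩ := (mem_powers_iff_mem_zpowers.mpr h1 : j⁻¹ * l ∈ Submonoid.powers b)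
      exact ⟨⟨m % 4, Nat.mod_lt _ (by norm_num)⟩, by
        change b ^ (m % 4) = _
        rw [← pow_eq_pow_mod m hb4]; exact hm⟩
    have hlk : l = j * b ^ (k : ℕ) := by rw [hk]; group
    have hQcl : ∀ x ∈ Q, ∃ y ∈ zpowers b, x = y ∨ x = j * y := by
      intro x hx
      by_cases hxA : x ∈ zpowers c
      · exact ⟨x, by rw [hb]; exact mem_inf.mpr ⟨hx, hxA⟩, Or.inl rfl⟩
      · refine ⟨j⁻¹ * x, ?_, Or.inr (by group)⟩
        rw [hb]
        exact mem_inf.mpr ⟨mul_mem (inv_mem hjQ) hx, hT.quot j (hQ hjQ) x (hQ hx) hcase hxA⟩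
    fin_cases k
    · exfalso
      apply hlj
      simp only [pow_zero, mul_one] at hlk
      rw [hlk]; exact mem_zpowers j
    · -- l = j * b
      refine ⟨b, j * b, g⁻¹, ⟨?_, hbne, by rw [orderOf_inv]; exact hg⟩, hbQ, mul_mem hjQ hbQ,
        inv_mem (mem_zpowers g), ?_⟩
      swap
      · have hbc : b ∈ Subgroup.closure ({b, j * b} : Set G) := subset_closure (by simp)
        have hjbc : j * b ∈ Subgroup.closure ({b, j * b} : Set G) := subset_closure (by simp)
        have hjc : j ∈ Subgroup.closure ({b, j * b} : Set G) := by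
          have := mul_mem hjbc (inv_mem hbc)
          rwa [mul_inv_cancel_right] at this
        intro x hx
        obtain ⟨y, hy, hxy⟩ := hQcl x hx
        have hyc : y ∈ Subgroup.closure ({b, j * b} : Set G) := (zpowers_le.2 hbc) hy
        rcases hxy with rfl | rfl
        · exact hyc
        · exact mul_mem hjc hyc
      have hlk' : l = j * b := by simpa using hlk
      have hbjb : b * j = j * b⁻¹ := by
        have := hQR.hji
        rw [mul_inv_eq_iff_eq_mul] at this
        rw [eq_mul_inv_iff_mul_eq, mul_assoc, this]; group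
      have hjb2 : (j * b) ^ 2 = b ^ 2 := by
        rw [pow_two, mul_assoc, ← mul_assoc b, hbjb, inv_mul_cancel_right, ← pow_two, hQR.hj]
      have hg1 : g * (j * b) * g⁻¹ = b := by
        have : g * (j * b) * g⁻¹ = (g * j * g⁻¹) * (g * b * g⁻¹) := by group
        rw [this, ← hl_def, ← hj_def, hlk', mul_assoc, hbjb, ← mul_assoc, ← pow_two, hQR.hj]
        group
      exact
        { hi := hb4
          hj := hjb2
          hji := by
            have : j * b * b * (j * b)⁻¹ = j * b * j⁻¹ := by group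
            rw [this, hQR.hji]
          hti := by
            rw [inv_inv]
            nth_rewrite 1 [← hg1]
            group
          htj := by
            have h5 : b * (j * b) = j := by rw [← mul_assoc, hbjb, inv_mul_cancel_right]
            rw [inv_inv, h5, ← hlk', hl_def]
            group }
    · exfalso
      apply hlj
      have : l = j ^ 3 := by
        rw [hlk]
        change j * b ^ 2 = j ^ 3
        rw [← hQR.hj]; group
      rw [this]
      exact pow_mem (mem_zpowers j) 3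
    · -- l = j * b^3 = b * j
      refine ⟨b, j, g, ⟨?_, hbne, hg⟩, hbQ, hjQ, mem_zpowers g, ?_⟩
      swap
      · have hbc : b ∈ Subgroup.closure ({b, j} : Set G) := subset_closure (by simp)
        have hjc : j ∈ Subgroup.closure ({b, j} : Set G) := subset_closure (by simp)
        intro x hx
        obtain ⟨y, hy, hxy⟩ := hQcl x hx
        have hyc : y ∈ Subgroup.closure ({b, j} : Set G) := (zpowers_le.2 hbc) hy
        rcases hxy with rfl | rfl
        · exact hyc
        · exact mul_mem hjc hyc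
      have hlk' : l = b * j := by
        rw [hlk]
        change j * b ^ 3 = b * j
        rw [hQR.jpow, show 3 * 3 = 4 + 4 + 1 from rfl, pow_add, pow_add, hb4]
        group
      exact
        { toQRel := hQR
          hti := rfl
          htj := hlk' }

end Cfsg.Agent.Cit.Nil.Slrel
end

-- part: Cit/Nil/Dich
section
set_option linter.all false
open scoped Cfsg.Agent.FastGrp

-- part: Cit/Nil/QLift
section
/-!
# Lifting a normal subgroup of `J / O(J)`
-/

set_option autoImplicit false
set_option linter.style.haveILetI false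

namespace Cfsg.Agent.Cit.Nil.QLift

open Subgroup Cfsg Cit

variable {J : Type*} [Group J] [Finite J]

/-- `J₀ / O(J₀) ≃ N` for the preimage `J₀` of a normal subgroup `N` of `J / O(J)` -/
theorem equiv {N : Subgroup (J ⧸ oddCore J)} (hN : N.Normal) :
    Nonempty ((↥(N.comap (QuotientGroup.mk' (oddCore J))) ⧸
      oddCore ↥(N.comap (QuotientGroup.mk' (oddCore J)))) ≃* N) := by
  obtain ⟨M, hM⟩ : ∃ M, M = N.comap (QuotientGroup.mk' (oddCore J)) := ⟨_, rfl⟩
  rw [← hM]
  have hMn : M.Normal := by rw [hM]; infer_instance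
  let π := QuotientGroup.mk' (oddCore J)
  let f : M →* (J ⧸ oddCore J) := π.comp M.subtype
  have hr : f.range = N := by
    ext y
    constructor
    · rintro ⟨x, rfl⟩
      have h1 : ∀ y ∈ M, π y ∈ N := fun y hy => by rw [hM] at hy; exact hy
      exact h1 x x.2
    · intro hy
      obtain ⟨x, rfl⟩ := QuotientGroup.mk'_surjective (oddCore J) y
      refine ⟨⟨x, ?_⟩, rfl⟩
      rw [hM]; exact hy
  have hO : oddCore (J ⧸ oddCore J) = ⊥ := Lib.Cores.pPrimeCore_quotient_pPrimeCore 2
  have hk : f.ker = oddCore M := by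
    apply le_antisymm
    · refine Lib.Cores.le_pPrimeCore inferInstance ?_
      have h1 : f.ker.map M.subtype ≤ oddCore J := by
        rintro _ ⟨x, hx, rfl⟩
        exact (QuotientGroup.eq_one_iff _).1 hx
      have h2 := card_dvd_of_le h1
      rw [card_map_of_injective M.subtype_injective] at h2
      exact Nat.Coprime.coprime_dvd_left h2 (Lib.Cores.pPrimeCore_coprime 2)
    · intro x hx
      have h1 : ((oddCore M).map f).Normal := by
        have h2 : (oddCore M).map f = ((oddCore M).map M.subtype).map π := by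
          rw [Subgroup.map_map]
        rw [h2]
        have h3 : (pPrimeCore 2 M).Characteristic := Lib.Cores.pPrimeCore_characteristic 2
        have h4 : ((pPrimeCore 2 M).map M.subtype).Normal := inferInstance
        exact h4.map _ (QuotientGroup.mk'_surjective _)
      have h5 : (oddCore M).map f ≤ oddCore (J ⧸ oddCore J) := by
        refine Lib.Cores.le_pPrimeCore h1 ?_
        exact Nat.Coprime.coprime_dvd_left (card_map_dvd _ _) (Lib.Cores.pPrimeCore_coprime 2)
      have h6 : f x ∈ (oddCore M).map f := ⟨x, hx, rfl⟩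
      have h7 := h5 h6
      rw [hO, mem_bot] at h7
      exact h7
  exact ⟨(QuotientGroup.quotientMulEquivOfEq hk.symm).trans
    ((QuotientGroup.quotientKerEquivRange f).trans (MulEquiv.subgroupCongr hr))⟩

end Cfsg.Agent.Cit.Nil.QLift
end

-- part: Cit/Nil/Dich
section
/-!
# S1309: the type of `J`

`dich` : a finite group `J` with quaternion Sylow 2-subgroups and exactly one involution `z` is 2-nilpotent or has a
normal subgroup `M ∋ z` such that `M / O(M)` is `SL(2,q)`, `q` odd, or the non-split double cover of `A₇`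
(S0483 is a hypothesis).
-/

set_option autoImplicit false
set_option linter.style.haveILetI false
set_option linter.unusedSectionVars false

namespace Cfsg.Agent.Cit.Nil.Dich

open Subgroup Cfsg Cit
open Transfer.SL23Recog
open SignalizersComponents.Components

open scoped commutatorElement

universe u

local notation "SL23" => Matrix.SpecialLinearGroup (Fin 2) (ZMod 3)

/-- the hypothesis of S1310 on `J / O(J)` -/
def IsTy (X : Type*) [Group X] : Prop :=
  (∃ (F : Type) (_ : Field F) (_ : Fintype F), Odd (Fintype.card F) ∧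
      Nonempty (X ≃* Matrix.SpecialLinearGroup (Fin 2) F)) ∨
    Cfsg.IsNonsplitDoubleCover X ↥(alternatingGroup (Fin 7))

theorem IsTy.congr {X Y : Type*} [Group X] [Group Y] (e : X ≃* Y) (h : IsTy X) : IsTy Y := by
  rcases h with ⟨F, i, j, hF, ⟨f⟩⟩ | h
  · exact Or.inl ⟨F, i, j, hF, ⟨e.symm.trans f⟩⟩
  · exact Or.inr (Fischer.Centralizer.isNonsplitDoubleCover_congr e h)

/-! ### `O(X) = 1` -/

section quot

variable {X : Type u} [Group X] [Finite X] {z : X}

structure RQ (z : X) : Prop where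
  core : oddCore X = ⊥
  ord : orderOf z = 2
  uniq : ∀ t : X, orderOf t = 2 → t = z

theorem RQ.rank (h : RQ z) : PRankLE 2 1 X := by
  intro A hA hexp
  have h1 : (A : Set X) ⊆ {1, z} := by
    intro a ha
    by_cases h1 : a = 1
    · exact Or.inl h1
    · exact Or.inr (h.uniq a (orderOf_eq_prime (hexp a ha) h1))
  have h3 : Nat.card (A : Set X) ≤ Nat.card ({1, z} : Set X) := Nat.card_mono (Set.toFinite _) h1
  have h4 : Nat.card ({1, z} : Set X) ≤ 2 := by
    rw [Nat.card_coe_set_eq]
    exact (Set.ncard_insert_le _ _).trans (by simp)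
  simpa only [_root_.pow_one, _root_.ge_iff_le, _root_.SetLike.coe_sort_coe] using h3.trans h4

theorem RQ.central (h : RQ z) (g : X) : g * z * g⁻¹ = z := by
  apply h.uniq
  rw [← h.ord]
  exact (MulAut.conj g).orderOf_eq z

theorem RQ.sq (h : RQ z) {q : X} (hq : orderOf q = 4) : q * q = z := by
  apply h.uniq
  rw [← pow_two, orderOf_pow' q two_ne_zero, hq]
  norm_num

theorem RQ.zz (h : RQ z) : z * z = 1 := by
  rw [← pow_two, ← h.ord, pow_orderOf_eq_one]

theorem RQ.or (h : RQ z) {a : X} (ha : a * a = 1) : a = 1 ∨ a = z := by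
  by_cases h1 : a = 1
  · exact Or.inl h1
  · exact Or.inr (h.uniq a (orderOf_eq_prime (by rw [pow_two, ha]) h1))

theorem oddCore_of_subnormal {L : Subgroup X} (h : oddCore X = ⊥) (hL : L.IsSubnormal) : oddCore ↥L = ⊥ := by
  have h3 := Lib.PComponents.map_pPrimeCore_le_of_isSubnormal (p := 2) hL
  have h4 : pPrimeCore 2 X = ⊥ := h
  rw [h4, le_bot_iff, Subgroup.map_eq_bot_iff_of_injective _ (Subgroup.subtype_injective _)] at h3
  exact h3

theorem RQ.comp_normal (h : RQ z) {L : Subgroup X} (hL : IsComponent L) : L.Normal := by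
  have hO := oddCore_of_subnormal h.core hL.1
  haveI := quasisimple_nontrivial hL.2
  obtain ⟨-, S, n, ⟨e⟩⟩ := SignalizersComponents.QsRankOne.exists_central_involution hL.2
    (OddHalf.RankOne.even_of_oddCore hO) (SignalizersComponents.QsBasic.pRankLE_subgroup h.rank L)
  have hgq : IsGQ ((S : Subgroup L).map L.subtype) :=
    ⟨n, ⟨((S : Subgroup L).equivMapOfInjective _ L.subtype_injective).symm.trans e⟩⟩
  obtain ⟨c, v, z', m, hq⟩ := exists_gq hgq
  obtain ⟨q₁, h1, q₂, h2, h14, h24, -, h12⟩ := hq.exists_pair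
  have hle : (S : Subgroup L).map L.subtype ≤ L := map_subtype_le _
  refine ⟨fun x hx g => ?_⟩
  have key : L.map (MulAut.conj g).toMonoidHom = L := by
    by_contra hne
    have hc := component_commutator_eq_bot_of_ne (isComponent_conj g hL) hL hne
    have hcomm : ∀ a ∈ L.map (MulAut.conj g).toMonoidHom, ∀ b ∈ L, a * b = b * a := by
      intro a ha b hb
      have h5 : ⁅a, b⁆ ∈ ⁅L.map (MulAut.conj g).toMonoidHom, L⁆ := commutator_mem_commutator ha hb
      rw [hc, mem_bot, commutatorElement_eq_one_iff_mul_comm] at h5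
      exact h5
    have ha : g * q₁ * g⁻¹ ∈ L.map (MulAut.conj g).toMonoidHom := ⟨q₁, hle h1, rfl⟩
    have h6 := hcomm _ ha q₁ (hle h1)
    have h7 : (g * q₁ * g⁻¹ * q₁) * (g * q₁ * g⁻¹ * q₁) = 1 := by
      calc (g * q₁ * g⁻¹ * q₁) * (g * q₁ * g⁻¹ * q₁)
          = g * q₁ * g⁻¹ * (q₁ * (g * q₁ * g⁻¹)) * q₁ := by group
        _ = g * q₁ * g⁻¹ * (g * q₁ * g⁻¹ * q₁) * q₁ := by rw [h6]
        _ = (g * (q₁ * q₁) * g⁻¹) * (q₁ * q₁) := by group
        _ = 1 := by rw [h.sq h14, h.central, h.zz]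
    have h8 : q₁ * q₂ = q₂ * q₁ := by
      have h9 := hcomm _ ha q₂ (hle h2)
      rcases h.or h7 with h10 | h10
      · have h11 : g * q₁ * g⁻¹ = q₁⁻¹ := eq_inv_of_mul_eq_one_left h10
        rw [h11] at h9
        calc q₁ * q₂ = q₁ * (q₂ * q₁⁻¹) * q₁ := by group
          _ = q₁ * (q₁⁻¹ * q₂) * q₁ := by rw [h9]
          _ = q₂ * q₁ := by group
      · have h11 : g * q₁ * g⁻¹ = q₁⁻¹ * z := by
          rw [eq_mul_inv_of_mul_eq h10]
          have := h.central q₁⁻¹
          rw [inv_inv] at this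
          calc z * q₁⁻¹ = (q₁⁻¹ * z * q₁) * q₁⁻¹ := by rw [this]
            _ = q₁⁻¹ * z := by group
        rw [h11] at h9
        have h12 : ∀ y, z * y = y * z := fun y => by
          have := h.central y
          rw [mul_inv_eq_iff_eq_mul] at this
          exact this.symm
        have h13 : q₁⁻¹ * q₂ = q₂ * q₁⁻¹ := by
          have h14' : q₁⁻¹ * q₂ * z = q₂ * q₁⁻¹ * z := by
            calc q₁⁻¹ * q₂ * z = q₁⁻¹ * (z * q₂) := by rw [h12 q₂]; group
              _ = q₁⁻¹ * z * q₂ := by group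
              _ = q₂ * (q₁⁻¹ * z) := h9
              _ = q₂ * q₁⁻¹ * z := by group
          exact mul_right_cancel h14'
        calc q₁ * q₂ = q₁ * (q₂ * q₁⁻¹) * q₁ := by group
          _ = q₁ * (q₁⁻¹ * q₂) * q₁ := by rw [h13]
          _ = q₂ * q₁ := by group
    rw [← h8] at h12
    have h15 : z' = 1 := by
      have : q₁ * q₂ * 1 = q₁ * q₂ * z' := by rw [mul_one]; exact h12
      exact (mul_left_cancel this).symm
    exact hq.z_ne h15
  rw [← key]
  exact ⟨x, hx, rfl⟩

theorem RQ.of_comp (hGW : OddHalf.RankOne.GW.{u}) (h : RQ z) {L : Subgroup X} (hL : IsComponent L) :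
    ∃ N : Subgroup X, N.Normal ∧ z ∈ N ∧ IsTy N := by
  obtain ⟨t, ht, ht2, h1⟩ := OddHalf.RankOne.rank_one hGW hL.2 (oddCore_of_subnormal h.core hL.1)
    (SignalizersComponents.QsBasic.pRankLE_subgroup h.rank L)
  refine ⟨L, h.comp_normal hL, ?_, ?_⟩
  · have h2 : (t : X) = z := h.uniq _ (by rw [Subgroup.orderOf_coe]; exact ht2)
    rw [← h2]
    exact t.2
  · rcases h1 with ⟨F, i, j, hF, -, h1⟩ | h1
    · exact Or.inl ⟨F, i, j, hF, h1⟩
    · exact Or.inr h1

/-! ### no component -/

theorem card_le_two {i j : X} {R : Subgroup X} (hq : QRel i j) (hi2 : i ^ 2 ≠ 1)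
    (hR : R = Subgroup.closure {i, j}) {A : Subgroup X} (hA : A ≤ R) (hAi : ∀ a ∈ A, a * i = i * a)
    (hAj : ∀ a ∈ A, a * j = j * a) : Nat.card A ≤ 2 := by
  have hnc := Transfer.SL23Section.j_not_commute hq hi2
  have h1 : (A : Set X) ⊆ {1, i ^ 2} := by
    intro x hx
    have hxR : x ∈ Subgroup.closure ({i, j} : Set X) := by rw [← hR]; exact hA hx
    obtain ⟨a, b, ha, hb, hab⟩ := hq.closure_eq hxR
    have h2 := hAi x hx
    have h3 := hAj x hx
    have hb0 : b = 0 := by
      by_contra hb0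
      have hb1 : b = 1 := by omega
      subst hb1
      apply hnc
      rw [hab, pow_one] at h2
      -- `i ^ a j i = i i ^ a j`
      have h4 : i ^ a * (j * i) = i ^ a * (i * j) := by
        calc i ^ a * (j * i) = i ^ a * j * i := by group
          _ = i * (i ^ a * j) := h2
          _ = (i * i ^ a) * j := by group
          _ = (i ^ a * i) * j := by rw [← pow_succ', ← pow_succ]
          _ = i ^ a * (i * j) := by group
      exact mul_left_cancel h4
    subst hb0
    rw [pow_zero, mul_one] at hab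
    subst hab
    have h5 : j * i ^ a * j⁻¹ = i ^ a := by rw [mul_inv_eq_iff_eq_mul, h3]
    have h6 : j * i ^ a * j⁻¹ = (i ^ a)⁻¹ := by rw [← conj_pow, hq.hji, inv_pow]
    rw [h5] at h6
    have h7 : i ^ (2 * a) = 1 := by
      rw [two_mul, pow_add]
      nth_rewrite 2 [h6]
      exact mul_inv_cancel _
    have h8 : orderOf i = 4 := by
      rw [show (4 : ℕ) = 2 ^ (1 + 1) from rfl]
      exact orderOf_eq_prime_pow (by simpa using hi2) (by simpa using hq.hi)
    have h9 := orderOf_dvd_of_pow_eq_one h7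
    rw [h8] at h9
    interval_cases a
    · left; simp
    · omega
    · right; rfl
    · omega
  have h3 : Nat.card (A : Set X) ≤ Nat.card ({1, i ^ 2} : Set X) := Nat.card_mono (Set.toFinite _) h1
  have h4 : Nat.card ({1, i ^ 2} : Set X) ≤ 2 := by
    rw [Nat.card_coe_set_eq]
    exact (Set.ncard_insert_le _ _).trans (by simp)
  exact h3.trans h4

/-- `|X| ≤ 48` if `C(R) ≤ R ≃ Q₈`, `R` normal -/
theorem card_le {i j : X} {R : Subgroup X} (hRn : R.Normal) (hq : QRel i j) (hi2 : i ^ 2 ≠ 1)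
    (hR : R = Subgroup.closure {i, j}) (hC : centralizer (R : Set X) ≤ R) : Nat.card X ≤ 48 := by
  have hiR : i ∈ R := by rw [hR]; exact _root_.Subgroup.subset_closure (by simp)
  have hjR : j ∈ R := by rw [hR]; exact _root_.Subgroup.subset_closure (by simp)
  have hi4 : orderOf i = 4 := by
    rw [show (4 : ℕ) = 2 ^ (1 + 1) from rfl]
    exact orderOf_eq_prime_pow (by simpa only [_root_.pow_one, _root_.ne_eq] using hi2) (by simpa using hq.hi)
  have e1 : Nonempty (R ≃* QuaternionGroup 2) := by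
    rw [hR]
    refine Lib.DihedralRecog.closure_quaternion (m := 2) i j ?_ ?_ ?_ ?_
    · rw [hi4]
    · rw [← pow_two]; exact hq.hj
    · exact hq.hji
    · intro h1
      obtain ⟨n, hn⟩ := mem_zpowers_iff.1 h1
      apply Transfer.SL23Section.j_not_commute hq hi2
      rw [← hn]
      exact (Commute.self_zpow i n).symm
  obtain ⟨e⟩ := e1
  have h24 : Nat.card (MulAut R) = 24 := by
    rw [← PermutationGroups.AutQuaternion.card_mulAut]
    exact Nat.card_congr (MulAut.congr e).toEquiv
  let f : X →* MulAut R := MulAut.conjNormal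
  have hfin : Finite (MulAut R) := Nat.finite_of_card_ne_zero (by rw [h24]; norm_num)
  have hk : ∀ x ∈ f.ker, ∀ r ∈ R, x * r = r * x := by
    intro x hx r hr
    have h1 : f x ⟨r, hr⟩ = ⟨r, hr⟩ := by
      have h2 : f x = 1 := hx
      rw [h2]; rfl
    have h2 := congrArg Subtype.val h1
    have h3 : x * r * x⁻¹ = r := h2
    rwa [mul_inv_eq_iff_eq_mul] at h3
  have hkR : f.ker ≤ R := by
    intro x hx
    apply hC
    rw [mem_centralizer_iff]
    intro r hr
    exact (hk x hx r hr).symm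
  have h2 : Nat.card f.ker ≤ 2 :=
    card_le_two hq hi2 hR hkR (fun a ha => hk a ha i hiR) (fun a ha => hk a ha j hjR)
  have h3 : Nat.card f.range ≤ 24 := by
    rw [← h24]
    exact Nat.le_of_dvd Nat.card_pos (Subgroup.card_subgroup_dvd_card f.range)
  have h4 : Nat.card X = Nat.card f.range * Nat.card f.ker := by
    rw [← Nat.card_congr (QuotientGroup.quotientKerEquivRange f).toEquiv]
    exact Subgroup.card_eq_card_quotient_mul_card_subgroup _
  rw [h4]
  calc Nat.card f.range * Nat.card f.ker ≤ 24 * 2 := Nat.mul_le_mul h3 h2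
    _ = 48 := by norm_num

theorem RQ.of_no_comp (h : RQ z) {S : Sylow 2 X} {n : ℕ}
    (hS : Nonempty (↥(S : Subgroup X) ≃* QuaternionGroup (2 ^ (n + 1)))) (hnc : ¬ HasComponent X)
    (h2 : ¬ IsPGroup 2 X) : ∃ N : Subgroup X, N.Normal ∧ z ∈ N ∧ IsTy N := by
  haveI : Fact (Nat.Prime 2) := ⟨Nat.prime_two⟩
  obtain ⟨R, hRdef⟩ : ∃ R, R = pCore 2 X := ⟨_, rfl⟩
  have hRn : R.Normal := by rw [hRdef]; exact Lib.Cores.pCore_normal 2
  have hRp : IsPGroup 2 R := by rw [hRdef]; exact Lib.Cores.pCore_isPGroup 2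
  have hRS : R ≤ (S : Subgroup X) := by rw [hRdef]; exact Lib.Cores.pCore_le_sylow S
  have hC : centralizer (R : Set X) ≤ R := by
    rw [hRdef, SignalizersComponents.PConstrained.centralizer_pCore_le_iff_layer_eq_bot 2 h.core]
    change sSup {K : Subgroup X | IsComponent K} = ⊥
    rw [sSup_eq_bot]
    intro K hK
    exact absurd ⟨K, hK⟩ hnc
  -- an element of odd prime order
  obtain ⟨p, hp, hp2, hpX⟩ : ∃ p : ℕ, p.Prime ∧ p ≠ 2 ∧ p ∣ Nat.card X := by
    by_contra hcon
    push Not at hcon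
    apply h2
    rw [IsPGroup.iff_card]
    exact ⟨_, Nat.eq_prime_pow_of_unique_prime_dvd Nat.card_pos.ne' (fun {d} hd hdX => by
      by_contra h3
      exact hcon d hd h3 hdX)⟩
  haveI : Fact p.Prime := ⟨hp⟩
  obtain ⟨g, hg⟩ := exists_prime_orderOf_dvd_card' p hpX
  have hgo : Odd (orderOf g) := by rw [hg]; exact hp.odd_of_ne_two hp2
  -- elements of odd order of `R` are trivial
  have hodd : ∀ x ∈ R, Odd (orderOf x) → x = 1 := by
    intro x hx ho
    obtain ⟨k, hk⟩ := hRp ⟨x, hx⟩
    have hk' : x ^ 2 ^ k = 1 := congrArg Subtype.val hk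
    rw [← orderOf_eq_one_iff]
    exact Nat.eq_one_of_dvd_coprimes (Nat.Coprime.pow_left k (Nat.coprime_two_left.mpr ho))
      (orderOf_dvd_of_pow_eq_one hk') dvd_rfl
  have hgC : g ∉ centralizer (R : Set X) := by
    intro hgC
    have h3 := hodd g (hC hgC) hgo
    rw [h3, orderOf_one] at hg
    exact hp.one_lt.ne hg
  obtain ⟨c, z', hq⟩ := Transfer.QuatSylow.exists_isQuat (S : Subgroup X) (n + 1) hS
  obtain ⟨i, j, t, ⟨hrel, hi2, hto⟩, hi, hj, -, hRcl⟩ := Slrel.exists_slrel hq R hRS g
    (by rw [normalizer_eq_top]; exact mem_top g) hgo hgC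
  have hRe : R = Subgroup.closure {i, j} := by
    apply le_antisymm hRcl
    rw [closure_le]
    rintro x (rfl | rfl)
    · exact hi
    · exact hj
  -- `t ^ 3 = 1`
  have e1 : t * (i * j) * t⁻¹ = i := by
    have : t * (i * j) * t⁻¹ = (t * i * t⁻¹) * (t * j * t⁻¹) := by group
    rw [this, hrel.hti, hrel.htj, ← mul_assoc, hrel.toQRel.ji, mul_assoc, ← pow_two, hrel.hj, ← pow_add,
      show 3 + 2 = 4 + 1 from rfl, pow_add, hrel.hi, one_mul, pow_one]
  have ci : t ^ 3 * i * (t ^ 3)⁻¹ = i := by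
    have : t ^ 3 * i * (t ^ 3)⁻¹ = t * (t * (t * i * t⁻¹) * t⁻¹) * t⁻¹ := by
      simp only [pow_succ, mul_assoc, _root_.pow_zero, _root_.one_mul, _root_.mul_inv_rev]
    rw [this, hrel.hti, hrel.htj, e1]
  have cj' : t ^ 3 * j * (t ^ 3)⁻¹ = j := by
    have : t ^ 3 * j * (t ^ 3)⁻¹ = t * (t ^ 3 * i * (t ^ 3)⁻¹) * t⁻¹ := by
      rw [← hrel.hti]; group
    rw [this, ci, hrel.hti]
  have ht3 : t ^ 3 = 1 := by
    apply hodd
    · apply hC
      have h3 : R ≤ centralizer {t ^ 3} := by
        rw [hRe, closure_le]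
        rintro x (rfl | rfl)
        · rw [mul_inv_eq_iff_eq_mul] at ci
          exact mem_centralizer_singleton_iff.2 ci.symm
        · rw [mul_inv_eq_iff_eq_mul] at cj'
          exact mem_centralizer_singleton_iff.2 cj'.symm
      rw [mem_centralizer_iff]
      intro x hx
      exact mem_centralizer_singleton_iff.1 (h3 hx)
    · exact Odd.of_dvd_nat hto (orderOf_pow_dvd 3)
  have ht1 : t ≠ 1 := by
    rintro rfl
    have h3 := hrel.hti
    rw [one_mul, inv_one, mul_one] at h3
    apply Transfer.SL23Section.j_not_commute hrel.toQRel hi2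
    rw [← h3]
  obtain ⟨P, hP⟩ : ∃ P : Subgroup X, P = Subgroup.closure {i, j, t} := ⟨_, rfl⟩
  have hiP : i ∈ P := by rw [hP]; exact _root_.Subgroup.subset_closure (by simp)
  have hjP : j ∈ P := by rw [hP]; exact _root_.Subgroup.subset_closure (by simp)
  have htP : t ∈ P := by rw [hP]; exact _root_.Subgroup.subset_closure (by simp)
  have hRP : R ≤ P := by
    rw [hRe, closure_le]
    rintro x (rfl | rfl)
    · exact hiP
    · exact hjP
  have hcR : Nat.card R = 8 := by
    rw [hRe]; exact Transfer.SL23Section.card_quaternion hrel.toQRel hi2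
  have hcard : Nat.card P = 24 := by
    have h3 : Nat.card P ≤ 24 := by rw [hP]; exact (hrel.card_le ht3).2
    have h4 : 8 ∣ Nat.card P := by rw [← hcR]; exact card_dvd_of_le hRP
    have h5 : 3 ∣ Nat.card P := by
      have h6 : orderOf (⟨t, htP⟩ : P) = 3 := by
        rw [Subgroup.orderOf_mk]
        exact orderOf_eq_prime ht3 ht1
      rw [← h6]
      exact _root_.orderOf_dvd_natCard _
    have h7 : 24 ∣ Nat.card P := by
      rw [show (24 : ℕ) = 8 * 3 from rfl]
      exact Nat.Coprime.mul_dvd_of_dvd_of_dvd (by norm_num) h4 h5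
    exact le_antisymm h3 (Nat.le_of_dvd Nat.card_pos h7)
  have hX : Nat.card X ≤ 48 := card_le hRn hrel.toQRel hi2 hRe hC
  have hPn : P.Normal := by
    have h3 := P.card_mul_index
    rw [hcard] at h3
    have h4 : P.index ≤ 2 := by omega
    have h5 : P.index ≠ 0 := Subgroup.index_ne_zero_of_finite
    interval_cases h6 : P.index
    · exact absurd rfl h5
    · rw [Subgroup.index_eq_one.1 h6]; infer_instance
    · exact normal_of_index_eq_two h6
  refine ⟨P, hPn, ?_, Or.inl ⟨ZMod 3, inferInstance, inferInstance, ?_, ?_⟩⟩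
  · have h3 : i ^ 2 = z := by
      apply h.uniq
      apply orderOf_eq_prime _ hi2
      rw [← pow_mul]
      exact hrel.hi
    rw [← h3]
    exact P.pow_mem hiP 2
  · rw [ZMod.card]; decide
  · have hgen : Subgroup.closure ({⟨i, hiP⟩, ⟨j, hjP⟩, ⟨t, htP⟩} : Set P) = ⊤ := by
      have h3 := Subgroup.closure_closure_coe_preimage (k := ({i, j, t} : Set X))
      subst hP
      rw [← h3]
      congr 1
      ext ⟨x, hx⟩
      simp [Subtype.ext_iff]
    exact sl23_of_relations (Transfer.SL23Section.slrel_subtype P hiP hjP htP hrel)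
      (Subtype.ext ht3) hgen hcard

theorem RQ.main (hGW : OddHalf.RankOne.GW.{u}) (h : RQ z) {S : Sylow 2 X} {n : ℕ}
    (hS : Nonempty (↥(S : Subgroup X) ≃* QuaternionGroup (2 ^ (n + 1)))) (h2 : ¬ IsPGroup 2 X) :
    ∃ N : Subgroup X, N.Normal ∧ z ∈ N ∧ IsTy N := by
  by_cases hc : HasComponent X
  · obtain ⟨L, hL⟩ := hc
    exact h.of_comp hGW (L := L) hL
  · exact h.of_no_comp hS hc h2

end quot

/-! ### the subgroup `J` -/

section group

variable {G : Type u} [Group G] [Finite G] {J : Subgroup G} {z : G}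

/-- `M / O(M)` for isomorphic groups -/
theorem quotEquiv {A B : Type*} [Group A] [Group B] [Finite A] [Finite B] (e : A ≃* B) :
    Nonempty ((A ⧸ oddCore A) ≃* (B ⧸ oddCore B)) :=
  ⟨QuotientGroup.congr (oddCore A) (oddCore B) e (Lib.Cores.map_equiv_pPrimeCore e 2)⟩

theorem rq (hz : orderOf z = 2) (hzJ : z ∈ J) (hu : ∀ t ∈ J, orderOf t = 2 → t = z) :
    RQ (QuotientGroup.mk' (oddCore J) (⟨z, hzJ⟩ : J)) := by
  haveI : Fact (Nat.Prime 2) := ⟨Nat.prime_two⟩
  refine ⟨Lib.Cores.pPrimeCore_quotient_pPrimeCore 2, ?_, ?_⟩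
  · apply orderOf_eq_prime
    · rw [← map_pow]
      have : (⟨z, hzJ⟩ : J) ^ 2 = 1 := Subtype.ext (by
        show z ^ 2 = 1
        rw [← hz, pow_orderOf_eq_one])
      rw [this, map_one]
    · intro h1
      have h2 : (⟨z, hzJ⟩ : J) ∈ oddCore J := (QuotientGroup.eq_one_iff _).1 h1
      have h3 : (⟨⟨z, hzJ⟩, h2⟩ : oddCore J) ≠ 1 := by
        intro h3
        have h4 : z = 1 := congrArg (fun y : oddCore J => ((y : J) : G)) h3
        rw [h4, orderOf_one] at hz
        omega
      have h4 : orderOf (⟨⟨z, hzJ⟩, h2⟩ : oddCore J) = 2 := by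
        rw [Subgroup.orderOf_mk, Subgroup.orderOf_mk, hz]
      have h5 := _root_.orderOf_dvd_natCard (⟨⟨z, hzJ⟩, h2⟩ : oddCore J)
      rw [h4] at h5
      have h6 := Lib.Cores.pPrimeCore_coprime (G := J) 2
      have h7 := Nat.dvd_gcd h5 (dvd_refl 2)
      rw [h6] at h7
      omega
  · intro t ht
    obtain ⟨x, rfl⟩ := QuotientGroup.mk'_surjective (oddCore J) t
    obtain ⟨k, m, hm, hkm⟩ := Nat.exists_eq_two_pow_mul_odd (orderOf_pos x).ne'
    -- `y = x ^ m`
    have hx2 : (QuotientGroup.mk' (oddCore J) x) ^ 2 = 1 := orderOf_dvd_iff_pow_eq_one.1 (dvd_of_eq ht)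
    have h1 : QuotientGroup.mk' (oddCore J) (x ^ m) = QuotientGroup.mk' (oddCore J) x := by
      obtain ⟨l, rfl⟩ := hm
      rw [map_pow, pow_add, pow_mul, hx2, one_pow, one_mul, pow_one]
    have h2 : (x ^ m) ^ 2 ^ k = 1 := by
      rw [← pow_mul, mul_comm, ← hkm, pow_orderOf_eq_one]
    have h3 : (x ^ m) ^ 2 ∈ oddCore J := by
      rw [← QuotientGroup.eq_one_iff]
      show QuotientGroup.mk' (oddCore J) ((x ^ m) ^ 2) = 1
      rw [map_pow, h1, hx2]
    have h4 : (x ^ m) ^ 2 = 1 := by
      have h5 : ((⟨(x ^ m) ^ 2, h3⟩ : oddCore J)) ^ 2 ^ k = 1 := Subtype.ext (by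
        show ((x ^ m) ^ 2) ^ 2 ^ k = 1
        rw [← pow_mul, mul_comm, pow_mul, h2, one_pow])
      have h6 := orderOf_dvd_of_pow_eq_one h5
      have h7 := _root_.orderOf_dvd_natCard (⟨(x ^ m) ^ 2, h3⟩ : oddCore J)
      have h8 : orderOf (⟨(x ^ m) ^ 2, h3⟩ : oddCore J) = 1 :=
        Nat.eq_one_of_dvd_coprimes (Nat.Coprime.pow_right k (Lib.Cores.pPrimeCore_coprime (G := J) 2)) h7 h6
      rw [orderOf_eq_one_iff] at h8
      exact congrArg Subtype.val h8
    have h5 : x ^ m ≠ 1 := by
      intro h5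
      rw [h5, map_one] at h1
      rw [← h1, orderOf_one] at ht
      omega
    have h6 : orderOf ((x ^ m : J) : G) = 2 := by
      rw [Subgroup.orderOf_coe]
      exact orderOf_eq_prime h4 h5
    have h7 := hu _ (x ^ m).2 h6
    rw [← h1]
    congr 1
    exact Subtype.ext h7

/-- the Sylow 2-subgroups of `J / O(J)` -/
theorem sylow_quot {n : ℕ} {S : Sylow 2 J} (e : ↥(S : Subgroup J) ≃* QuaternionGroup (2 ^ (n + 1))) :
    ∃ T : Sylow 2 (J ⧸ oddCore J), Nonempty (↥(T : Subgroup (J ⧸ oddCore J)) ≃* QuaternionGroup (2 ^ (n + 1))) := by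
  haveI : Fact (Nat.Prime 2) := ⟨Nat.prime_two⟩
  have hSN : Disjoint (S : Subgroup J) (oddCore J) := by
    apply Subgroup.disjoint_of_coprime_natCard
    obtain ⟨k, hk⟩ := IsPGroup.iff_card.mp S.isPGroup'
    rw [hk]
    exact Nat.Coprime.pow_left _ (Nat.Coprime.symm (Lib.Cores.pPrimeCore_coprime (G := J) 2))
  refine ⟨S.mapSurjective (QuotientGroup.mk'_surjective (oddCore J)), ?_⟩
  have hinj : Function.Injective (((QuotientGroup.mk' (oddCore J)).comp (S : Subgroup J).subtype)) := by
    rw [injective_iff_map_eq_one]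
    intro x hx
    have hx' : (x : J) ∈ oddCore J := by
      rw [MonoidHom.comp_apply, QuotientGroup.mk'_apply, QuotientGroup.eq_one_iff] at hx
      exact hx
    have : (x : J) ∈ (⊥ : Subgroup J) := hSN.le_bot ⟨x.2, hx'⟩
    exact Subtype.ext (Subgroup.mem_bot.mp this)
  have hrange : ((QuotientGroup.mk' (oddCore J)).comp (S : Subgroup J).subtype).range =
      ((S.mapSurjective (QuotientGroup.mk'_surjective (oddCore J)) : Sylow 2 (J ⧸ oddCore J)) :
        Subgroup (J ⧸ oddCore J)) := by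
    rw [MonoidHom.range_comp, Subgroup.range_subtype]
    rfl
  exact ⟨((MulEquiv.subgroupCongr hrange).symm.trans (MonoidHom.ofInjective hinj).symm).trans e⟩

/-- if `J / O(J)` is a 2-group, `J` is 2-nilpotent -/
theorem nil_of_two (h : IsPGroup 2 (J ⧸ oddCore J)) : NilK J := by
  haveI : Fact (Nat.Prime 2) := ⟨Nat.prime_two⟩
  intro Q hQ
  have h1 : (OO J ⊔ Q) ⊓ J = OO J ⊔ Q := inf_eq_left.2 (sup_le (OO_le J) hQ.1)
  have h2 : (OO J ⊔ Q).relIndex J ∣ (OO J).relIndex J := relIndex_dvd_of_le_left J le_sup_left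
  have h3 : (OO J ⊔ Q).relIndex J ∣ Q.relIndex J := relIndex_dvd_of_le_left J le_sup_right
  have h4 : (OO J).relIndex J = Nat.card (J ⧸ oddCore J) := by
    have h5 : (OO J).subgroupOf J = oddCore J := by
      rw [OO, subgroupOf, comap_map_eq_self_of_injective J.subtype_injective]
    show ((OO J).subgroupOf J).index = _
    rw [h5]; rfl
  obtain ⟨k, hk⟩ := IsPGroup.iff_card.1 h
  rw [h4, hk] at h2
  obtain ⟨l, -, hl⟩ := (Nat.dvd_prime_pow Nat.prime_two).1 h2
  have h6 : (OO J ⊔ Q).relIndex J = 1 := by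
    rcases Nat.eq_zero_or_pos l with rfl | hl0
    · simpa only [_root_.Subgroup.relIndex_eq_one, _root_.pow_zero] using hl
    · exfalso
      apply hQ.2.2
      rw [hl] at h3
      exact (dvd_pow_self 2 hl0.ne').trans h3
  exact relIndex_eq_one.1 h6

/-- **the dichotomy** -/
theorem dich (hGW : OddHalf.RankOne.GW.{u}) (hz : orderOf z = 2) (hzJ : z ∈ J)
    (hQ : ∃ S : Sylow 2 ↥J, ∃ n : ℕ, Nonempty (↥(S : Subgroup ↥J) ≃* QuaternionGroup (2 ^ (n + 1))))
    (hu : ∀ t ∈ J, orderOf t = 2 → t = z) :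
    NilK J ∨ ∃ M : Subgroup G, M ≤ J ∧ (M.subgroupOf J).Normal ∧ z ∈ M ∧ IsTy (↥M ⧸ oddCore ↥M) := by
  by_cases h : IsPGroup 2 (J ⧸ oddCore J)
  · exact Or.inl (nil_of_two h)
  right
  obtain ⟨S, n, ⟨e⟩⟩ := hQ
  obtain ⟨T, hT⟩ := sylow_quot e
  obtain ⟨N, hN, hzN, hty⟩ := (rq hz hzJ hu).main hGW hT h
  obtain ⟨M, hM⟩ : ∃ M, M = N.comap (QuotientGroup.mk' (oddCore J)) := ⟨_, rfl⟩
  have hMn : M.Normal := by rw [hM]; infer_instance
  refine ⟨M.map J.subtype, map_subtype_le _, ?_, ?_, ?_⟩
  · have : (M.map J.subtype).subgroupOf J = M := by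
      rw [subgroupOf, comap_map_eq_self_of_injective J.subtype_injective]
    rw [this]; exact hMn
  · exact ⟨⟨z, hzJ⟩, by rw [hM]; exact hzN, rfl⟩
  · obtain ⟨e1⟩ := QLift.equiv hN
    rw [← hM] at e1
    obtain ⟨e2⟩ := quotEquiv (M.equivMapOfInjective _ J.subtype_injective)
    exact (hty.congr e1.symm).congr e2

end group

end Cfsg.Agent.Cit.Nil.Dich
end
end
end
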