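import Cfsg.Agent.Cit.Nil.LO.FormQ_m3
import Cfsg.Agent.Cit.Nil.LO.Wt_m3
import Cfsg.Agent.KFacts.RgdFld.Two_m3
import Cfsg.Agent.Cit.OneBasic
import Cfsg.Agent.GH.QB.ModelG2_m3
import Cfsg.Agent.Lib.BenderMaximal
import Cfsg.Agent.Lib.KleinGen
import Cfsg.Agent.TwoFusion.PerfCore
import Cfsg.Prelude.Def_TwoFusion
import Cfsg.Agent.Cit.Nil.Comp.MThreeAbs
import Cfsg.Agent.Transfer.SL23Recog
import Cfsg.Agent.Cit.Nil.RFour.Gen_m3
import Mathlib
import Cfsg.Agent.Cit.OmB3.PairEx_m3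
import Cfsg.Agent.Nodes.CardSup_m3
import Cfsg.Agent.Transfer.SL23Section
import Cfsg.Agent.S0071
import Cfsg.Agent.Lib.Cores
import Cfsg.Agent.Lib.FinFast
import Cfsg.Agent.ONType.PslCard
import Cfsg.Agent.Cit.OmB3.Torus_m3
import Cfsg.Agent.Lib.SylowNormalInf
import Cfsg.Agent.TwoFusion.StronglyEmbeddedBasic
import Cfsg.Agent.FastGrp
import Cfsg.Agent.Prune
set_option linter.all false

section
prune_inst 0x7ffcfefbafb83ddfffff7e7fffdddffdf9f8dfffeffffdfb7fe8ebff3fff2b0cebe5fbafede0d2fe0ef7e2b490b87b13fd7eceffeb6bdc7ffffd5ff45ffbee1ff7ffbf8d51f7b83e1ffc6ffffbf17fce7f3fffffffffffffffffffffffffffbeffffffffffff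

-- part: Cit/Nil/ROne/Bridge
section
set_option linter.all false
open scoped Cfsg.Agent.FastGrp

/-!
# (6b), `r = 1`: from the hypothesis of S1309 to the world `W`

* `Kf Om t` : the member of `Om` over `t`;
* `W.of_hyp` : `Hyp Om`, all members of order 8, one member over each involution ==> `W (zz '' Om) (Kf Om)`;
* `OO_eq_bot` : `O(C(z_K)) = 1 ==> O(K) = 1`;
* `c3_of` : (C3) in the form of `ROne.C3`;
* `World G Z K` : everything which `AssemblyNil.W3` gives for `r = 1`, core-free;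
* `R1Free` : the literal statement for `r = 1`, core-free; `leafR1_of` : it implies `AssemblyNil.LeafR1` (with S1311 and
  `AssemblyNil.UnbalStmt`).
-/

set_option autoImplicit false
set_option linter.style.haveILetI false
set_option linter.unusedSectionVars false

namespace Cfsg.Agent.Cit.Nil.ROne

open Subgroup Cfsg Cit Transfer.SL23Recog

universe u

variable {G : Type*} [Group G]

open Classical in
/-- the member of `Om` over `t` -/
noncomputable def Kf (Om : Set (Subgroup G)) (t : G) : Subgroup G :=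
  if h : ∃ L ∈ Om, zz L = t then h.choose else ⊥

theorem Kf_zz {Om : Set (Subgroup G)} (h1 : ∀ K ∈ Om, ∀ L ∈ Om, zz K = zz L → K = L) {K : Subgroup G}
    (hK : K ∈ Om) : Kf Om (zz K) = K := by
  have hex : ∃ L ∈ Om, zz L = zz K := ⟨K, hK, rfl⟩
  unfold Kf
  rw [dif_pos hex]
  exact h1 _ hex.choose_spec.1 _ hK hex.choose_spec.2

section

variable [Finite G] {Om : Set (Subgroup G)}

theorem W.of_hyp (h : Hyp Om) (h8 : ∀ K ∈ Om, Nat.card K = 8)
    (h1 : ∀ K ∈ Om, ∀ L ∈ Om, zz K = zz L → K = L) : W (zz '' Om) (Kf Om) := by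
  haveI : Fact (Nat.Prime 2) := ⟨Nat.prime_two⟩
  refine ⟨?_, ?_, ?_, ?_, ?_, ?_⟩
  · rintro _ ⟨K, hK, rfl⟩
    exact h.zz_mul hK
  · rintro _ ⟨K, hK, rfl⟩
    exact h.zz_ne hK
  · rintro _ ⟨K, hK, rfl⟩
    rw [Kf_zz h1 hK]
    exact h.zz_mem hK
  · rintro _ ⟨K, hK, rfl⟩ g
    exact ⟨cj g K, h.conj K hK g, h.zz_cj hK g⟩
  · rintro _ ⟨K, hK, rfl⟩ g
    rw [← h.zz_cj hK g, Kf_zz h1 (h.conj K hK g), Kf_zz h1 hK]
  · rintro _ ⟨K, hK, rfl⟩
    rw [Kf_zz h1 hK]
    obtain ⟨S, n, ⟨e⟩⟩ := h.quat K hK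
    have h2 : IsPGroup 2 K := IsPGroup.of_card (n := 3) (h8 K hK)
    have h3 : (S : Subgroup K) = ⊤ := by
      have h4 : IsPGroup 2 (⊤ : Subgroup K) := h2.to_subgroup ⊤
      exact S.is_maximal' h4 le_top |>.symm
    have h5 : Nat.card (S : Subgroup K) = 8 := by rw [h3, card_top, h8 K hK]
    have h6 : n = 0 := by
      rw [Nat.card_congr e.toEquiv, Nat.card_eq_fintype_card, QuaternionGroup.card, pow_succ] at h5
      by_contra hn
      have h7 : 2 ^ 1 ≤ 2 ^ n := Nat.pow_le_pow_right (by norm_num) (by omega)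
      omega
    subst h6
    exact ⟨(((MulEquiv.subgroupCongr h3).trans topEquiv).symm.trans e)⟩

/-- `O(C(z_K)) = 1` ==> `O(K) = 1` -/
theorem OO_eq_bot (h : Hyp Om) {K : Subgroup G} (hK : K ∈ Om) (hb : centralizerPPrimeCore 2 (zz K) = ⊥) :
    OO K = ⊥ := by
  have hle : K ≤ centralizer {zz K} := h.le_centralizer hK
  have h3 := Lib.PComponents.map_pPrimeCore_le_of_isSubnormal (p := 2) (h.sub K hK)
  have h4 : pPrimeCore 2 ↥(centralizer ({zz K} : Set G)) = ⊥ := by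
    unfold centralizerPPrimeCore at hb
    exact (Subgroup.map_eq_bot_iff_of_injective _ (Subgroup.subtype_injective _)).1 hb
  rw [h4, le_bot_iff, Subgroup.map_eq_bot_iff_of_injective _ (Subgroup.subtype_injective _)] at h3
  have h5 := Lib.Cores.map_equiv_pPrimeCore (subgroupOfEquivOfLe hle) 2
  rw [h3, Subgroup.map_bot] at h5
  rw [OO, oddCore, ← h5, Subgroup.map_bot]

/-- `K = Q` -/
theorem card_eight {K : Subgroup G} (hn : NilK K) (h3 : Nil.C3 K) (hO : OO K = ⊥) : Nat.card K = 8 := by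
  obtain ⟨Q, hQ, h8, -⟩ := h3
  have h1 := hn Q hQ
  rw [hO, bot_sup_eq] at h1
  rw [le_antisymm h1 hQ.1, h8]

end

/-! ### (C3) -/

namespace QEight

set_option maxRecDepth 100000 in
theorem four_aux : ∀ p q : Q, Ok p q → ∀ y : Q, y * y = QuaternionGroup.a 2 → (F p q y = y ∨ F p q y = y⁻¹) →
    ∀ x, F p q (F p q (F p q (F p q x))) = x := by
  decide

/-- an automorphism fixing an axis has order dividing 4 -/
theorem four (α : MulAut Q) (y : Q) (hy : y * y = QuaternionGroup.a 2) (h : α y = y ∨ α y = y⁻¹) : α ^ 4 = 1 := by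
  have h1 := four_aux _ _ (aut_ok α) y hy
  rw [← funF α] at h1
  refine MulEquiv.ext fun x => ?_
  have h2 := h1 h x
  rw [pow_succ, pow_succ, pow_succ, pow_one]
  exact h2

end QEight

section

variable [Finite G] {Z : Set G} {K : G → Subgroup G} {z c : G}

theorem W.rho_pow (h : W Z K) (hz : z ∈ Z) (hc : c * z = z * c) (n : ℕ) :
    ∃ hcn : c ^ n * z = z * c ^ n, h.rho hz (c ^ n) hcn = h.rho hz c hc ^ n := by
  induction n with
  | zero =>
    refine ⟨by rw [pow_zero, one_mul, mul_one], ?_⟩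
    rw [pow_zero (h.rho hz c hc)]
    refine (h.rho_eq_one hz _).2 fun k _ => ?_
    rw [pow_zero, one_mul, mul_one]
  | succ n ih =>
    obtain ⟨hcn, h1⟩ := ih
    have h2 : c ^ (n + 1) * z = z * c ^ (n + 1) := by
      rw [pow_succ, mul_assoc, hc, ← mul_assoc, hcn, mul_assoc]
    refine ⟨h2, ?_⟩
    have h3 : ∀ g (hg : g * z = z * g), g = c ^ n * c → h.rho hz g hg = h.rho hz c hc ^ n * h.rho hz c hc := by
      rintro g hg rfl
      rw [h.rho_mul hz hcn hc, h1]
    rw [h3 _ h2 (pow_succ c n), ← pow_succ]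

/-- an element of odd order which acts nontrivially on `K z` moves all axes -/
theorem W.axes (h : W Z K) (hz : z ∈ Z) (hc : c * z = z * c) (hodd : Odd (orderOf c)) (hn : ¬ Cen K c z) {y : G}
    (hy : y ∈ K z) (hyy : y * y = z) : c * y * c⁻¹ ≠ y ∧ c * y * c⁻¹ ≠ y⁻¹ := by
  by_contra hcon
  rw [not_and_or, not_not, not_not] at hcon
  have hyy' : h.e hz ⟨y, hy⟩ * h.e hz ⟨y, hy⟩ = QuaternionGroup.a 2 := by
    rw [← h.e_mul hz hy hy, ← h.e_z hz]
    congr 1
    exact Subtype.ext hyy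
  have h1 : h.rho hz c hc ^ 4 = 1 := by
    refine QEight.four _ (h.e hz ⟨y, hy⟩) hyy' ?_
    rw [h.rho_e hz hc hy]
    rcases hcon with h2 | h2
    · left
      congr 1
      exact Subtype.ext h2
    · right
      rw [← h.e_inv hz hy]
      congr 1
      exact Subtype.ext h2
  have h2 : h.rho hz c hc ^ orderOf c = 1 := by
    obtain ⟨h3, h4⟩ := h.rho_pow hz hc (orderOf c)
    rw [← h4]
    refine (h.rho_eq_one hz h3).2 fun k _ => ?_
    rw [pow_orderOf_eq_one, one_mul, mul_one]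
  apply hn
  rw [← h.rho_eq_one hz hc, ← orderOf_eq_one_iff]
  refine Nat.eq_one_of_dvd_coprimes (a := 4) (b := orderOf c) ?_ (orderOf_dvd_of_pow_eq_one h1)
    (orderOf_dvd_of_pow_eq_one h2)
  exact Nat.Coprime.pow_left 2 (Nat.coprime_two_left.2 hodd)

/-- (C3) for the members over the involutions of `Z` -/
theorem W.c3_of (h : W Z K) (h3 : ∀ z ∈ Z, Nil.C3 (K z)) : C3 Z K := by
  intro z hz y hy hyy
  obtain ⟨Q, hQ, h8, c, hcK, -, hc3, q, hq, hcq⟩ := h3 z hz
  have hQK : Q = K z := eq_of_le_of_card_ge hQ.1 (by rw [h8, h.card8 hz])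
  have hcz : c * z = z * c := by
    have h1 : c * z * c⁻¹ ∈ K z := (mem_normalizer_iff.1 hcK z).1 (h.mem z hz)
    rcases h.uniq hz h1 (by rw [show c * z * c⁻¹ * (c * z * c⁻¹) = c * (z * z) * c⁻¹ by group, h.sq z hz]; group) with h2 | h2
    · exact absurd (by rw [conj_eq_one_iff] at h2; exact h2) (h.ne z hz)
    · rwa [mul_inv_eq_iff_eq_mul] at h2
  have hodd : Odd (orderOf c) := by
    obtain ⟨k, hk⟩ := hc3 ⟨c, mem_zpowers c⟩
    have hk' : c ^ 3 ^ k = 1 := congrArg Subtype.val hk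
    exact Odd.of_dvd_nat (Odd.pow (by decide)) (orderOf_dvd_of_pow_eq_one hk')
  have hn : ¬ Cen K c z := by
    intro hcen
    exact hcq (hcen q (by rw [← hQK]; exact hq))
  exact ⟨c, hcz, h.axes hz hcz hodd hn hy hyy⟩

end

/-! ### The world of `r = 1`, core-free -/

/-- the world of `r = 1`, core-free: everything which `AssemblyNil.W3` gives -/
structure World (Z : Set G) (K : G → Subgroup G) : Prop extends AssemblyNil.FS G where
  w : W Z K
  c3 : C3 Z K
  one : OneCls Z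
  free : ∀ t : G, orderOf t = 2 → centralizerPPrimeCore 2 t = ⊥
  /-- S1310 does not apply -/
  ncl : ¬ AssemblyNil.Cl G
  /-- `|Om(S)| ≥ 2` -/
  two : ∃ S : Sylow 2 G, ∃ z ∈ Z, ∃ u ∈ Z, z ≠ u ∧ K z ≤ S ∧ K u ≤ S

section

variable [Finite G]

theorem World.of_w3 {K : Subgroup G} (w : AssemblyNil.W3 G K) (h1 : (AssemblyNil.ovr K).ncard = 1)
    (hf : ∀ t : G, orderOf t = 2 → centralizerPPrimeCore 2 t = ⊥) : World (zz '' cls K) (Kf (cls K)) := by
  haveI : Fact (Nat.Prime 2) := ⟨Nat.prime_two⟩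
  have hyp := w.hyp
  have hO : ∀ L ∈ cls K, OO L = ⊥ := fun L hL => OO_eq_bot hyp hL (hf _ (hyp.orderOf_zz hL))
  have h8 : ∀ L ∈ cls K, Nat.card L = 8 := by
    rintro L ⟨g, rfl⟩
    rw [card_cj]
    exact card_eight w.nil w.c3 (hO K (self_mem_cls K))
  have hinj : ∀ L ∈ cls K, ∀ M ∈ cls K, zz L = zz M → L = M := by
    obtain ⟨L0, hL0⟩ := Set.ncard_eq_one.1 h1
    have h2 : ∀ M ∈ cls K, zz M = zz K → M = K := by
      intro M hM hMz
      have h3 : M ∈ AssemblyNil.ovr K := ⟨hM, hMz⟩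
      have h4 : K ∈ AssemblyNil.ovr K := ⟨self_mem_cls K, rfl⟩
      rw [hL0, Set.mem_singleton_iff] at h3 h4
      rw [h3, h4]
    rintro L ⟨g, rfl⟩ M hM hz
    have h3 := h2 (cj g⁻¹ M) (hyp.conj M hM _) (by
      rw [hyp.zz_cj hM, ← hz, hyp.zz_cj (self_mem_cls K)]
      group)
    rw [← h3, cj_cj_inv]
  have hW := W.of_hyp hyp h8 hinj
  refine ⟨w.toFS, hW, ?_, ?_, hf, w.ncl, ?_⟩
  · refine hW.c3_of ?_
    rintro _ ⟨L, ⟨g, rfl⟩, rfl⟩
    rw [Kf_zz hinj (hyp.conj K (self_mem_cls K) g)]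
    obtain ⟨Q, hQ, hQ8, c, hcK, hcQ, hc3, q, hq, hcq⟩ := w.c3
    refine ⟨cj g Q, hQ.cj g, by rw [card_cj, hQ8], g * c * g⁻¹, ?_, ?_, ?_, g * q * g⁻¹, conj_mem_cj hq, ?_⟩
    · rw [mem_normalizer_iff_cj, cj_mul, cj_mul, cj_inv_cj, mem_normalizer_iff_cj.1 hcK]
    · rw [mem_normalizer_iff_cj, cj_mul, cj_mul, cj_inv_cj, mem_normalizer_iff_cj.1 hcQ]
    · have h3 : zpowers (g * c * g⁻¹) = cj g (zpowers c) := by
        rw [cj_def, MonoidHom.map_zpowers]
        rfl
      rw [h3]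
      exact isPGroup_cj hc3
    · intro h4
      apply hcq
      have h5 : g * (c * q) * g⁻¹ = g * (q * c) * g⁻¹ := by
        calc g * (c * q) * g⁻¹ = g * c * g⁻¹ * (g * q * g⁻¹) := by group
          _ = g * q * g⁻¹ * (g * c * g⁻¹) := h4
          _ = g * (q * c) * g⁻¹ := by group
      exact mul_left_cancel (mul_right_cancel h5)
  · rintro _ ⟨L, ⟨g, rfl⟩, rfl⟩ _ ⟨M, ⟨g', rfl⟩, rfl⟩
    refine ⟨g' * g⁻¹, ?_⟩
    rw [hyp.zz_cj (self_mem_cls K), hyp.zz_cj (self_mem_cls K)]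
    group
  · by_contra hcon
    push Not at hcon
    apply w.two
    refine ⟨hyp, fun S hS L hL M hM => ?_⟩
    obtain ⟨P, hP⟩ := hS.exists_le_sylow
    have hle : ∀ L ∈ OmS (cls K) S, L ≤ (P : Subgroup G) := by
      intro L hL
      have h3 : S.relIndex L ∣ 2 ^ 3 := by
        have := relIndex_dvd_card S L
        rwa [h8 L hL.1] at this
      obtain ⟨k, -, hk⟩ := (Nat.dvd_prime_pow Nat.prime_two).1 h3
      have h4 : k = 0 := by
        by_contra hk0
        exact hL.2 (by rw [hk]; exact dvd_pow_self 2 hk0)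
      rw [h4, pow_zero] at hk
      exact (relIndex_eq_one.1 hk).trans hP
    by_contra hne
    refine hcon P (zz L) ⟨L, hL.1, rfl⟩ (zz M) ⟨M, hM.1, rfl⟩ (fun h3 => hne (hinj L hL.1 M hM.1 h3)) ?_ ?_
    · rw [Kf_zz hinj hL.1]
      exact hle L hL
    · rw [Kf_zz hinj hM.1]
      exact hle M hM

end

end Cfsg.Agent.Cit.Nil.ROne
end

-- part: Cit/Nil/ROne/FStar
section
set_option linter.all false
open scoped Cfsg.Agent.FastGrp

/-!
# `r = 1`: `G₀ = F*(G)`

`World.fsimp` : `F*(G)` is a nonabelian simple normal subgroup with trivial centraliser (`FSimp`);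
`World.mem_fstar` : (0.1)(e) `Z ⊆ F*(G)`; general forms `fsimp_of`, `W.mem_of_fsimp`.
-/

set_option autoImplicit false
set_option linter.style.haveILetI false

namespace Cfsg.Agent.Cit.Nil.ROne

open Subgroup Cfsg Cit

variable {G : Type*} [Group G] [Finite G] {Z : Set G} {K : G → Subgroup G} {G0 : Subgroup G}

/-- `F*(G)` simple and nonabelian -/
theorem fsimp_of (hs : IsSimpleGroup ↥(generalizedFittingSubgroup G))
    (hna : ¬ IsMulCommutative ↥(generalizedFittingSubgroup G)) : FSimp (generalizedFittingSubgroup G) where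
  nor := Lib.GenFitting.genFitting_normal (G := G)
  sim := hs
  na hc := hna ⟨⟨fun a b => Subtype.ext (hc a a.2 b b.2)⟩⟩
  cen := End.centralizer_fstar hs hna

/-- **(0.1)(e)** `Z ⊆ G₀` -/
theorem W.mem_of_fsimp (h : W Z K) (f : FSimp G0) (h2 : 2 ∣ Nat.card G0) {z : G} (hz : z ∈ Z) : z ∈ G0 := by
  haveI := f.nor
  haveI := f.sim
  have hO : OO G0 = ⊥ := by
    have h3 : (OO G0).Normal := by
      refine ⟨fun n hn g => ?_⟩
      have h4 : cj g G0 = G0 := mem_normalizer_iff_cj.1 (by rw [normalizer_eq_top_iff.2 f.nor]; exact mem_top g)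
      have h5 : cj g (OO G0) = OO G0 := by rw [← OO_cj, h4]
      rw [← h5]
      exact conj_mem_cj hn
    by_contra hne
    have h4 := f.le (N := OO G0) (fun g _ n hn => h3.conj_mem n hn g) hne
    exact odd_OO G0 (h2.trans (card_dvd_of_le h4))
  by_contra hn
  have h3 : zz (K z) ∉ G0 := by rwa [h.zz_K hz]
  have h4 := h.hyp.lemma_two (K := K z) (M := G0) (by
    rintro _ ⟨u, hu, rfl⟩
    exact h.two hu) ⟨z, hz, rfl⟩ (by rw [normalizer_eq_top_iff.2 f.nor]; exact le_top) hO h3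
  rw [h.zz_K hz] at h4
  apply h.ne z hz
  have h5 : z ∈ centralizer (G0 : Set G) := by
    rw [mem_centralizer_iff]
    exact fun g hg => mem_centralizer_singleton_iff.1 (h4 hg)
  rwa [f.cen, mem_bot] at h5

theorem World.fsimp (w : World Z K) : FSimp (generalizedFittingSubgroup G) := fsimp_of w.simple w.na

/-- **(0.1)(e)** -/
theorem World.mem_fstar (w : World Z K) {z : G} (hz : z ∈ Z) : z ∈ generalizedFittingSubgroup G :=
  w.w.mem_of_fsimp w.fsimp w.even hz

end Cfsg.Agent.Cit.Nil.ROne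
end

-- part: Cit/Nil/SC
section
set_option linter.all false
open scoped Cfsg.Agent.FastGrp

/-!
# S1309: SC (abstract)

`Z` a set of involutions of `G0 = F*(G)` (simple), closed under conjugation, such that every Sylow 2-subgroup
centralises an element of `Z`; `N z ≤ C(z)` equivariant with `N z = N t` for commuting `z, t ∈ Z`; `O(C(z)) = 1`; no
strongly closed commutative subgroup in `G0`. Then `N z = 1` (`Sit.eq_bot`; S1173 is a hypothesis).

* `Sit.fus` : fusion in a Sylow 2-subgroup `S` with `z ∈ C(S)` is controlled by `N_G(N z)`;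
* `Sit.no_ab` : no commutative 2-subgroup of `G0` is normalised by `N_G(N z)`;
* `Sit.solvable` : `C(T)` is solvable for `T ≠ 1` strongly closed.
-/

set_option autoImplicit false
set_option linter.style.haveILetI false
set_option linter.unusedSectionVars false

namespace Cfsg.Agent.Cit.Nil.SC

open Subgroup Cfsg Cfsg.Agent.Cit Cfsg.Agent.Cit.Nil.ROne

variable {G : Type*} [Group G]

theorem cj_mul' (x y : G) (A : Subgroup G) : cj x (cj y A) = cj (x * y) A := by
  ext g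
  simp only [mem_cj]
  constructor
  · intro h
    have e : (x * y)⁻¹ * g * (x * y) = y⁻¹ * (x⁻¹ * g * x) * y := by group
    rwa [e]
  · intro h
    have e : (x * y)⁻¹ * g * (x * y) = y⁻¹ * (x⁻¹ * g * x) * y := by group
    rwa [e] at h

theorem cj_max {Y A : Subgroup G} {m : G} (hm : cj m Y = Y) (hAY : A ≤ Y) (hn : Y ≤ normalizer (A : Set G)) :
    cj m A ≤ Y ∧ Y ≤ normalizer (cj m A : Set G) := by
  refine ⟨(cj_mono m hAY).trans hm.le, fun y hy => ?_⟩
  rw [mem_normalizer_iff_cj]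
  have h1 : m⁻¹ * y * m ∈ Y := by
    rw [← mem_cj, hm]; exact hy
  have h2 := mem_normalizer_iff_cj.1 (hn h1)
  have h3 : y * m = m * (m⁻¹ * y * m) := by group
  rw [cj_mul', h3, ← cj_mul', h2]

/-- the situation of SC -/
structure Sit [Finite G] (Z : Set G) (G0 : Subgroup G) (N : G → Subgroup G) : Prop where
  sq : ∀ z ∈ Z, z * z = 1
  ne : ∀ z ∈ Z, z ≠ 1
  conj : ∀ z ∈ Z, ∀ g : G, g * z * g⁻¹ ∈ Z
  fs : FSimp G0
  sub : ∀ z ∈ Z, z ∈ G0
  syl : ∀ S : Sylow 2 G, ∃ t ∈ Z, ∀ s ∈ (S : Subgroup G), s * t = t * s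
  cores : ∀ z ∈ Z, OO (centralizer {z}) = ⊥
  closed : ∀ (S : Sylow 2 G) (A : Subgroup G), A ≠ ⊥ → A ≤ G0 → (∀ x ∈ A, ∀ y ∈ A, x * y = y * x) →
    ¬ IsStronglyClosed A (S : Subgroup G)
  eqv : ∀ z ∈ Z, ∀ g : G, N (g * z * g⁻¹) = cj g (N z)
  cent : ∀ z ∈ Z, ∀ n ∈ N z, n * z = z * n
  comm : ∀ z ∈ Z, ∀ t ∈ Z, z * t = t * z → N z = N t

namespace Sit

variable [Finite G] {Z : Set G} {G0 : Subgroup G} {N : G → Subgroup G} (h : Sit Z G0 N) {z t u x y g : G}

include h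

theorem isPGroup (hz : z ∈ Z) : IsPGroup 2 (zpowers z) := by
  refine IsPGroup.of_card (n := 1) ?_
  rw [Nat.card_zpowers, pow_one]
  exact orderOf_eq_prime (by rw [pow_two]; exact h.sq z hz) (h.ne z hz)

/-- elements commuting with `z` normalise `N z` -/
theorem norm_of_comm (hz : z ∈ Z) (hg : g * z = z * g) : g ∈ normalizer (N z : Set G) := by
  rw [mem_normalizer_iff_cj, ← h.eqv z hz g, hg, mul_inv_cancel_right]

theorem norm_mem (hg : g ∈ normalizer (N z : Set G)) (hu : u ∈ Z) (hN : N u = N z) :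
    g * u * g⁻¹ ∈ Z ∧ N (g * u * g⁻¹) = N z := by
  refine ⟨h.conj u hu g, ?_⟩
  rw [h.eqv u hu g, hN]
  exact mem_normalizer_iff_cj.1 hg

/-- **fusion** -/
theorem fus (S : Sylow 2 G) (hz : z ∈ Z) (hzS : ∀ s ∈ (S : Subgroup G), s * z = z * s) (hx : x ∈ (S : Subgroup G))
    (hg : g * x * g⁻¹ ∈ (S : Subgroup G)) : ∃ m ∈ normalizer (N z : Set G), m * x * m⁻¹ = g * x * g⁻¹ := by
  set y := g * x * g⁻¹ with hy
  have hyp : IsPGroup 2 (zpowers y) := S.isPGroup'.to_le (by rw [zpowers_le]; exact hg)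
  have hyC : y ∈ centralizer {y} := mem_centralizer_singleton_iff.2 rfl
  have hzy : z * y = y * z := (hzS y hg).symm
  have hzC : z ∈ centralizer {y} := mem_centralizer_singleton_iff.2 hzy
  -- 2-subgroups `⟨z', y⟩` of `C(y)`
  have key : ∀ v ∈ Z, v * y = y * v → ∃ P, Syl P (centralizer {y}) ∧ v ∈ P ∧ y ∈ P := by
    intro v hv hvy
    have h1 : zpowers v ≤ normalizer (zpowers y : Set G) := by
      rw [zpowers_le, mem_normalizer_iff_cj]
      have h2 : v * y * v⁻¹ = y := by rw [hvy, mul_inv_cancel_right]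
      show (zpowers y).map (MulAut.conj v).toMonoidHom = _
      rw [MonoidHom.map_zpowers]
      show zpowers (v * y * v⁻¹) = _
      rw [h2]
    have h2 : IsPGroup 2 (zpowers v ⊔ zpowers y : Subgroup G) := Cit.OneBasic.isPGroup_sup_of_normalizes (h.isPGroup hv) hyp h1
    obtain ⟨P, hP, hle⟩ := Cit.OneBasic.exists_syl_ge h2 (sup_le (by rw [zpowers_le]; exact mem_centralizer_singleton_iff.2 hvy)
      (by rw [zpowers_le]; exact hyC))
    exact ⟨P, hP, hle (mem_sup_left (mem_zpowers v)), hle (mem_sup_right (mem_zpowers y))⟩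
  obtain ⟨P, hP, hzP, hyP⟩ := key z hz hzy
  have hgz : g * z * g⁻¹ ∈ Z := h.conj z hz g
  have hgzy : g * z * g⁻¹ * y = y * (g * z * g⁻¹) := by
    have h1 : z * x = x * z := (hzS x hx).symm
    calc g * z * g⁻¹ * y = g * (z * x) * g⁻¹ := by rw [hy]; group
      _ = g * (x * z) * g⁻¹ := by rw [h1]
      _ = _ := by rw [hy]; group
  obtain ⟨P', hP', hzP', -⟩ := key _ hgz hgzy
  obtain ⟨c, hc, hcP⟩ := hP'.exists_conj hP
  obtain ⟨S1, hS1⟩ := hP.2.1.exists_le_sylow
  obtain ⟨t, ht, htS⟩ := h.syl S1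
  have h1 : N z = N t := h.comm z hz t ht (htS z (hS1 hzP))
  have h2 : c * (g * z * g⁻¹) * c⁻¹ ∈ P := by
    rw [← hcP]; exact conj_mem_cj hzP'
  have h3 : c * (g * z * g⁻¹) * c⁻¹ = (c * g) * z * (c * g)⁻¹ := by group
  have h4 : N ((c * g) * z * (c * g)⁻¹) = N t := by
    refine h.comm _ (h.conj z hz _) t ht ?_
    rw [← h3]
    exact htS _ (hS1 h2)
  refine ⟨c * g, ?_, ?_⟩
  · rw [mem_normalizer_iff_cj, ← h.eqv z hz, h4, h1]
  · have h5 : c * y = y * c := mem_centralizer_singleton_iff.1 hc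
    calc c * g * x * (c * g)⁻¹ = c * y * c⁻¹ := by rw [hy]; group
      _ = y := by rw [h5, mul_inv_cancel_right]

theorem sylow_le (S : Sylow 2 G) (hz : z ∈ Z) (hzS : ∀ s ∈ (S : Subgroup G), s * z = z * s) :
    (S : Subgroup G) ≤ normalizer (N z : Set G) := fun _ hs => h.norm_of_comm hz (hzS _ hs)

/-- a subgroup of `S` normalised by `N_G(N z)` is strongly closed -/
theorem strong (S : Sylow 2 G) (hz : z ∈ Z) (hzS : ∀ s ∈ (S : Subgroup G), s * z = z * s) {A : Subgroup G}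
    (hn : normalizer (N z : Set G) ≤ normalizer (A : Set G)) :
    IsStronglyClosed (A ⊓ S) (S : Subgroup G) := by
  refine ⟨inf_le_right, fun x hx g hg => ?_⟩
  obtain ⟨m, hm, h1⟩ := h.fus S hz hzS hx.2 hg
  refine ⟨?_, hg⟩
  rw [← h1]
  exact (mem_normalizer_iff.1 (hn hm) x).1 hx.1

/-- **no commutative 2-subgroup of `G0` is normalised by `N_G(N z)`** -/
theorem no_ab (S : Sylow 2 G) (hz : z ∈ Z) (hzS : ∀ s ∈ (S : Subgroup G), s * z = z * s) {A : Subgroup G}
    (hA : IsPGroup 2 A) (hA0 : A ≤ G0) (hc : ∀ x ∈ A, ∀ y ∈ A, x * y = y * x)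
    (hn : normalizer (N z : Set G) ≤ normalizer (A : Set G)) : A = ⊥ := by
  by_contra hne
  have h1 : A ≤ S := by
    have h2 : IsPGroup 2 ((S : Subgroup G) ⊔ A : Subgroup G) :=
      Cit.OneBasic.isPGroup_sup_of_normalizes S.isPGroup' hA ((h.sylow_le S hz hzS).trans hn)
    have h3 := S.is_maximal' h2 le_sup_left
    exact le_sup_right.trans h3.le
  have h2 := h.strong S hz hzS hn
  rw [inf_eq_left.2 h1] at h2
  exact h.closed S A hne hA0 hc h2

/-- no 2-subgroup of `G0` is normalised by `N_G(N z)` -/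
theorem no_two (S : Sylow 2 G) (hz : z ∈ Z) (hzS : ∀ s ∈ (S : Subgroup G), s * z = z * s) {A : Subgroup G}
    (hA : IsPGroup 2 A) (hA0 : A ≤ G0) (hn : normalizer (N z : Set G) ≤ normalizer (A : Set G)) : A = ⊥ := by
  haveI : Fact (Nat.Prime 2) := ⟨Nat.prime_two⟩
  by_contra hne
  have hB : A ⊓ centralizer (A : Set G) = ⊥ := by
    refine h.no_ab S hz hzS (hA.to_le inf_le_left) (inf_le_left.trans hA0) ?_ ?_
    · intro x hx y hy
      exact mem_centralizer_iff.1 hy.2 x hx.1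
    · intro m hm
      have h1 := mem_normalizer_iff.1 (hn hm)
      rw [mem_normalizer_iff]
      have key : ∀ m, (∀ x, x ∈ A ↔ m * x * m⁻¹ ∈ A) → ∀ x ∈ A ⊓ centralizer (A : Set G),
          m * x * m⁻¹ ∈ A ⊓ centralizer (A : Set G) := by
        intro m h1 x hx
        refine ⟨(h1 x).1 hx.1, ?_⟩
        show _ ∈ centralizer (A : Set G)
        rw [mem_centralizer_iff]
        intro a ha
        have h2 : m⁻¹ * a * m ∈ A := by
          rw [h1]
          have : m * (m⁻¹ * a * m) * m⁻¹ = a := by group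
          rw [this]; exact ha
        have h3 := mem_centralizer_iff.1 hx.2 _ h2
        calc a * (m * x * m⁻¹) = m * (m⁻¹ * a * m * x) * m⁻¹ := by group
          _ = m * (x * (m⁻¹ * a * m)) * m⁻¹ := by rw [h3]
          _ = m * x * m⁻¹ * a := by group
      intro x
      refine ⟨key m h1 x, fun hx => ?_⟩
      have h2 : ∀ x, x ∈ A ↔ m⁻¹ * x * m⁻¹⁻¹ ∈ A := by
        intro x
        rw [h1 (m⁻¹ * x * m⁻¹⁻¹)]
        have : m * (m⁻¹ * x * m⁻¹⁻¹) * m⁻¹ = x := by group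
        rw [this]
      have h3 := key m⁻¹ h2 _ hx
      have h4 : m⁻¹ * (m * x * m⁻¹) * m⁻¹⁻¹ = x := by group
      rwa [h4] at h3
  haveI : Nontrivial A := (nontrivial_iff_ne_bot _).2 hne
  haveI := hA.center_nontrivial
  obtain ⟨c, hc⟩ := exists_ne (1 : center A)
  apply hc
  have h1 : ((c : A) : G) ∈ A ⊓ centralizer (A : Set G) := by
    refine ⟨(c : A).2, ?_⟩
    show _ ∈ centralizer (A : Set G)
    rw [mem_centralizer_iff]
    intro a ha
    exact congrArg Subtype.val (mem_center_iff.1 c.2 ⟨a, ha⟩)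
  rw [hB, mem_bot] at h1
  exact Subtype.ext (Subtype.ext h1)

/-- **`C(T)` is solvable for strongly closed `T ≠ 1`** -/
theorem solvable (h1173 : ∀ (S : Sylow 2 G) (T : Subgroup G), IsStronglyClosed T (S : Subgroup G) →
      ((⨅ n : ℕ, derivedSeries ↥(centralizer (T : Set G)) n).map (centralizer (T : Set G)).subtype).Normal)
    (S : Sylow 2 G) {T : Subgroup G} (hT : T ≠ ⊥) (hc : IsStronglyClosed T (S : Subgroup G)) :
    Group.IsSolvable (centralizer (T : Set G)) := by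
  have h1 := h1173 S T hc
  rw [← TwoFusion.PerfCore.perf_eq_iInf] at h1
  refine TwoFusion.PerfCore.solvable_of_perf_eq_bot ?_
  by_contra h2
  have h3 : G0 ≤ TwoFusion.PerfCore.perf (centralizer (T : Set G)) :=
    h.fs.le (fun g _ n hn => h1.conj_mem n hn g) h2
  apply hT
  rw [eq_bot_iff, ← h.fs.cen]
  intro a ha
  rw [mem_centralizer_iff]
  intro x hx
  exact (mem_centralizer_iff.1 (TwoFusion.PerfCore.perf_le _ (h3 hx)) a ha).symm

/-- `N z = 1` for `z` central in a Sylow 2-subgroup -/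
theorem eq_bot_of_central
    (h1173 : ∀ (S : Sylow 2 G) (T : Subgroup G), IsStronglyClosed T (S : Subgroup G) →
      ((⨅ n : ℕ, derivedSeries ↥(centralizer (T : Set G)) n).map (centralizer (T : Set G)).subtype).Normal)
    (S : Sylow 2 G) (hz : z ∈ Z) (hzS : ∀ s ∈ (S : Subgroup G), s * z = z * s) : N z = ⊥ := by
  haveI : Fact (Nat.Prime 2) := ⟨Nat.prime_two⟩
  by_contra hne
  have hSM := h.sylow_le S hz hzS
  -- odd order
  have hodd : ∀ u ∈ Z, ∀ F : Subgroup G, F ≤ centralizer {u} → centralizer {u} ≤ normalizer (F : Set G) →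
      ¬ 2 ∣ Nat.card F → F = ⊥ := by
    intro u hu F h1 h2 h3
    have := le_OO h1 h2 h3
    rw [h.cores u hu] at this
    exact le_bot_iff.1 this
  have h2N : 2 ∣ Nat.card (N z) := by
    by_contra h1
    refine hne (hodd z hz _ (fun n hn => mem_centralizer_singleton_iff.2 (h.cent z hz n hn)) ?_ h1)
    intro g hg
    exact h.norm_of_comm hz (mem_centralizer_singleton_iff.1 hg)
  -- `T = S ∩ N`
  set T := N z ⊓ (S : Subgroup G) with hTdef
  have hT : T ≠ ⊥ := by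
    obtain ⟨x, hx⟩ := exists_prime_orderOf_dvd_card' 2 h2N
    have hx1 : orderOf (x : G) = 2 := by rw [← hx]; exact Subgroup.orderOf_coe x
    have hxp : IsPGroup 2 (zpowers (x : G)) := IsPGroup.of_card (n := 1) (by rw [Nat.card_zpowers, hx1, pow_one])
    have hxM : zpowers (x : G) ≤ normalizer (N z : Set G) := by
      rw [zpowers_le]; exact le_normalizer x.2
    obtain ⟨P, hP, hle⟩ := Cit.OneBasic.exists_syl_ge hxp hxM
    have hS : Syl (S : Subgroup G) (normalizer (N z : Set G)) := by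
      refine ⟨hSM, S.isPGroup', fun h1 => ?_⟩
      have h2 := relIndex_mul_index hSM
      exact S.not_dvd_index (h2 ▸ h1.mul_right _)
    obtain ⟨m, hm, hmP⟩ := hP.exists_conj hS
    intro h1
    have h2 : m * x * m⁻¹ ∈ T := by
      refine ⟨(mem_normalizer_iff.1 hm _).1 x.2, ?_⟩
      show _ ∈ (S : Subgroup G)
      rw [← hmP]
      exact conj_mem_cj (hle (mem_zpowers _))
    rw [h1, mem_bot] at h2
    have h3 : (x : G) = 1 := by
      have : (x : G) = m⁻¹ * (m * x * m⁻¹) * m := by group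
      rw [this, h2]; group
    rw [h3, orderOf_one] at hx1
    omega
  have hTc : IsStronglyClosed T (S : Subgroup G) := by
    refine ⟨inf_le_right, fun x hx g hg => ?_⟩
    obtain ⟨m, hm, h1⟩ := h.fus S hz hzS hx.2 hg
    refine ⟨?_, hg⟩
    rw [← h1]
    exact (mem_normalizer_iff.1 hm x).1 hx.1
  have hsol := h.solvable h1173 S hT hTc
  -- `Y`
  set Y := closure {u | u ∈ Z ∧ N u = N z} with hYdef
  have hYC : Y ≤ centralizer (T : Set G) := by
    rw [hYdef, closure_le]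
    rintro u ⟨hu, hN⟩
    rw [SetLike.mem_coe, mem_centralizer_iff]
    intro n hn
    exact h.cent u hu n (by rw [hN]; exact hn.1)
  have hYG : Y ≤ G0 := by
    rw [hYdef, closure_le]
    rintro u ⟨hu, -⟩
    exact h.sub u hu
  have hYn : normalizer (N z : Set G) ≤ normalizer (Y : Set G) := by
    intro m hm
    rw [mem_normalizer_iff_cj]
    have key : ∀ m ∈ normalizer (N z : Set G), cj m Y ≤ Y := by
      intro m hm
      show Y.map (MulAut.conj m).toMonoidHom ≤ Y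
      rw [map_le_iff_le_comap, hYdef, closure_le]
      rintro u ⟨hu, hN⟩
      exact subset_closure (h.norm_mem hm hu hN)
    refine le_antisymm (key m hm) ?_
    have h1 := cj_mono m (key m⁻¹ (inv_mem hm))
    rwa [cj_cj_inv] at h1
  haveI := hsol
  have hYs : Group.IsSolvable Y :=
    Group.isSolvable_of_isSolvable_injective (f := Subgroup.inclusion hYC) (Subgroup.inclusion_injective hYC)
  have hcjY : ∀ m ∈ normalizer (N z : Set G), cj m Y = Y := fun m hm => mem_normalizer_iff_cj.1 (hYn hm)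
  have hnorm : ∀ A : Subgroup G, (∀ m ∈ normalizer (N z : Set G), cj m A ≤ A) →
      normalizer (N z : Set G) ≤ normalizer (A : Set G) := by
    intro A hA m hm
    rw [mem_normalizer_iff_cj]
    refine le_antisymm (hA m hm) ?_
    have h1 := cj_mono m (hA m⁻¹ (inv_mem hm))
    rwa [cj_cj_inv] at h1
  -- `O₂(Y) = 1`
  have hO2 : (pCore 2 Y).map Y.subtype = ⊥ := by
    refine h.no_two S hz hzS (Lib.LocalCore.isPGroup_map_pCore 2 Y) ((map_subtype_le _).trans hYG) (hnorm _ ?_)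
    intro m hm
    obtain ⟨h1, h2⟩ := cj_max (hcjY m hm) (map_subtype_le (pCore 2 Y)) (Lib.LocalCore.le_normalizer_map_pCore 2 Y)
    exact Lib.LocalCore.le_map_pCore h1 (isPGroup_cj (Lib.LocalCore.isPGroup_map_pCore 2 Y)) h2
  set F := (fittingSubgroup Y).map Y.subtype with hF
  have hF2 : ¬ 2 ∣ Nat.card F := fun h1 => Lib.BenderMaximal.map_pCore_ne_bot h1 hO2
  have hFY : F ≤ Y := map_subtype_le _
  have hFn : normalizer (N z : Set G) ≤ normalizer (F : Set G) := by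
    refine hnorm _ fun m hm => ?_
    obtain ⟨h1, h2⟩ := cj_max (hcjY m hm) hFY (Lib.LocalCore.le_normalizer_map_fittingSubgroup Y)
    refine Lib.LocalCore.le_map_fittingSubgroup h1 ?_ h2
    haveI := Lib.Cores.fittingSubgroup_isNilpotent (G := Y)
    have h3 : Group.IsNilpotent F :=
      Group.nilpotent_of_mulEquiv ((fittingSubgroup Y).equivMapOfInjective Y.subtype Y.subtype_injective)
    haveI := h3
    exact Group.nilpotent_of_mulEquiv (cjEquiv m F)
  -- elements of `D` invert `F`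
  have hinv : ∀ u ∈ Z, N u = N z → ∀ f ∈ F, u * f * u⁻¹ = f⁻¹ := by
    intro u hu hN f hf
    have hCM : centralizer {u} ≤ normalizer (N z : Set G) := by
      intro g hg
      rw [← hN]
      exact h.norm_of_comm hu (mem_centralizer_singleton_iff.1 hg)
    have huM : u ∈ normalizer (N z : Set G) := hCM (mem_centralizer_singleton_iff.2 rfl)
    have h1 : F ⊓ centralizer {u} = ⊥ := by
      refine hodd u hu _ inf_le_right ?_ fun h1 => hF2 (h1.trans (card_dvd_of_le inf_le_left))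
      intro g hg
      rw [mem_normalizer_iff_cj, cj_inf, mem_normalizer_iff_cj.1 (hFn (hCM hg)),
        mem_normalizer_iff_cj.1 (le_normalizer hg)]
    obtain ⟨c, hc, k, hk, h2, h3, h4⟩ := Lib.KleinGen.exists_centralizer_mul_inverted F
      (Nat.not_even_iff_odd.1 fun h1 => hF2 h1.two_dvd) u (h.sq u hu)
      (fun f hf => (mem_normalizer_iff.1 (hFn huM) f).1 hf) hf
    have h5 : c ∈ F ⊓ centralizer {u} := ⟨hc, mem_centralizer_singleton_iff.2 h2.symm⟩
    rw [h1, mem_bot] at h5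
    rw [h4, h5, one_mul]
    exact h3
  -- two commuting elements
  obtain ⟨v, hv, hvne, hzv⟩ : ∃ v ∈ Z, v ≠ z ∧ z * v = v * z := by
    have hnc : ¬ IsMulCommutative G0 := by
      intro h2
      exact h.fs.na fun x hx y hy => congrArg Subtype.val (h2.is_comm.comm ⟨x, hx⟩ ⟨y, hy⟩)
    obtain ⟨g, h2, h3⟩ := GH.QA.not_isolated h.fs.sim hnc (u := (⟨z, h.sub z hz⟩ : G0))
      (Subtype.ext (h.sq z hz)) (fun h2 => h.ne z hz (congrArg Subtype.val h2))
    exact ⟨g * z * (g : G)⁻¹, h.conj z hz g, fun h4 => h3 (Subtype.ext h4), congrArg Subtype.val h2⟩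
  have hNv : N v = N z := (h.comm z hz v hv hzv).symm
  have hzvC : z * v ∈ Y ⊓ centralizer (F : Set G) := by
    refine ⟨mul_mem (subset_closure ⟨hz, rfl⟩) (subset_closure ⟨hv, hNv⟩), ?_⟩
    show _ ∈ centralizer (F : Set G)
    rw [mem_centralizer_iff]
    intro f hf
    have h1 := hinv v hv hNv f hf
    have h2 := hinv z hz rfl f⁻¹ (inv_mem hf)
    rw [inv_inv] at h2
    have h3 : z * v * f * (z * v)⁻¹ = f := by
      calc z * v * f * (z * v)⁻¹ = z * (v * f * v⁻¹) * z⁻¹ := by group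
        _ = f := by rw [h1, h2]
    exact (mul_inv_eq_iff_eq_mul.1 h3).symm
  have h1 := Lib.BenderMaximal.inf_centralizer_fitting_le hYs hzvC
  have h2 : (z * v) * (z * v) = 1 := by
    calc (z * v) * (z * v) = z * (v * z) * v := by group
      _ = (z * z) * (v * v) := by rw [← hzv]; group
      _ = 1 := by rw [h.sq z hz, h.sq v hv, one_mul]
  have h3 : z * v ≠ 1 := by
    intro h3
    apply hvne
    have h4 : v = z⁻¹ := eq_inv_of_mul_eq_one_right h3
    rw [h4]
    exact inv_eq_of_mul_eq_one_right (h.sq z hz)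
  have h4 : orderOf (z * v) = 2 := orderOf_eq_prime (by rw [pow_two]; exact h2) h3
  apply hF2
  have h5 : orderOf (⟨z * v, h1⟩ : F) ∣ Nat.card F := orderOf_dvd_natCard _
  rwa [Subgroup.orderOf_mk, h4] at h5

/-- **SC** -/
theorem eq_bot
    (h1173 : ∀ (S : Sylow 2 G) (T : Subgroup G), IsStronglyClosed T (S : Subgroup G) →
      ((⨅ n : ℕ, derivedSeries ↥(centralizer (T : Set G)) n).map (centralizer (T : Set G)).subtype).Normal)
    (hz : z ∈ Z) : N z = ⊥ := by
  obtain ⟨S, hS⟩ := (h.isPGroup hz).exists_le_sylow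
  obtain ⟨t, ht, htS⟩ := h.syl S
  rw [h.comm z hz t ht (htS z (hS (mem_zpowers z)))]
  exact h.eq_bot_of_central h1173 S ht htS

end Sit

end Cfsg.Agent.Cit.Nil.SC
end

-- part: Cit/Nil/RTwo/Weight
section
prune_inst 0x100404582200000018000220002040420001000020080171000c00040e3141a0000120f0801f0001002264000e0028130000494010000020000200411c0080000220c00000000020000000e803180c00000000000000000000000000041000000000000
set_option linter.all false
open scoped Cfsg.Agent.FastGrp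

/-!
# S1309, `r = 2`: elements of weight one

`Wt Om z K K' x g σ` : `K`, `K'` are the two members over `z`; `g ∈ C(z)` centralises `X_z`, is inner on `K'` and acts on the
three axes of `K` as the 3-cycle `σ`.

`Wt.clm` : then `K⟨δ⟩ ≅ SL(2,3)` is subnormal in `C(z)` for an element `δ` of order 3: `ClM Om`; `ClM.clSL : ClSL G`
(`AssemblyNil.Cl G` with `J ≅ SL(2,3)`), `ClM.three : ∃ K ∈ Om, IndDefs.Three K`.
-/

set_option autoImplicit false
set_option linter.unusedSectionVars false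

namespace Cfsg.Agent.Cit.Nil.RTwo

open Subgroup Cfsg Cfsg.Agent.Cit
open Transfer.SL23Recog

variable {G : Type*} [Group G] [Finite G] {Om : Set (Subgroup G)} {K K' L M : Subgroup G} {g t y z s : G}
  {x : Fin 3 → G} {σ τ : Equiv.Perm (Fin 3)}

/-- a classical involution with `J ≅ SL(2,3)` -/
def ClSL (G : Type*) [Group G] : Prop :=
  ∃ (z : G) (J : Subgroup G), orderOf z = 2 ∧ J ≤ centralizer ({z} : Set G) ∧ z ∈ J ∧
    (J.subgroupOf (centralizer ({z} : Set G))).IsSubnormal ∧ oddCore ↥J = ⊥ ∧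
    Nonempty (↥J ≃* Matrix.SpecialLinearGroup (Fin 2) (ZMod 3))

/-- `ClSL` for a member of `Om` -/
def ClM (Om : Set (Subgroup G)) : Prop :=
  ∃ (z : G) (K J : Subgroup G), Mem Om z K ∧ K ≤ J ∧ J ≤ centralizer ({z} : Set G) ∧
    (J.subgroupOf (centralizer ({z} : Set G))).IsSubnormal ∧ oddCore ↥J = ⊥ ∧
    Nonempty (↥J ≃* Matrix.SpecialLinearGroup (Fin 2) (ZMod 3))

theorem ClM.clSL (c : ClM Om) (h : W2 Om) : ClSL G := by
  obtain ⟨z, K, J, hK, hKJ, h1, h2, h3, h4⟩ := c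
  exact ⟨z, J, hK.inZ.orderOf h, h1, hKJ (hK.zmem h), h2, h3, h4⟩

theorem ClM.three (c : ClM Om) : ∃ K ∈ Om, IndDefs.Three K := by
  obtain ⟨z, K, J, hK, hKJ, h1, h2, h3, ⟨e⟩⟩ := c
  refine ⟨K, hK.1, J, ?_, hKJ, ?_, ⟨?_⟩⟩
  · rw [hK.2]; exact h1
  · rw [hK.2]; exact h2
  · exact ((QuotientGroup.quotientMulEquivOfEq h3).trans QuotientGroup.quotientBot).trans e

/-- weight one element -/
structure Wt (Om : Set (Subgroup G)) (z : G) (K K' : Subgroup G) (x : Fin 3 → G) (g : G)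
    (σ : Equiv.Perm (Fin 3)) : Prop where
  hK : Mem Om z K
  hK' : Mem Om z K'
  ne : K ≠ K'
  q : Q3 K z x
  act : Act z x x g σ
  s3 : σ * σ * σ = 1
  s1 : σ ≠ 1
  gz : g * z = z * g
  gX : ∀ y ∈ CX Om z, g * y = y * g
  inn : ∀ k ∈ K', g * k * g⁻¹ = k ∨ g * k * g⁻¹ = z * k

theorem perm_w1 (σ : Equiv.Perm (Fin 3)) (h1 : σ ≠ 1) (h3 : σ * σ * σ = 1) : σ 0 ≠ 0 := by
  revert σ; decide +kernel

theorem perm_w2 (τ : Equiv.Perm (Fin 3)) (h3 : τ * τ * τ = 1) (h0 : τ 0 = 1) : τ 1 = 2 := by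
  revert τ; decide +kernel

set_option maxRecDepth 10000 in
theorem perm_w3 (ρ π : Equiv.Perm (Fin 3)) (h1 : ρ * ρ * ρ = 1) (h2 : π * π * π = 1) :
    ρ * π * (ρ * π) * (ρ * π) = 1 := by
  revert ρ π; decide +kernel

set_option maxRecDepth 10000 in
theorem perm_w4 (ρ π : Equiv.Perm (Fin 3)) (h1 : ρ * ρ * ρ = 1) (h2 : ρ * π = 1) : π * π * π = 1 := by
  revert ρ π; decide +kernel

set_option maxRecDepth 10000 in
theorem perm_w5 : ∀ τ : Equiv.Perm (Fin 3), τ ≠ 1 → τ * τ * τ = 1 → ∀ ρ : Equiv.Perm (Fin 3), ρ * ρ * ρ = 1 →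
    ρ = 1 ∨ ρ = τ ∨ ρ = τ * τ := by decide +kernel

theorem comm_pow {a b : G} (h : a * b = b * a) (n : ℕ) : a ^ n * b = b * a ^ n :=
  ((show Commute a b from h).pow_left n).eq

theorem Act.pow (hz : z * z = 1) (h : Act z x x g σ) (hg : g * z = z * g) (n : ℕ) :
    Act z x x (g ^ n) (σ ^ n) := by
  induction n with
  | zero => rw [pow_zero, pow_zero]; exact Act.one x z
  | succ n ih =>
    rw [pow_succ, pow_succ]
    exact h.comp hz ih (comm_pow hg n)

theorem inner_sq (hx : Q3 K z x) (h : ∀ k ∈ K, g * k * g⁻¹ = k ∨ g * k * g⁻¹ = z * k) {k : G} (hk : k ∈ K)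
    (hkz : k * z = z * k) : g * g * k = k * (g * g) := by
  have h1 : g * g * k * (g * g)⁻¹ = k := by
    have h2 : g * g * k * (g * g)⁻¹ = g * (g * k * g⁻¹) * g⁻¹ := by group
    rw [h2]
    rcases hx.inner_cases h with h3 | ⟨j, h3⟩
    · rw [h3 k hk, h3 k hk]
    · rw [h3 k hk, h3 _ (mul_mem (mul_mem (hx.mem j) hk) (inv_mem (hx.mem j)))]
      have h4 : x j * (x j * k * (x j)⁻¹) * (x j)⁻¹ = (x j * x j) * k * (x j * x j)⁻¹ := by group
      rw [h4, hx.sq, ← hkz, mul_inv_cancel_right]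
  rwa [mul_inv_eq_iff_eq_mul] at h1

namespace Wt

/-- we may assume that `g` centralises `K'` -/
theorem exists_cent (w : Wt Om z K K' x g σ) (h : W2 Om) :
    ∃ g₁, Wt Om z K K' x g₁ σ ∧ ∀ k ∈ K', g₁ * k = k * g₁ := by
  obtain ⟨b, hb⟩ := h.exists_q3 w.hK'
  obtain ⟨u, hu, hgu⟩ : ∃ u ∈ K', ∀ k ∈ K', g * k * g⁻¹ = u * k * u⁻¹ := by
    rcases hb.inner_cases w.inn with h1 | ⟨j, h1⟩
    · exact ⟨1, one_mem _, fun k hk => by rw [h1 k hk]; group⟩
    · exact ⟨b j, hb.mem j, h1⟩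
  have hz : InZ Om z := w.hK.inZ
  have huz : u * z = z * u := w.hK'.comm_z h hu
  have hui : ∀ k ∈ K, u⁻¹ * k * u = k := fun k hk => by
    have := w.hK.comm w.hK' h w.ne hk hu
    rw [mul_assoc, this, inv_mul_cancel_left]
  have hc : ∀ k ∈ K', u⁻¹ * g * k = k * (u⁻¹ * g) := by
    intro k hk
    have h1 := hgu k hk
    calc u⁻¹ * g * k = u⁻¹ * (g * k * g⁻¹) * g := by group
      _ = u⁻¹ * (u * k * u⁻¹) * g := by rw [h1]
      _ = _ := by group
  refine ⟨u⁻¹ * g, ⟨w.hK, w.hK', w.ne, w.q, ?_, w.s3, w.s1, ?_, ?_, ?_⟩, hc⟩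
  · intro i
    have h1 : u⁻¹ * g * x i * (u⁻¹ * g)⁻¹ = u⁻¹ * (g * x i * g⁻¹) * u := by group
    have h2 : g * x i * g⁻¹ ∈ K := by
      rcases w.act i with h3 | h3
      · rw [h3]; exact w.q.mem _
      · rw [h3]; exact mul_mem w.q.zmem (w.q.mem _)
    rw [h1, hui _ h2]
    exact w.act i
  · calc u⁻¹ * g * z = u⁻¹ * (g * z) := by group
      _ = u⁻¹ * z * g := by rw [w.gz]; group
      _ = z * u⁻¹ * g := by
        congr 1
        rw [inv_mul_eq_iff_eq_mul, ← mul_assoc, huz, mul_inv_cancel_right]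
      _ = _ := by group
  · intro y hy
    have h1 : y * u = u * y := CX_comm (w.hK'.le_RZ hu) hy
    calc u⁻¹ * g * y = u⁻¹ * (g * y) := by group
      _ = u⁻¹ * y * g := by rw [w.gX y hy]; group
      _ = y * u⁻¹ * g := by
        congr 1
        rw [inv_mul_eq_iff_eq_mul, ← mul_assoc, ← h1, mul_inv_cancel_right]
      _ = _ := by group
  · intro k hk
    left
    rw [hc k hk, mul_inv_cancel_right]

/-- an element of order 3 -/
theorem exists_order (w : Wt Om z K K' x g σ) (h : W2 Om) (hF : CF Om) (hc : ∀ k ∈ K', g * k = k * g) :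
    ∃ d τ, Wt Om z K K' x d τ ∧ (∀ k ∈ K', d * k = k * d) ∧ d ^ 3 = 1 := by
  obtain ⟨e, n, hn, he⟩ := Nat.exists_eq_pow_mul_and_not_dvd (n := orderOf g) (orderOf_pos g).ne' 3 (by norm_num)
  have hz : InZ Om z := w.hK.inZ
  obtain ⟨d, hd⟩ : ∃ d, d = g ^ n := ⟨_, rfl⟩
  have hd3 : d ^ 3 ^ e = 1 := by rw [hd, ← pow_mul, mul_comm n, ← he, pow_orderOf_eq_one]
  have hdz : d * z = z * d := by rw [hd]; exact comm_pow w.gz n
  have hdX : ∀ y ∈ CX Om z, d * y = y * d := fun y hy => by rw [hd]; exact comm_pow (w.gX y hy) n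
  have hdc : ∀ k ∈ K', d * k = k * d := fun k hk => by rw [hd]; exact comm_pow (hc k hk) n
  have hact : Act z x x d (σ ^ n) := by rw [hd]; exact w.act.pow w.q.z2 w.gz n
  have hσ3 : σ ^ 3 = 1 := by rw [pow_succ, pow_succ, pow_one]; exact w.s3
  have hσn : σ ^ n ≠ 1 := by
    intro h1
    apply w.s1
    have h2 := orderOf_dvd_of_pow_eq_one h1
    have h3 := orderOf_dvd_of_pow_eq_one hσ3
    rcases (Nat.dvd_prime Nat.prime_three).1 h3 with h4 | h4
    · exact orderOf_eq_one_iff.1 h4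
    · rw [h4] at h2; exact absurd h2 hn
  have hσn3 : σ ^ n * σ ^ n * σ ^ n = 1 := by
    have h1 : (σ ^ n) ^ 3 = 1 := by rw [← pow_mul, mul_comm, pow_mul, hσ3, one_pow]
    rw [pow_succ, pow_succ, pow_one] at h1
    exact h1
  refine ⟨d, σ ^ n, ⟨w.hK, w.hK', w.ne, w.q, hact, hσn3, hσn, hdz, hdX, fun k hk => Or.inl (by
    rw [hdc k hk, mul_inv_cancel_right])⟩, hdc, ?_⟩
  -- `u = d³`
  obtain ⟨u, hu⟩ : ∃ u, u = d ^ 3 := ⟨_, rfl⟩
  have huz : u * z = z * u := by rw [hu]; exact comm_pow hdz 3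
  have hact3 : Act z x x u 1 := by
    have h1 := hact.pow w.q.z2 hdz 3
    rw [← hu, ← pow_mul, mul_comm, pow_mul, hσ3, one_pow] at h1
    exact h1
  have huodd : Odd (orderOf u) := by
    have h1 : u ^ 3 ^ e = 1 := by rw [hu, ← pow_mul, mul_comm, pow_mul, hd3, one_pow]
    exact Odd.of_dvd_nat (Odd.pow (by decide)) (orderOf_dvd_of_pow_eq_one h1)
  have huK : ∀ k ∈ K, u * u * k = k * (u * u) := fun k hk =>
    inner_sq w.q (hact3.inner w.q huz) hk (w.hK.comm_z h hk)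
  have huuX : u * u ∈ CX Om z := by
    rw [mem_CX]
    intro M hM k hk
    rcases w.hK.cases w.hK' h w.ne hM with rfl | rfl
    · exact huK k hk
    · have h1 : u * k = k * u := by rw [hu]; exact comm_pow (hdc k hk) 3
      rw [mul_assoc, h1, ← mul_assoc, h1, mul_assoc]
  have hN : zpowers (u * u) = ⊥ := by
    refine CX_odd h hF hz (by rwa [zpowers_le]) ?_ ?_
    · intro y hy
      have h1 : u * y = y * u := by rw [hu]; exact comm_pow (hdX y hy) 3
      have h2 : Commute y (u * u) := by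
        show y * (u * u) = u * u * y
        rw [mul_assoc, h1, ← mul_assoc u y u, h1, mul_assoc]
      rw [mem_normalizer_iff]
      intro v
      constructor
      · intro hv
        obtain ⟨k, rfl⟩ := mem_zpowers_iff.1 hv
        rw [(h2.zpow_right k).eq, mul_inv_cancel_right]
        exact hv
      · intro hv
        obtain ⟨k, hk⟩ := mem_zpowers_iff.1 hv
        have h3 : v = y⁻¹ * (y * v * y⁻¹) * y := by group
        rw [h3, ← hk, mul_assoc, ← (h2.zpow_right k).eq, inv_mul_cancel_left, hk]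
        exact hv
    · rw [Nat.card_zpowers, ← pow_two]
      intro h1
      have h2 : Odd (orderOf (u ^ 2)) := Odd.of_dvd_nat huodd (orderOf_pow_dvd 2)
      rw [← Nat.not_even_iff_odd, even_iff_two_dvd] at h2
      exact h2 h1
  have huu : u * u = 1 := by rwa [zpowers_eq_bot] at hN
  have h1 : orderOf u ∣ 2 := orderOf_dvd_of_pow_eq_one (by rw [pow_two]; exact huu)
  rw [← hu]
  rcases (Nat.dvd_prime Nat.prime_two).1 h1 with h2 | h2
  · exact orderOf_eq_one_iff.1 h2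
  · rw [h2] at huodd; exact absurd huodd (by decide)

end Wt

/-- the relations of `SL(2,3)` -/
theorem exists_slr {d : G} (hx : Q3 K z x) (hd : Act z x x d σ) (hσ : σ ≠ 1) (hσ3 : σ * σ * σ = 1)
    (hdz : d * z = z * d) (hd3 : d ^ 3 = 1) : ∃ a b, Q3 K z ![a, b, a * b] ∧ SLRel a b d := by
  have hq : ∀ a b : G, Q3 K z ![a, b, a * b] → QRel a b := by
    intro a b hab
    have ha : a * a = z := hab.sq 0
    have hb : b * b = z := hab.sq 1
    refine ⟨?_, ?_, ?_⟩
    · rw [show (4 : ℕ) = 2 * 2 from rfl, pow_mul, pow_two a, ha, pow_two, hab.z2]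
    · rw [pow_two, pow_two, ha, hb]
    · have h1 : b * a * b⁻¹ = z * a := hab.conj_ne (i := 1) (j := 0) (by decide)
      have h2 : a⁻¹ = z * a := hab.inv 0
      rw [h1, h2]
  have hK : cj d K = K := by
    have key : ∀ d, (∀ i, d * x i * d⁻¹ ∈ K) → cj d K ≤ K := by
      intro d h1
      have : K ≤ K.comap (MulAut.conj d).toMonoidHom := by
        refine hx.le_of_all fun i => ?_
        exact h1 i
      rintro _ ⟨k, hk, rfl⟩
      exact this hk
    have h1 : cj d K ≤ K := key d fun i => by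
      rcases hd i with h2 | h2
      · rw [h2]; exact hx.mem _
      · rw [h2]; exact mul_mem hx.zmem (hx.mem _)
    refine eq_of_le_of_card_ge h1 ?_
    rw [card_cj]
  obtain ⟨a, ha⟩ : ∃ a, a = x 0 := ⟨_, rfl⟩
  obtain ⟨b, hb⟩ : ∃ b, b = d * a * d⁻¹ := ⟨_, rfl⟩
  have haK : a ∈ K := by rw [ha]; exact hx.mem 0
  have hbK : b ∈ K := by rw [hb, ← hK]; exact conj_mem_cj haK
  have haa : a * a = z := by rw [ha]; exact hx.sq 0
  have hbb : b * b = z := by
    rw [hb]
    calc d * a * d⁻¹ * (d * a * d⁻¹) = d * (a * a) * d⁻¹ := by group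
      _ = z := by rw [haa, hdz, mul_inv_cancel_right]
  have hσ0 : σ 0 ≠ 0 := perm_w1 σ hσ hσ3
  have hab : a * b ≠ b * a := by
    intro h1
    have h2 : a * (d * a * d⁻¹) = (d * a * d⁻¹) * a := by rw [← hb]; exact h1
    rw [ha] at h2
    have h3 := hx.anti (i := 0) (j := σ 0) hσ0.symm
    rcases hd 0 with h4 | h4
    · rw [h4, h3, mul_assoc] at h2
      exact hx.z1 (mul_eq_right.1 h2)
    · rw [h4] at h2
      have h5 : x 0 * (z * x (σ 0)) = z * (x 0 * x (σ 0)) := by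
        rw [← mul_assoc, ← hx.zc, mul_assoc]
      rw [h5, h3, mul_assoc z (x (σ 0)) (x 0), hx.zzx] at h2
      exact hx.z1 (mul_eq_right.1 h2.symm)
  have hQ := hx.of_pair haK hbK haa hbb hab
  obtain ⟨τ, hτ⟩ := hQ.exists_act hQ hK hdz
  have hτ3 : τ * τ * τ = 1 := by
    have h1 := hτ.pow hx.z2 hdz 3
    rw [hd3] at h1
    have h2 := h1.unique hQ (Act.one _ z)
    rwa [pow_succ, pow_succ, pow_one] at h2
  have hτ0 : τ 0 = 1 := by
    have h1 : d * a * d⁻¹ = ![a, b, a * b] 1 := hb.symm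
    rcases hτ 0 with h2 | h2
    · exact (hQ.inj (Or.inl (h1.symm.trans h2))).symm
    · exact (hQ.inj (Or.inr (h1.symm.trans h2))).symm
  have hτ1 : τ 1 = 2 := perm_w2 τ hτ3 hτ0
  have hz1 : z * a = a * z := hQ.zc 0
  have hz2 : z * b = b * z := hQ.zc 1
  have h1 := hτ 1
  rw [hτ1] at h1
  rcases h1 with h1 | h1
  · exact ⟨a, b, hQ, { toQRel := hq a b hQ, hti := hb.symm, htj := h1 }⟩
  · have h2 : d * b * d⁻¹ = z * (a * b) := h1
    have hab' : z * a * (z * b) = a * b := by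
      calc z * a * (z * b) = z * (a * z) * b := by group
        _ = (z * z) * (a * b) := by rw [← hz1]; group
        _ = a * b := by rw [hx.z2, one_mul]
    have hba' : z * b * (z * a) = b * a := by
      calc z * b * (z * a) = z * (b * z) * a := by group
        _ = (z * z) * (b * a) := by rw [← hz2]; group
        _ = b * a := by rw [hx.z2, one_mul]
    have haa' : z * a * (z * a) = z := by
      calc z * a * (z * a) = z * (a * z) * a := by group
        _ = (z * z) * (a * a) := by rw [← hz1]; group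
        _ = z := by rw [hx.z2, one_mul, haa]
    have hbb' : z * b * (z * b) = z := by
      calc z * b * (z * b) = z * (b * z) * b := by group
        _ = (z * z) * (b * b) := by rw [← hz2]; group
        _ = z := by rw [hx.z2, one_mul, hbb]
    have hQ' := hx.of_pair (mul_mem hx.zmem haK) (mul_mem hx.zmem hbK) haa' hbb' (by rw [hab', hba']; exact hab)
    refine ⟨z * a, z * b, hQ', { toQRel := hq _ _ hQ', hti := ?_, htj := ?_ }⟩
    · calc d * (z * a) * d⁻¹ = (d * z) * a * d⁻¹ := by group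
        _ = z * (d * a * d⁻¹) := by rw [hdz]; group
        _ = _ := by rw [← hb]
    · calc d * (z * b) * d⁻¹ = (d * z) * b * d⁻¹ := by group
        _ = z * (d * b * d⁻¹) := by rw [hdz]; group
        _ = z * a * (z * b) := by rw [h2, hx.zzx, hab']

/-- subnormality in a subgroup `C` of `G`, one step -/
theorem subn_stepW {C H N : Subgroup G} (hHN : H ≤ N) (hN : (N.subgroupOf C).IsSubnormal)
    (hn : ∀ n ∈ N, ∀ a ∈ H, n * a * n⁻¹ ∈ H) : (H.subgroupOf C).IsSubnormal := by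
  refine Subgroup.IsSubnormal.step _ _ (fun a ha => hHN ha) hN ?_
  refine ⟨fun a ha c => ?_⟩
  exact hn _ c.2 _ ha

/-- **weight one**: the classical involution theorem applies -/
theorem Wt.clm (w : Wt Om z K K' x g σ) (h : W2 Om) (hF : CF Om) : ClM Om := by
  obtain ⟨g₁, w₁, hc₁⟩ := w.exists_cent h
  obtain ⟨d, τ, w₂, hdc, hd3⟩ := w₁.exists_order h hF hc₁
  obtain ⟨a, b, hQ, hsl⟩ := exists_slr w₂.q w₂.act w₂.s1 w₂.s3 w₂.gz hd3
  clear w w₁ hc₁
  have hz : InZ Om z := w₂.hK.inZ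
  have haK : a ∈ K := hQ.mem 0
  have hbK : b ∈ K := hQ.mem 1
  obtain ⟨J, hJ⟩ : ∃ J, J = _root_.Subgroup.closure ({a, b, d} : Set G) := ⟨_, rfl⟩
  have haJ : a ∈ J := by rw [hJ]; exact _root_.Subgroup.subset_closure (by simp)
  have hbJ : b ∈ J := by rw [hJ]; exact _root_.Subgroup.subset_closure (by simp)
  have hdJ : d ∈ J := by rw [hJ]; exact _root_.Subgroup.subset_closure (by simp)
  have hKJ : K ≤ J := hQ.le_of_mem (i := 0) (j := 1) (by decide) haJ hbJ
  have hd1 : d ≠ 1 := by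
    intro h1
    have h2 := w₂.act
    rw [h1] at h2
    exact w₂.s1 (h2.unique w₂.q (Act.one x z))
  have hdo : orderOf d = 3 := by
    haveI : Fact (Nat.Prime 3) := ⟨Nat.prime_three⟩
    exact orderOf_eq_prime hd3 hd1
  have hcard : Nat.card J = 24 := by
    have h1 := (hsl.card_le hd3).2
    rw [← hJ] at h1
    have h2 : 8 ∣ Nat.card J := by rw [← h.card K w₂.hK.1]; exact card_dvd_of_le hKJ
    have h3 : 3 ∣ Nat.card J := by
      rw [← hdo]; exact J.orderOf_dvd_natCard hdJ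
    have h4 : 24 ∣ Nat.card J := by
      have : (8 : ℕ) * 3 ∣ Nat.card J := Nat.Coprime.mul_dvd_of_dvd_of_dvd (by decide) h2 h3
      exact this
    exact Nat.dvd_antisymm (by
      have h5 : 0 < Nat.card J := Nat.card_pos
      obtain ⟨c, hc⟩ := h4
      rw [hc] at h1 h5 ⊢
      have : c = 1 := by omega
      rw [this]) h4
  -- everything in `J` centralises `K'` and `X`
  have hJc : ∀ v, (v * a = a * v) → (v * b = b * v) → (v * d = d * v) → ∀ j ∈ J, v * j = j * v := by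
    intro v h1 h2 h3 j hj
    have h4 : J ≤ centralizer {v} := by
      rw [hJ, closure_le]
      rintro u (rfl | rfl | rfl)
      · exact (mem_centralizer_singleton_iff.2 h1.symm)
      · exact (mem_centralizer_singleton_iff.2 h2.symm)
      · exact (mem_centralizer_singleton_iff.2 h3.symm)
    exact (mem_centralizer_singleton_iff.1 (h4 hj)).symm
  have hJK' : ∀ k ∈ K', ∀ j ∈ J, k * j = j * k := fun k hk =>
    hJc k (w₂.hK.comm w₂.hK' h w₂.ne haK hk).symm (w₂.hK.comm w₂.hK' h w₂.ne hbK hk).symm (hdc k hk).symm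
  have hJX : ∀ y ∈ CX Om z, ∀ j ∈ J, y * j = j * y := fun y hy =>
    hJc y (mem_CX.1 hy K w₂.hK a haK) (mem_CX.1 hy K w₂.hK b hbK) (w₂.gX y hy).symm
  have hJz : ∀ j ∈ J, z * j = j * z := hJX z (z_mem_CX h)
  have hJC : J ≤ centralizer {z} := fun j hj => mem_centralizer_singleton_iff.2 (hJz j hj).symm
  refine ⟨z, K, J, w₂.hK, hKJ, hJC, ?_, ?_, ?_⟩
  · -- subnormal
    -- `C₁` = stabiliser of `K'` in `C(z)`
    have hfix : ∀ g, g * z = z * g → (cj g K = K ↔ cj g K' = K') := by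
      intro g hg
      have h1 := w₂.hK.cases w₂.hK' h w₂.ne (w₂.hK.cj_comm h hg)
      have h2 := w₂.hK.cases w₂.hK' h w₂.ne (w₂.hK'.cj_comm h hg)
      constructor
      · intro h3
        rcases h2 with h4 | h4
        · exact absurd (cj_inj.1 (h4.trans h3.symm)).symm w₂.ne
        · exact h4
      · intro h3
        rcases h1 with h4 | h4
        · exact h4
        · exact absurd (cj_inj.1 (h4.trans h3.symm)) w₂.ne
    let C : Subgroup G := centralizer {z}
    let C₁ : Subgroup G := C ⊓ normalizer (K' : Set G)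
    let N : Subgroup G := C₁ ⊓ (centralizer (K' : Set G) ⊓ centralizer (CX Om z : Set G))
    have hC : (C.subgroupOf C).IsSubnormal := by
      rw [subgroupOf_self]; exact Subgroup.IsSubnormal.top
    have hmemC : ∀ {g}, g ∈ C ↔ g * z = z * g := fun {g} => mem_centralizer_singleton_iff
    have hC₁ : (C₁.subgroupOf C).IsSubnormal := by
      refine subn_stepW inf_le_left hC ?_
      intro c hc v hv
      obtain ⟨hvC, hvK⟩ := mem_inf.1 hv
      refine mem_inf.2 ⟨C.mul_mem (C.mul_mem hc hvC) (C.inv_mem hc), ?_⟩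
      have hvK' : cj v K' = K' := mem_normalizer_iff_cj.1 hvK
      have hvK2 : cj v K = K := (hfix v (hmemC.1 hvC)).2 hvK'
      have hci : c⁻¹ * z = z * c⁻¹ := hmemC.1 (inv_mem hc)
      rw [mem_normalizer_iff_cj, cj_mul, cj_mul]
      rcases w₂.hK.cases w₂.hK' h w₂.ne (w₂.hK'.cj_comm h hci) with h1 | h1
      · rw [h1, hvK2, ← h1, cj_cj_inv]
      · rw [h1, hvK', ← h1, cj_cj_inv]
        rw [h1]
    have hN : (N.subgroupOf C).IsSubnormal := by
      refine subn_stepW inf_le_left hC₁ ?_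
      intro c hc v hv
      obtain ⟨hvC, hvK, hvX⟩ := mem_inf.1 hv
      replace hvK := mem_centralizer_iff.1 hvK
      replace hvX := mem_centralizer_iff.1 hvX
      refine mem_inf.2 ⟨C₁.mul_mem (C₁.mul_mem hc hvC) (C₁.inv_mem hc), mem_inf.2
        ⟨mem_centralizer_iff.2 ?_, mem_centralizer_iff.2 ?_⟩⟩
      · intro k hk
        have h1 : c⁻¹ * k * c ∈ K' := by
          have h2 := mem_normalizer_iff_cj.1 (mem_inf.1 (C₁.inv_mem hc)).2
          rw [← h2]
          have h3 := conj_mem_cj (g := c⁻¹) (show k ∈ K' from hk)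
          rwa [inv_inv] at h3
        have h2 := hvK _ h1
        calc k * (c * v * c⁻¹) = c * ((c⁻¹ * k * c) * v) * c⁻¹ := by group
          _ = c * (v * (c⁻¹ * k * c)) * c⁻¹ := by rw [h2]
          _ = _ := by group
      · intro k hk
        have h1 : c⁻¹ * k * c ∈ CX Om z := by
          have h3 := CX_conj_comm h (hmemC.1 (mem_inf.1 (C₁.inv_mem hc)).1) (show k ∈ CX Om z from hk)
          rwa [inv_inv] at h3
        have h2 := hvX _ h1
        calc k * (c * v * c⁻¹) = c * ((c⁻¹ * k * c) * v) * c⁻¹ := by group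
          _ = c * (v * (c⁻¹ * k * c)) * c⁻¹ := by rw [h2]
          _ = _ := by group
    have hNfix : ∀ n ∈ N, cj n K = K := fun n hn =>
      (hfix n (hmemC.1 hn.1.1)).2 (mem_normalizer_iff_cj.1 hn.1.2)
    have hNz : ∀ n ∈ N, n * z = z * n := fun n hn => hmemC.1 hn.1.1
    -- `A` = even elements of `N`
    let A : Subgroup G :=
      { carrier := {n | n ∈ N ∧ ∃ ρ : Equiv.Perm (Fin 3), Act z x x n ρ ∧ ρ * ρ * ρ = 1}
        one_mem' := ⟨one_mem _, 1, Act.one x z, by simp⟩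
        mul_mem' := by
          rintro n m ⟨hn, ρ, hρ, hρ3⟩ ⟨hm, π, hπ, hπ3⟩
          exact ⟨mul_mem hn hm, ρ * π, hπ.comp w₂.q.z2 hρ (hNz n hn), perm_w3 ρ π hρ3 hπ3⟩
        inv_mem' := by
          rintro n ⟨hn, ρ, hρ, hρ3⟩
          refine ⟨inv_mem hn, ?_⟩
          obtain ⟨π, hπ⟩ := w₂.q.exists_act w₂.q (hNfix _ (inv_mem hn)) (hNz _ (inv_mem hn))
          have h1 := hπ.comp w₂.q.z2 hρ (hNz n hn)
          rw [mul_inv_cancel] at h1
          have h2 := h1.unique w₂.q (Act.one x z)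
          exact ⟨π, hπ, perm_w4 ρ π hρ3 h2⟩ }
    have hA : (A.subgroupOf C).IsSubnormal := by
      refine subn_stepW (fun v hv => hv.1) hN ?_
      rintro n hn v ⟨hv, ρ, hρ, hρ3⟩
      refine ⟨mul_mem (mul_mem hn hv) (inv_mem hn), ?_⟩
      obtain ⟨π, hπ⟩ := w₂.q.exists_act w₂.q (hNfix n hn) (hNz n hn)
      obtain ⟨π', hπ'⟩ := w₂.q.exists_act w₂.q (hNfix _ (inv_mem hn)) (hNz _ (inv_mem hn))
      have h1 := hπ'.comp w₂.q.z2 hπ (hNz n hn)
      rw [mul_inv_cancel] at h1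
      have h2 := h1.unique w₂.q (Act.one x z)
      have h3 := (hπ'.comp w₂.q.z2 hρ (hNz v hv)).comp w₂.q.z2 hπ (hNz n hn)
      rw [← mul_assoc] at h3
      refine ⟨π * (ρ * π'), h3, ?_⟩
      have h4 : π' = π⁻¹ := eq_inv_of_mul_eq_one_right h2
      have h5 : π * (ρ * π') * (π * (ρ * π')) * (π * (ρ * π')) = π * (ρ * ρ * ρ) * π⁻¹ := by
        rw [h4]; group
      rw [h5, hρ3]; group
    refine subn_stepW ?_ hA ?_
    · -- `J ≤ A`
      rw [hJ, closure_le]
      have hJN : ∀ j ∈ J, j ∈ N := by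
        intro j hj
        refine mem_inf.2 ⟨mem_inf.2 ⟨hJC hj, mem_normalizer_iff_cj.2 ?_⟩, mem_inf.2
          ⟨mem_centralizer_iff.2 ?_, mem_centralizer_iff.2 ?_⟩⟩
        · refine eq_of_le_of_card_ge ?_ (by rw [card_cj])
          rintro _ ⟨k, hk, rfl⟩
          show j * k * j⁻¹ ∈ K'
          rw [← hJK' k hk j hj, mul_inv_cancel_right]; exact hk
        · exact fun k hk => hJK' k hk j hj
        · exact fun y hy => hJX y hy j hj
      have hKA : ∀ k ∈ K, k ∈ A := by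
        intro k hk
        refine ⟨hJN k (hKJ hk), 1, ?_, by simp⟩
        intro i
        exact Inn.of_mem w₂.hK h hk K w₂.hK _ (w₂.q.mem i)
      rintro u (rfl | rfl | rfl)
      · exact hKA _ haK
      · exact hKA _ hbK
      · exact ⟨hJN _ hdJ, τ, w₂.act, w₂.s3⟩
    · -- `J ⊴ A`
      rintro v ⟨hv, ρ, hρ, hρ3⟩ j hj
      -- `v = (power of d) * k * y`
      obtain ⟨m, hm⟩ : ∃ m : ℕ, ρ = τ ^ m := by
        rcases perm_w5 τ w₂.s1 w₂.s3 ρ hρ3 with h1 | h1 | h1
        · exact ⟨0, by rw [h1, pow_zero]⟩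
        · exact ⟨1, by rw [h1, pow_one]⟩
        · exact ⟨2, by rw [h1, pow_two]⟩
      have hdm := w₂.act.pow w₂.q.z2 w₂.gz m
      -- `e = (d ^ m)⁻¹ v`
      have hdmJ : d ^ m ∈ J := pow_mem hdJ m
      have hdmz : d ^ m * z = z * d ^ m := comm_pow w₂.gz m
      obtain ⟨e, he⟩ : ∃ e, e = (d ^ m)⁻¹ * v := ⟨_, rfl⟩
      have hdmiz : (d ^ m)⁻¹ * z = z * (d ^ m)⁻¹ := by
        rw [inv_mul_eq_iff_eq_mul, ← mul_assoc, hdmz, mul_inv_cancel_right]
      have hvz := hNz v hv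
      have hez : e * z = z * e := by
        rw [he, mul_assoc, hvz, ← mul_assoc, hdmiz, mul_assoc]
      have hdmK : cj (d ^ m)⁻¹ K = K := by
        have h1 : cj (d ^ m) K = K := by
          refine eq_of_le_of_card_ge ?_ (by rw [card_cj])
          have : K ≤ K.comap (MulAut.conj (d ^ m)).toMonoidHom := by
            refine w₂.q.le_of_all fun i => ?_
            show d ^ m * x i * (d ^ m)⁻¹ ∈ K
            rcases hdm i with h2 | h2
            · rw [h2]; exact w₂.q.mem _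
            · rw [h2]; exact mul_mem w₂.q.zmem (w₂.q.mem _)
          rintro _ ⟨k, hk, rfl⟩
          exact this hk
        conv_lhs => rw [← h1]
        rw [cj_inv_cj]
      obtain ⟨π, hπ⟩ := w₂.q.exists_act w₂.q hdmK hdmiz
      have h1 := hπ.comp w₂.q.z2 hdm hdmz
      rw [mul_inv_cancel] at h1
      have h2 := h1.unique w₂.q (Act.one x z)
      have h3 := hρ.comp w₂.q.z2 hπ hdmiz
      have h4 : π * ρ = 1 := by
        rw [hm]
        exact mul_eq_one_comm.1 h2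
      rw [h4, ← he] at h3
      obtain ⟨k, hk, hek⟩ : ∃ k ∈ K, ∀ u ∈ K, e * u * e⁻¹ = k * u * k⁻¹ := by
        rcases w₂.q.inner_cases (h3.inner w₂.q hez) with h5 | ⟨i, h5⟩
        · exact ⟨1, one_mem _, fun u hu => by rw [h5 u hu]; group⟩
        · exact ⟨x i, w₂.q.mem i, h5⟩
      -- `y = k⁻¹ e ∈ X`
      have hy : k⁻¹ * e ∈ CX Om z := by
        rw [mem_CX]
        intro M hM u hu
        rcases w₂.hK.cases w₂.hK' h w₂.ne hM with rfl | rfl
        · have h5 := hek u hu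
          calc k⁻¹ * e * u = k⁻¹ * (e * u * e⁻¹) * e := by group
            _ = k⁻¹ * (k * u * k⁻¹) * e := by rw [h5]
            _ = _ := by group
        · have h5 : v * u = u * v := (mem_centralizer_iff.1 hv.2.1 u hu).symm
          have h6 : ∀ j ∈ J, j * u = u * j := fun j hj => (hJK' u hu j hj).symm
          have h7 := h6 _ (mul_mem (inv_mem (hKJ hk)) (inv_mem hdmJ))
          calc k⁻¹ * e * u = k⁻¹ * (d ^ m)⁻¹ * (v * u) := by rw [he]; group
            _ = (k⁻¹ * (d ^ m)⁻¹ * u) * v := by rw [h5]; group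
            _ = u * (k⁻¹ * e) := by rw [h7, he]; group
      have hve : v = d ^ m * k * (k⁻¹ * e) := by rw [he]; group
      have hdk : d ^ m * k ∈ J := mul_mem hdmJ (hKJ hk)
      have h5 : v * j * v⁻¹ = d ^ m * k * j * (d ^ m * k)⁻¹ := by
        have h6 := hJX _ hy j hj
        calc v * j * v⁻¹ = d ^ m * k * ((k⁻¹ * e) * j) * (k⁻¹ * e)⁻¹ * (d ^ m * k)⁻¹ := by
              conv_lhs => rw [hve]
              group
          _ = d ^ m * k * (j * (k⁻¹ * e)) * (k⁻¹ * e)⁻¹ * (d ^ m * k)⁻¹ := by rw [h6]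
          _ = _ := by group
      rw [h5]
      exact mul_mem (mul_mem hdk hj) (inv_mem hdk)
  · -- `O(J) = 1`
    have hO : oddCore ↥J = ⊥ := by
      have hOO : OO J = ⊥ := by
        have h1 : OO J ≤ CX Om z := by
          intro v hv
          have hvJ : v ∈ J := OO_le J hv
          rw [mem_CX]
          intro M hM u hu
          rcases w₂.hK.cases w₂.hK' h w₂.ne hM with rfl | rfl
          · -- the commutator is in `O(J) ∩ K`
            have h2 : v * u * v⁻¹ * u⁻¹ ∈ OO J ⊓ M := by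
              refine ⟨?_, ?_⟩
              · have h3 := (mem_normalizer_iff.1 (le_normalizer_OO J (hKJ hu)) v⁻¹).1 (inv_mem hv)
                have h4 : v * u * v⁻¹ * u⁻¹ = v * (u * v⁻¹ * u⁻¹) := by group
                rw [h4]; exact mul_mem hv h3
              · have hJM : J ≤ normalizer (M : Set G) := by
                  rw [hJ, closure_le]
                  have hdM : d ∈ normalizer (M : Set G) := by
                    rw [mem_normalizer_iff_cj]
                    refine eq_of_le_of_card_ge ?_ (by rw [card_cj])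
                    have : M ≤ M.comap (MulAut.conj d).toMonoidHom := by
                      refine w₂.q.le_of_all fun i => ?_
                      show d * x i * d⁻¹ ∈ M
                      rcases w₂.act i with h2 | h2
                      · rw [h2]; exact w₂.q.mem _
                      · rw [h2]; exact mul_mem w₂.q.zmem (w₂.q.mem _)
                    rintro _ ⟨k, hk, rfl⟩
                    exact this hk
                  rintro c (rfl | rfl | rfl)
                  · exact le_normalizer haK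
                  · exact le_normalizer hbK
                  · exact hdM
                exact M.mul_mem ((mem_normalizer_iff.1 (hJM hvJ) u).1 hu) (M.inv_mem hu)
            have h3 : OO J ⊓ M = ⊥ := by
              apply Subgroup.inf_eq_bot_of_coprime
              rw [h.card M w₂.hK.1]
              have h4 : Nat.Coprime (Nat.card (OO J)) 2 :=
                ((Nat.Prime.coprime_iff_not_dvd Nat.prime_two).2 (odd_OO J)).symm
              exact Nat.Coprime.pow_right 3 h4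
            rw [h3, Subgroup.mem_bot, mul_inv_eq_one, mul_inv_eq_iff_eq_mul] at h2
            exact h2
          · exact (hJK' u hu v hvJ).symm
        refine CX_odd h hF hz h1 ?_ (odd_OO J)
        intro y hy
        rw [mem_normalizer_iff]
        have h2 : ∀ v ∈ J, y * v * y⁻¹ = v := fun v hv => by rw [hJX y hy v hv, mul_inv_cancel_right]
        intro v
        constructor
        · intro hv
          rw [h2 v (OO_le J hv)]; exact hv
        · intro hv
          have h3 := h2 _ (OO_le J hv)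
          have h4 : v = y * v * y⁻¹ := by
            have h5 : y * (y * v * y⁻¹) * y⁻¹ = y * v * y⁻¹ := h3
            exact (mul_left_cancel (mul_right_cancel h5)).symm
          rw [h4]; exact hv
      rw [OO, Subgroup.map_eq_bot_iff_of_injective _ J.subtype_injective] at hOO
      exact hOO
    exact hO
  · have hgen : Subgroup.closure ({⟨a, haJ⟩, ⟨b, hbJ⟩, ⟨d, hdJ⟩} : Set J) = ⊤ := by
      apply Subgroup.map_injective J.subtype_injective
      rw [MonoidHom.map_closure, ← MonoidHom.range_eq_map, J.range_subtype, Set.image_insert_eq,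
        Set.image_insert_eq, Set.image_singleton]
      exact hJ.symm
    have hrel : SLRel (⟨a, haJ⟩ : J) ⟨b, hbJ⟩ ⟨d, hdJ⟩ :=
      { hi := Subtype.ext hsl.hi
        hj := Subtype.ext hsl.hj
        hji := Subtype.ext hsl.hji
        hti := Subtype.ext hsl.hti
        htj := Subtype.ext hsl.htj }
    obtain ⟨f⟩ := sl23_of_relations hrel (Subtype.ext hd3) hgen hcard
    exact ⟨f⟩

/-- **weight one**: the classical involution theorem applies -/
theorem Wt.cl (w : Wt Om z K K' x g σ) (h : W2 Om) (hF : CF Om) : ClSL G := (w.clm h hF).clSL h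

/-- **weight one**: `Three` -/
theorem Wt.three (w : Wt Om z K K' x g σ) (h : W2 Om) (hF : CF Om) : ∃ K ∈ Om, IndDefs.Three K := (w.clm h hF).three

end Cfsg.Agent.Cit.Nil.RTwo
end

-- part: Cit/Nil/RTwo/TEnd
section
prune_inst 0x20104404582200000018000220002040520001000020080171400c00044e3140a0450121c0c01f100010865428040028121000404030000000000800411c0080000202008048000021000000a003180c00000000000000000000000000041000000000000
set_option linter.all false
open scoped Cfsg.Agent.FastGrp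

/-!
# S1309, `r = 2`, `m = 1`: the T-only world, (8.10)-(8.13) and the end

* `HP.eq_cases` (8.10) : `t'` of type p with the same graph as `t`: `t' ∈ {t, t e_i}`;
* `HP.exists_rot` (8.11) : an element of order 3 (modulo inner) on both members, centralising `X_z`;
* `HP.pi_inn` (8.12), (8.13) : all neighbours of type p have the same graph (weight one);
* `FR.false` : there are no pairs of type f;
* `t_world` : **the T-only world is empty**.
-/

set_option autoImplicit false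
set_option linter.unusedSectionVars false

namespace Cfsg.Agent.Cit.Nil.RTwo

open Subgroup Cfsg Cfsg.Agent.Cit

variable {G : Type*} [Group G] [Finite G] {Om : Set (Subgroup G)} {K L M : Subgroup G} {g t x y z s : G}

theorem PR.eq_of (hp : PR Om z t) (h : W2 Om) (hT : TO Om) {t' : G} (ht' : InZ Om t') (hc : t * t' = t' * t)
    (hm : t * t' ∈ CX Om z) : t' = t := by
  obtain ⟨K, x, L, l, F⟩ := hp.exists_fp h hT
  exact F.eq_of h hT ht' hc hm

namespace HP

variable {x : Fin 3 → G} {i j : Fin 3} {t' : G}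

/-- (8.10) -/
theorem eq_cases (P : HP Om z t K x) (h : W2 Om) (hT : TO Om) (hF : CF Om) (hp' : PR Om z t')
    (hi : Inn Om z (t * t')) : t' = t ∨ ∃ i, t' = t * ee z t x i := by
  have t2 : t * t = 1 := P.t2 h
  have tinv : t⁻¹ = t := P.tinv h
  obtain ⟨u, hu, v, hv, hu', hv', hc⟩ := hi.exists_mul P.hK (P.hK' h) h P.ne' P.q P.q'
  obtain ⟨c, hcd⟩ : ∃ c, c = (u * v)⁻¹ * (t * t') := ⟨_, rfl⟩
  rw [← hcd] at hc
  have htt' : t * t' = u * v * c := by rw [hcd]; group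
  have ht' : t' = t * (u * v * c) := by rw [← htt', ← mul_assoc, t2, one_mul]
  have hct : c * t = t * c := P.pr.cent h hT hF hc
  have hcu : c * u = u * c := mem_CX.1 hc _ P.hK u hu
  have hcv : c * v = v * c := mem_CX.1 hc _ (P.hK' h) v hv
  have huK' : t * u * t⁻¹ ∈ cj t K := conj_mem_cj hu
  have hvK : t * v * t⁻¹ ∈ K := by
    have h1 := (P.hK' h).cj_comm h P.pr.comm.symm
    rcases P.cases h h1 with h2 | h2
    · rw [← h2]; exact conj_mem_cj hv
    · exact absurd (cj_inj.1 h2).symm P.ne'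
  -- `t'² = 1`
  have hsq : (t * v * t⁻¹ * u) * (t * u * t⁻¹ * v) * (c * c) = 1 := by
    have h1 : t' * t' = 1 := hp'.t2 h
    have e1 : t * v * t⁻¹ * (t * u * t⁻¹) = t * u * t⁻¹ * (t * v * t⁻¹) :=
      P.hK.comm (P.hK' h) h P.ne' hvK huK'
    have e2 : (t * u * t⁻¹) * u = u * (t * u * t⁻¹) := (P.hK.comm (P.hK' h) h P.ne' hu huK').symm
    calc (t * v * t⁻¹ * u) * (t * u * t⁻¹ * v) * (c * c)
        = t * v * t⁻¹ * (u * (t * u * t⁻¹)) * v * (c * c) := by group
      _ = (t * v * t⁻¹ * (t * u * t⁻¹)) * u * v * (c * c) := by rw [← e2]; group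
      _ = t * u * t⁻¹ * (t * v * t⁻¹) * u * v * (c * c) := by rw [e1]
      _ = t * (u * v) * t⁻¹ * (u * v) * (c * c) := by group
      _ = t * (u * v) * t * (u * v) * (c * c) := by rw [tinv]
      _ = t * u * v * t * u * (v * c) * c := by group
      _ = t * u * v * t * (u * c) * v * c := by rw [← hcv]; group
      _ = t * u * v * (t * c) * u * v * c := by rw [← hcu]; group
      _ = (t * (u * v * c)) * (t * (u * v * c)) := by rw [← hct]; group
      _ = 1 := by rw [← ht', h1]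
  have hA : ∀ k ∈ K, (t * v * t⁻¹ * u) * k = k * (t * v * t⁻¹ * u) := by
    intro k hk
    have h1 : t * v * t⁻¹ * u = (c * c)⁻¹ * (t * u * t⁻¹ * v)⁻¹ := by
      rw [← mul_inv_rev, eq_inv_iff_mul_eq_one, ← mul_assoc]; exact hsq
    have h2 : t * u * t⁻¹ * v ∈ cj t K := mul_mem huK' hv
    have h3 : (t * u * t⁻¹ * v)⁻¹ * k = k * (t * u * t⁻¹ * v)⁻¹ :=
      (P.hK.comm (P.hK' h) h P.ne' hk (inv_mem h2)).symm
    have h4 : (c * c)⁻¹ * k = k * (c * c)⁻¹ := mem_CX.1 (inv_mem (mul_mem hc hc)) _ P.hK k hk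
    rw [h1, mul_assoc, h3, ← mul_assoc, h4, mul_assoc]
  have hB : t * v * t⁻¹ * u = 1 ∨ t * v * t⁻¹ * u = z :=
    P.q.cent (mul_mem hvK hu) (i_ne1 0) (hA _ (P.q.mem _)) (hA _ (P.q.mem _))
  rcases hu' with rfl | ⟨i, rfl⟩ <;> rcases hv' with rfl | ⟨j, rfl⟩
  · left
    refine P.pr.eq_of h hT hp'.ht ?_ ?_
    · rw [ht', mul_one, one_mul, mul_assoc t c t, hct]
    · rw [htt', mul_one, one_mul]; exact hc
  · exfalso
    rw [mul_one, P.tt h] at hB
    rcases hB with h1 | h1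
    · exact P.q.ne_one j h1
    · exact P.q.ne_z j h1
  · exfalso
    rw [mul_one, mul_inv_cancel, one_mul] at hB
    rcases hB with h1 | h1
    · exact P.q.ne_one i h1
    · exact P.q.ne_z i h1
  · right
    rw [P.tt h] at hB
    have hji : j = i := by
      rcases hB with h1 | h1
      · refine P.q.inj (Or.inr ?_)
        rw [eq_inv_of_mul_eq_one_left h1, P.q.inv]
      · refine P.q.inj (Or.inl ?_)
        have h2 : x j = z * (x i)⁻¹ := by rw [← h1]; group
        rw [h2, P.q.inv, P.q.zzx]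
    subst hji
    refine ⟨j, ?_⟩
    have hs := P.pr_te h j
    have hzc : z * c ∈ CX Om z := mul_mem (z_mem_CX h) hc
    have h1 : t' = t * ee z t x j * (z * c) := by
      rw [ht', P.xx_eq, ← P.e_z h]; group
    refine hs.eq_of h hT hp'.ht ?_ ?_
    · rw [h1, mul_assoc _ (z * c), hs.cent h hT hF hzc]
    · rw [h1, ← mul_assoc, hs.t2 h, one_mul]; exact hzc

/-- `g` commuting with `z`, `t`, fixing `K` and mapping `e_i` to `e_j` maps `x i` to `x j` modulo `z` -/
theorem act_of_e (P : HP Om z t K x) (h : W2 Om) (hgz : g * z = z * g) (hgt : g * t = t * g) (hf : cj g K = K)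
    (he : g * ee z t x i * g⁻¹ = ee z t x j) : g * x i * g⁻¹ = x j ∨ g * x i * g⁻¹ = z * x j := by
  obtain ⟨y, hy⟩ : ∃ y, y = g * x i * g⁻¹ := ⟨_, rfl⟩
  have hyK : y ∈ K := by rw [hy, ← hf]; exact conj_mem_cj (P.q.mem i)
  have h1 : g * (t * x i * t⁻¹) * g⁻¹ = t * y * t⁻¹ := by
    have h2 : t⁻¹ * g⁻¹ = g⁻¹ * t⁻¹ := by rw [← mul_inv_rev, ← mul_inv_rev, hgt]
    calc g * (t * x i * t⁻¹) * g⁻¹ = (g * t) * x i * (t⁻¹ * g⁻¹) := by group
      _ = (t * g) * x i * (g⁻¹ * t⁻¹) := by rw [hgt, h2]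
      _ = _ := by rw [hy]; group
  have h3 : y * (t * y * t⁻¹) = x j * (t * x j * t⁻¹) := by
    have h4 : g * (z * ee z t x i) * g⁻¹ = z * ee z t x j := by
      calc g * (z * ee z t x i) * g⁻¹ = (g * z) * ee z t x i * g⁻¹ := by group
        _ = z * (g * ee z t x i * g⁻¹) := by rw [hgz]; group
        _ = _ := by rw [he]
    rw [← P.xx_eq, ← P.xx_eq] at h4
    rw [← h4, ← h1, hy]; group
  have h5 : (x j)⁻¹ * y = (t * x j * t⁻¹) * (t * y * t⁻¹)⁻¹ := by
    rw [eq_mul_inv_iff_mul_eq, mul_assoc, h3, inv_mul_cancel_left]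
  have h6 : (x j)⁻¹ * y = 1 ∨ (x j)⁻¹ * y = z := by
    refine P.hK.inf (P.hK' h) h P.ne' (mul_mem (inv_mem (P.q.mem j)) hyK) ?_
    rw [h5]
    exact mul_mem (P.q'.mem j) (inv_mem (conj_mem_cj hyK))
  rw [← hy]
  rcases h6 with h6 | h6
  · left
    exact (inv_mul_eq_one.1 h6).symm
  · right
    rw [inv_mul_eq_iff_eq_mul, ← P.q.zc] at h6
    exact h6

/-- conjugation by `x i` on `t e_j` -/
theorem x_s_self (P : HP Om z t K x) (h : W2 Om) (i : Fin 3) :
    x i * (t * ee z t x i) * (x i)⁻¹ = t := by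
  calc x i * (t * ee z t x i) * (x i)⁻¹ = (x i * t * (x i)⁻¹) * (x i * ee z t x i * (x i)⁻¹) := by group
    _ = t * ee z t x i * ee z t x i := by rw [P.conj_t h, P.x_e_self h]
    _ = t := by rw [mul_assoc, P.e_sq h, mul_one]

theorem x_s_one (P : HP Om z t K x) (h : W2 Om) (i : Fin 3) :
    x i * (t * ee z t x (i + 1)) * (x i)⁻¹ = t * ee z t x (i + 2) := by
  calc x i * (t * ee z t x (i + 1)) * (x i)⁻¹
      = (x i * t * (x i)⁻¹) * (x i * ee z t x (i + 1) * (x i)⁻¹) := by group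
    _ = t * ee z t x i * (z * ee z t x (i + 1)) := by rw [P.conj_t h, P.x_e_ne h (i_ne1 i)]
    _ = t * (ee z t x i * z) * ee z t x (i + 1) := by group
    _ = t * z * (ee z t x i * ee z t x (i + 1)) := by rw [P.e_z h]; group
    _ = _ := by rw [P.e_mul h, mul_assoc, P.q.zzx]

theorem x_s_two (P : HP Om z t K x) (h : W2 Om) (i : Fin 3) :
    x i * (t * ee z t x (i + 2)) * (x i)⁻¹ = t * ee z t x (i + 1) := by
  calc x i * (t * ee z t x (i + 2)) * (x i)⁻¹
      = (x i * t * (x i)⁻¹) * (x i * ee z t x (i + 2) * (x i)⁻¹) := by group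
    _ = t * ee z t x i * (z * ee z t x (i + 2)) := by rw [P.conj_t h, P.x_e_ne h (i_ne2 i)]
    _ = t * (ee z t x i * z) * ee z t x (i + 2) := by group
    _ = t * z * (ee z t x (i + 2) * ee z t x i) := by rw [P.e_z h, P.e_comm h (i + 2)]; group
    _ = _ := by
      have h1 := P.e_mul h (i + 2)
      rw [i21, i22] at h1
      rw [h1, mul_assoc, P.q.zzx]

end HP

namespace FP

variable {x l : Fin 3 → G} {i j : Fin 3}

/-- `n_i = x_i l_i x_i⁻¹` -/
theorem n_z (F : FP Om z t K x L l) (h : W2 Om) (i : Fin 3) :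
    (x i * l i * (x i)⁻¹) * z * (x i * l i * (x i)⁻¹)⁻¹ = t := by
  have h1 : (x i)⁻¹ * z * x i = z := by rw [mul_assoc, F.P.q.zc, inv_mul_cancel_left]
  calc (x i * l i * (x i)⁻¹) * z * (x i * l i * (x i)⁻¹)⁻¹
      = x i * (l i * ((x i)⁻¹ * z * x i) * (l i)⁻¹) * (x i)⁻¹ := by group
    _ = x i * (x i * t * (x i)⁻¹) * (x i)⁻¹ := by rw [h1, F.conj_eq h]
    _ = t := by rw [F.P.conj_t h, F.P.x_s_self h]

theorem n_t (F : FP Om z t K x L l) (h : W2 Om) (i : Fin 3) :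
    (x i * l i * (x i)⁻¹) * t * (x i * l i * (x i)⁻¹)⁻¹ = z := by
  have h1 : (x i)⁻¹ * t * x i = x i * t * (x i)⁻¹ := by
    have h2 := F.P.x_s_self h i
    rw [← F.P.conj_t h] at h2
    calc (x i)⁻¹ * t * x i = (x i)⁻¹ * (x i * (x i * t * (x i)⁻¹) * (x i)⁻¹) * x i := by rw [h2]
      _ = _ := by group
  have h3 : l i * (l i * z * (l i)⁻¹) * (l i)⁻¹ = z := by
    have h2 := F.Q.x_s_self h i
    rwa [← F.Q.conj_t h] at h2
  calc (x i * l i * (x i)⁻¹) * t * (x i * l i * (x i)⁻¹)⁻¹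
      = x i * (l i * ((x i)⁻¹ * t * x i) * (l i)⁻¹) * (x i)⁻¹ := by group
    _ = x i * (l i * (l i * z * (l i)⁻¹) * (l i)⁻¹) * (x i)⁻¹ := by rw [h1, ← F.conj_eq h]
    _ = x i * z * (x i)⁻¹ := by rw [h3]
    _ = z := by rw [← F.P.q.zc, mul_inv_cancel_right]

/-- `s_i` -/
theorem n_self (F : FP Om z t K x L l) (h : W2 Om) (i : Fin 3) :
    (x i * l i * (x i)⁻¹) * (t * ee z t x i) * (x i * l i * (x i)⁻¹)⁻¹ = t * ee z t x i := by
  have h1 : (x i)⁻¹ * (t * ee z t x i) * x i = t := by rw [← F.P.conj_t h]; group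
  have h2 : l i * t * (l i)⁻¹ = t := by rw [← F.Q.q.zc, mul_inv_cancel_right]
  calc (x i * l i * (x i)⁻¹) * (t * ee z t x i) * (x i * l i * (x i)⁻¹)⁻¹
      = x i * (l i * ((x i)⁻¹ * (t * ee z t x i) * x i) * (l i)⁻¹) * (x i)⁻¹ := by group
    _ = x i * t * (x i)⁻¹ := by rw [h1, h2]
    _ = _ := F.P.conj_t h i

theorem n_one (F : FP Om z t K x L l) (h : W2 Om) (i : Fin 3) :
    (x i * l i * (x i)⁻¹) * (t * ee z t x (i + 1)) * (x i * l i * (x i)⁻¹)⁻¹ = t * ee z t x (i + 2) := by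
  have h1 : (x i)⁻¹ * (t * ee z t x (i + 1)) * x i = t * ee z t x (i + 2) := by
    rw [← F.P.x_s_two h i]; group
  calc (x i * l i * (x i)⁻¹) * (t * ee z t x (i + 1)) * (x i * l i * (x i)⁻¹)⁻¹
      = x i * (l i * ((x i)⁻¹ * (t * ee z t x (i + 1)) * x i) * (l i)⁻¹) * (x i)⁻¹ := by group
    _ = x i * (l i * (z * ee t z l (i + 2)) * (l i)⁻¹) * (x i)⁻¹ := by rw [h1, F.eq]
    _ = x i * (t * ee z t x (i + 1)) * (x i)⁻¹ := by rw [F.Q.x_s_two h, ← F.eq]
    _ = _ := F.P.x_s_one h i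

theorem n_two (F : FP Om z t K x L l) (h : W2 Om) (i : Fin 3) :
    (x i * l i * (x i)⁻¹) * (t * ee z t x (i + 2)) * (x i * l i * (x i)⁻¹)⁻¹ = t * ee z t x (i + 1) := by
  have h1 : (x i)⁻¹ * (t * ee z t x (i + 2)) * x i = t * ee z t x (i + 1) := by
    rw [← F.P.x_s_one h i]; group
  calc (x i * l i * (x i)⁻¹) * (t * ee z t x (i + 2)) * (x i * l i * (x i)⁻¹)⁻¹
      = x i * (l i * ((x i)⁻¹ * (t * ee z t x (i + 2)) * x i) * (l i)⁻¹) * (x i)⁻¹ := by group
    _ = x i * (l i * (z * ee t z l (i + 1)) * (l i)⁻¹) * (x i)⁻¹ := by rw [h1, F.eq]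
    _ = x i * (t * ee z t x (i + 2)) * (x i)⁻¹ := by rw [F.Q.x_s_one h, ← F.eq]
    _ = _ := F.P.x_s_two h i

end FP

/-- (8.11) an element of order 3 on both members, centralising `X_z` and `t` -/
theorem FP.exists_rot {x l : Fin 3 → G} (F : FP Om z t K x L l) (h : W2 Om) (hT : TO Om) (hF : CF Om) :
    ∃ d, d * z = z * d ∧ d * t = t * d ∧ (∀ y ∈ CX Om z, d * y = y * d) ∧ cj d K = K ∧
      ∀ i, d * x i * d⁻¹ = x (i + 2) ∨ d * x i * d⁻¹ = z * x (i + 2) := by
  obtain ⟨n0, h0⟩ : ∃ n0, n0 = x 0 * l 0 * (x 0)⁻¹ := ⟨_, rfl⟩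
  obtain ⟨n1, h1⟩ : ∃ n1, n1 = x 1 * l 1 * (x 1)⁻¹ := ⟨_, rfl⟩
  have a0 := F.n_z h 0
  have a1 := F.n_z h 1
  have b0 := F.n_t h 0
  have b1 := F.n_t h 1
  have c0 := F.n_self h 0
  have c1 := F.n_self h 1
  have d0 := F.n_one h 0
  have d1 := F.n_one h 1
  have e0 := F.n_two h 0
  have e1 := F.n_two h 1
  rw [← h0] at a0 b0 c0 d0 e0
  rw [← h1] at a1 b1 c1 d1 e1
  rw [zero_add] at d0 e0
  rw [show (1 : Fin 3) + 1 = 2 from rfl, show (1 : Fin 3) + 2 = 0 from rfl] at d1 e1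
  rw [zero_add] at d0 e0
  obtain ⟨D, hD⟩ : ∃ D, D = n0 * n1 := ⟨_, rfl⟩
  have hcomp : ∀ a, D * a * D⁻¹ = n0 * (n1 * a * n1⁻¹) * n0⁻¹ := fun a => by rw [hD]; group
  have hDz : D * z * D⁻¹ = z := by rw [hcomp, a1, b0]
  have hDt : D * t * D⁻¹ = t := by rw [hcomp, b1, a0]
  have hDs : ∀ i, D * (t * ee z t x i) * D⁻¹ = t * ee z t x (i + 1) := by
    intro i
    fin_cases i
    · show D * (t * ee z t x 0) * D⁻¹ = t * ee z t x 1
      rw [hcomp, e1, e0]
    · show D * (t * ee z t x 1) * D⁻¹ = t * ee z t x 2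
      rw [hcomp, c1, d0]
    · show D * (t * ee z t x 2) * D⁻¹ = t * ee z t x 0
      rw [hcomp, d1, c0]
  have hDe : ∀ i, D * ee z t x i * D⁻¹ = ee z t x (i + 1) := by
    intro i
    have h2 := hDs i
    have h3 : D * (t * ee z t x i) * D⁻¹ = (D * t * D⁻¹) * (D * ee z t x i * D⁻¹) := by group
    rw [h3, hDt] at h2
    exact mul_left_cancel h2
  have hDzc : D * z = z * D := by rwa [mul_inv_eq_iff_eq_mul] at hDz
  have hDtc : D * t = t * D := by rwa [mul_inv_eq_iff_eq_mul] at hDt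
  -- `D` centralises `X_z`
  have hcen : ∀ y ∈ CX Om z, y ∈ CX Om t → D * y = y * D := by
    intro y hy hy'
    have h2 : ∀ i, y * (x i * l i * (x i)⁻¹) = (x i * l i * (x i)⁻¹) * y := by
      intro i
      have e1 : y * x i = x i * y := mem_CX.1 hy K F.P.hK _ (F.P.q.mem i)
      have e2 : y * l i = l i * y := mem_CX.1 hy' L F.Q.hK _ (F.Q.q.mem i)
      have e3 : y * (x i)⁻¹ = (x i)⁻¹ * y := by
        rw [eq_inv_mul_iff_mul_eq, ← mul_assoc, ← e1, mul_inv_cancel_right]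
      calc y * (x i * l i * (x i)⁻¹) = (y * x i) * l i * (x i)⁻¹ := by group
        _ = x i * (y * l i) * (x i)⁻¹ := by rw [e1]; group
        _ = x i * l i * (y * (x i)⁻¹) := by rw [e2]; group
        _ = _ := by rw [e3]; group
    rw [hD, h0, h1]
    rw [mul_assoc, ← h2 1, ← mul_assoc, ← h2 0, mul_assoc]
  have hDX : ∀ y ∈ CX Om z, D * y = y * D := by
    intro y hy
    rcases F.cases h hT hy (F.P.pr.cent h hT hF hy) with h2 | h2
    · exact hcen y hy h2
    · have h3 := hcen _ (mul_mem hy (z_mem_CX h)) h2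
      rw [← mul_assoc, mul_assoc y z D, ← hDzc, ← mul_assoc] at h3
      exact mul_right_cancel h3
  refine ⟨D * D, by rw [mul_assoc, hDzc, ← mul_assoc, hDzc, mul_assoc], by
    rw [mul_assoc, hDtc, ← mul_assoc, hDtc, mul_assoc], fun y hy => by
    rw [mul_assoc, hDX y hy, ← mul_assoc, hDX y hy, mul_assoc], ?_, ?_⟩
  · rw [cj_mul]
    rcases F.P.cases h (F.P.hK.cj_comm h hDzc) with h2 | h2
    · rw [h2, h2]
    · rw [h2]
      rcases F.P.cases h ((F.P.hK' h).cj_comm h hDzc) with h3 | h3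
      · exact h3
      · exact absurd (cj_inj.1 (h2.trans h3.symm)) F.P.ne'
  · intro i
    have hDDz : D * D * z = z * (D * D) := by rw [mul_assoc, hDzc, ← mul_assoc, hDzc, mul_assoc]
    have hDDt : D * D * t = t * (D * D) := by rw [mul_assoc, hDtc, ← mul_assoc, hDtc, mul_assoc]
    refine F.P.act_of_e h hDDz hDDt ?_ ?_
    · rw [cj_mul]
      rcases F.P.cases h (F.P.hK.cj_comm h hDzc) with h2 | h2
      · rw [h2, h2]
      · rw [h2]
        rcases F.P.cases h ((F.P.hK' h).cj_comm h hDzc) with h3 | h3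
        · exact h3
        · exact absurd (cj_inj.1 (h2.trans h3.symm)) F.P.ne'
    · have h2 : D * D * ee z t x i * (D * D)⁻¹ = D * (D * ee z t x i * D⁻¹) * D⁻¹ := by group
      rw [h2, hDe, hDe, i11]

/-- the rotation `i ↦ i + 2` -/
def rho : Equiv.Perm (Fin 3) := Equiv.addRight 2

theorem PR.exists_rot (hp : PR Om z t) {x : Fin 3 → G} (hK : Mem Om z K) (hx : Q3 K z x) (h : W2 Om) (hT : TO Om)
    (hF : CF Om) : ∃ d, d * z = z * d ∧ (∀ y ∈ CX Om z, d * y = y * d) ∧ Act z x x d rho ∧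
      Act z (fun i => t * x i * t⁻¹) (fun i => t * x i * t⁻¹) d rho := by
  have P : HP Om z t K x := ⟨hp, hK, hx⟩
  obtain ⟨L, l, Q⟩ := (hp.symm h hT).exists_hp h
  obtain ⟨l', F⟩ := P.exists_fp Q h hT
  obtain ⟨d, hdz, hdt, hdX, -, hd⟩ := F.exists_rot h hT hF
  refine ⟨d, hdz, hdX, hd, fun i => ?_⟩
  have h2 : t⁻¹ * d⁻¹ = d⁻¹ * t⁻¹ := by rw [← mul_inv_rev, ← mul_inv_rev, hdt]
  have h1 : d * (t * x i * t⁻¹) * d⁻¹ = t * (d * x i * d⁻¹) * t⁻¹ := by
    calc d * (t * x i * t⁻¹) * d⁻¹ = (d * t) * x i * (t⁻¹ * d⁻¹) := by group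
      _ = (t * d) * x i * (d⁻¹ * t⁻¹) := by rw [hdt, h2]
      _ = _ := by group
  show d * (t * x i * t⁻¹) * d⁻¹ = t * x (i + 2) * t⁻¹ ∨ d * (t * x i * t⁻¹) * d⁻¹ = z * (t * x (i + 2) * t⁻¹)
  rw [h1]
  rcases hd i with h3 | h3
  · left; rw [h3]
  · right
    rw [h3]
    calc t * (z * x (i + 2)) * t⁻¹ = (t * z) * x (i + 2) * t⁻¹ := by group
      _ = (z * t) * x (i + 2) * t⁻¹ := by rw [hp.comm]
      _ = _ := by group

theorem Act.inv' {a b : Fin 3 → G} {σ : Equiv.Perm (Fin 3)} (hz : z * z = 1) (ha : Act z a b g σ)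
    (hg : g * z = z * g) : Act z b a g⁻¹ σ⁻¹ := by
  intro j
  have h1 := ha (σ⁻¹ j)
  rw [show σ (σ⁻¹ j) = j from σ.apply_symm_apply j] at h1
  have hgi : g⁻¹ * z = z * g⁻¹ := by
    rw [inv_mul_eq_iff_eq_mul, ← mul_assoc, hg, mul_inv_cancel_right]
  rcases h1 with h1 | h1
  · left; rw [← h1]; group
  · right
    have h2 : b j = z * (g * a (σ⁻¹ j) * g⁻¹) := by rw [h1, ← mul_assoc, hz, one_mul]
    rw [h2]
    calc g⁻¹ * (z * (g * a (σ⁻¹ j) * g⁻¹)) * g⁻¹⁻¹ = (g⁻¹ * z) * g * a (σ⁻¹ j) := by group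
      _ = _ := by rw [hgi]; group

theorem perm_pi : ∀ π : Equiv.Perm (Fin 3), π = 1 ∨ rho * (π * (rho * π⁻¹)) = 1 ∨ π = rho ∨ π = rho * rho := by
  decide

theorem rho_facts : rho * rho * (rho * rho) * (rho * rho) = 1 ∧ rho * rho ≠ 1 ∧ rho * rho * rho = 1 ∧ rho ≠ 1 ∧
    rho * (rho * (rho * rho)) = rho ∧ rho * (rho * (rho * rho)⁻¹) = 1 := by decide

/-- (8.12), (8.13) : all neighbours of type p have the same graph -/
theorem HP.pi_inn {x : Fin 3 → G} {t' : G} (P : HP Om z t K x) (h : W2 Om) (hT : TO Om) (hF : CF Om)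
    (hp' : PR Om z t') (hncl : ¬ ClM Om) : Inn Om z (t * t') := by
  have hcj : cj t' K = cj t K := by
    rcases P.cases h (P.hK.cj_comm h hp'.comm.symm) with h1 | h1
    · exact absurd h1 (hp'.sw K P.hK)
    · exact h1
  have z2 := P.q.z2
  have htz : t * z = z * t := P.pr.comm.symm
  have htz' : t' * z = z * t' := hp'.comm.symm
  obtain ⟨b, hb⟩ : ∃ b : Fin 3 → G, b = fun i => t * x i * t⁻¹ := ⟨_, rfl⟩
  have hq' : Q3 (cj t K) z b := by rw [hb]; exact P.q'
  obtain ⟨π, hπ⟩ := P.q.exists_act hq' hcj htz'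
  have hxb : Act z x b t 1 := fun i => Or.inl (by rw [hb]; rfl)
  have hbx : Act z b x t 1 := fun i => Or.inl (by rw [hb]; exact P.tt h (x i))
  have hA : Act z x x (t * t') π := by
    have := hπ.comp z2 hbx htz
    rwa [one_mul] at this
  have hπ' : Act z b x t' π⁻¹ := by
    have := hπ.inv' z2 htz'
    rwa [hp'.tinv h] at this
  have hB : Act z b b (t * t') π⁻¹ := by
    have := hπ'.comp z2 hxb htz
    rwa [one_mul] at this
  have htt : t * t' * z = z * (t * t') := by rw [mul_assoc, htz', ← mul_assoc, htz, mul_assoc]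
  have httX : ∀ y ∈ CX Om z, t * t' * y = y * (t * t') := by
    intro y hy
    have h1 := P.pr.cent h hT hF hy
    have h2 := hp'.cent h hT hF hy
    rw [mul_assoc, ← h2, ← mul_assoc, ← h1, mul_assoc]
  obtain ⟨d, hdz, hdX, hdx, hdb⟩ := P.pr.exists_rot P.hK P.q h hT hF
  rw [← hb] at hdb
  have hr := rho_facts
  rcases perm_pi π with h1 | h1 | h1 | h1
  · -- same graph
    rw [h1] at hA hB
    rw [inv_one] at hB
    intro M hM
    rcases P.cases h hM with rfl | rfl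
    · exact hA.inner P.q htt
    · exact hB.inner hq' htt
  · exfalso
    obtain ⟨d', hdz', hdX', hdx', hdb'⟩ := hp'.exists_rot P.hK P.q h hT hF
    have e1 : Act z (fun i => t' * x i * t'⁻¹) b 1 π := by
      intro i
      have h2 := hπ i
      rw [one_mul, inv_one, mul_one]
      exact h2
    have e2 : Act z b (fun i => t' * x i * t'⁻¹) 1 π⁻¹ := by
      have := e1.inv' z2 (by rw [one_mul, mul_one])
      rwa [inv_one] at this
    have e3 := (e2.comp z2 hdb' hdz').comp z2 e1 (by rw [one_mul, mul_one])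
    rw [one_mul, mul_one] at e3
    have e4 := e3.comp z2 hdb hdz
    have e5 := hdx'.comp z2 hdx hdz
    rw [h1] at e4
    have hdd : d * d' * z = z * (d * d') := by rw [mul_assoc, hdz', ← mul_assoc, hdz, mul_assoc]
    exact hncl (Wt.clm (g := d * d') (σ := rho * rho)
      ⟨P.hK, P.hK' h, P.ne', P.q, e5, hr.1, hr.2.1, hdd, fun y hy => by
        rw [mul_assoc, hdX' y hy, ← mul_assoc, hdX y hy, mul_assoc], e4.inner hq' hdd⟩ h hF)
  · exfalso
    rw [h1] at hA hB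
    have e4 := hB.comp z2 hdb hdz
    have e5 := hA.comp z2 hdx hdz
    rw [mul_inv_cancel] at e4
    have hdd : d * (t * t') * z = z * (d * (t * t')) := by rw [mul_assoc, htt, ← mul_assoc, hdz, mul_assoc]
    exact hncl (Wt.clm (g := d * (t * t')) (σ := rho * rho)
      ⟨P.hK, P.hK' h, P.ne', P.q, e5, hr.1, hr.2.1, hdd, fun y hy => by
        rw [mul_assoc, httX y hy, ← mul_assoc, hdX y hy, mul_assoc], e4.inner hq' hdd⟩ h hF)
  · exfalso
    rw [h1] at hA hB
    have e4 := (hB.comp z2 hdb hdz).comp z2 hdb hdz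
    have e5 := (hA.comp z2 hdx hdz).comp z2 hdx hdz
    rw [hr.2.2.2.2.1] at e5
    rw [hr.2.2.2.2.2] at e4
    have hdd1 : d * (t * t') * z = z * (d * (t * t')) := by rw [mul_assoc, htt, ← mul_assoc, hdz, mul_assoc]
    have hdd : d * (d * (t * t')) * z = z * (d * (d * (t * t'))) := by
      rw [mul_assoc, hdd1, ← mul_assoc, hdz, mul_assoc]
    have hX1 : ∀ y ∈ CX Om z, d * (t * t') * y = y * (d * (t * t')) := fun y hy => by
      rw [mul_assoc, httX y hy, ← mul_assoc, hdX y hy, mul_assoc]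
    exact hncl (Wt.clm (g := d * (d * (t * t'))) (σ := rho)
      ⟨P.hK, P.hK' h, P.ne', P.q, e5, hr.2.2.1, hr.2.2.2.1, hdd, fun y hy => by
        rw [mul_assoc, hX1 y hy, ← mul_assoc, hdX y hy, mul_assoc], e4.inner hq' hdd⟩ h hF)

/-- there are no pairs of type f -/
theorem FR.false (hf : FR Om z t) (h : W2 Om) (hT : TO Om) (hF : CF Om) (hncl : ¬ ClM Om) : False := by
  have hf' := hf.symm h hT
  obtain ⟨-, w, hw, r, hr, hw1, hwt, hwz, hrz⟩ := hf'.exists_w h hT
  have hz2 : z * z = 1 := hf.hz.z2 h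
  have hrt : r * t = t * r := RZ_le_centralizer h hr
  have hzwZ : InZ Om (z * w) := by rw [← hrz]; exact hf.hz.conj h r
  have hft : FR Om t (z * w) := by
    have := hf'.conj h r
    rwa [hrt, mul_inv_cancel_right, hrz] at this
  have htzwZ : InZ Om (t * (z * w)) := (hft.exists_w h hT).1
  have hwt' : w * t = t * w := RZ_le_centralizer h hw
  have hw2 : w * w = 1 := by
    have h1 := hzwZ.z2 h
    calc w * w = (z * z) * (w * w) := by rw [hz2, one_mul]
      _ = z * (z * w) * w := by group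
      _ = z * (w * z) * w := by rw [hwz]
      _ = (z * w) * (z * w) := by group
      _ = 1 := h1
  -- first p-pair
  have p1 : PR Om z (z * w) := by
    refine pr_of h hT hf.hz hzwZ (fun h1 => hw1 (mul_eq_left.1 h1.symm)) ?_ ?_
    · calc z * (z * w) = z * (w * z) := by rw [hwz]
        _ = _ := by group
    · rw [← mul_assoc, hz2, one_mul]
      exact fun h1 => hwt (eq_of_RZ h hT hf.ht h1 hw)
  have hzt : z * t = t * z := hf.comm
  have hprod : z * (t * (z * w)) = t * w := by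
    calc z * (t * (z * w)) = (z * t) * (z * w) := by group
      _ = t * (z * z) * w := by rw [hzt]; group
      _ = t * w := by rw [hz2, mul_one]
  have p2 : PR Om z (t * (z * w)) := by
    refine pr_of h hT hf.hz htzwZ ?_ ?_ ?_
    · intro h1
      have h2 : z * z = t * w := by rw [← hprod, ← h1]
      rw [hz2] at h2
      have h3 : w = t := by
        rw [← hf.ht.inv h]
        exact eq_inv_of_mul_eq_one_right h2.symm
      exact hwt h3
    · rw [hprod]
      calc t * w = t * w * (z * z) := by rw [hz2, mul_one]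
        _ = t * (w * z) * z := by group
        _ = t * (z * w) * z := by rw [hwz]
    · rw [hprod]
      intro h1
      have h2 := eq_of_RZ h hT hf.ht h1 (mul_mem (z_mem_RZ hf.ht h) hw)
      exact hw1 (mul_eq_left.1 h2)
  obtain ⟨K, x, P⟩ := p1.exists_hp h
  have h1 := P.pi_inn h hT hF p2 hncl
  have h2 : z * w * (t * (z * w)) = t := by
    calc z * w * (t * (z * w)) = z * (w * t) * (z * w) := by group
      _ = z * (t * w) * (z * w) := by rw [hwt']
      _ = (z * t) * (w * z) * w := by group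
      _ = (t * z) * (z * w) * w := by rw [hzt, hwz]
      _ = t * (z * z) * (w * w) := by group
      _ = t := by rw [hz2, hw2, mul_one, mul_one]
  rw [h2] at h1
  exact hf.ne (hT z t hf.hz hf.ht h1).symm

/-- commuting is transitive on `Z` -/
theorem comm_transM (h : W2 Om) (hT : TO Om) (hF : CF Om) (hncl : ¬ ClM Om) {a b : G} (hz : InZ Om z)
    (ha : InZ Om a) (hb : InZ Om b) (hza : z * a = a * z) (hzb : z * b = b * z) : a * b = b * a := by
  by_cases h1 : z = a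
  · rw [← h1]; exact hzb
  by_cases h2 : z = b
  · rw [← h2]; exact hza.symm
  have pa : PR Om z a := by
    rcases pr_or_fr h hz ha h1 hza with h3 | h3
    · exact h3
    · exact (h3.false h hT hF hncl).elim
  have pb : PR Om z b := by
    rcases pr_or_fr h hz hb h2 hzb with h3 | h3
    · exact h3
    · exact (h3.false h hT hF hncl).elim
  obtain ⟨K, x, P⟩ := pa.exists_hp h
  rcases P.eq_cases h hT hF pb (P.pi_inn h hT hF pb hncl) with h3 | ⟨i, h3⟩
  · rw [h3]
  · rw [h3, mul_assoc, P.e_t h]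

/-- the closer for commutative strongly closed subgroups of `G0` (= `SC.Wd.false_of_closed`) -/
def AbC (G0 : Subgroup G) : Prop := ∀ (S : Sylow 2 G) (A : Subgroup G), A ≠ ⊥ → A ≤ G0 →
  (∀ x ∈ A, ∀ y ∈ A, x * y = y * x) → ¬ IsStronglyClosed A (S : Subgroup G)

/-- **the T-only world is empty** -/
theorem t_worldM (h : W2 Om) (hT : TO Om) (hF : CF Om) (hne : Om.Nonempty) (hncl : ¬ ClM Om) {G0 : Subgroup G}
    (hle : ∀ z, InZ Om z → z ∈ G0) (hab : AbC G0) : False := by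
  haveI : Fact (Nat.Prime 2) := ⟨Nat.prime_two⟩
  let N : G → Subgroup G := fun z => closure {t | InZ Om t ∧ z * t = t * z}
  have hNle : ∀ z g, cj g (N z) ≤ N (g * z * g⁻¹) := by
    intro z g
    show (N z).map (MulAut.conj g).toMonoidHom ≤ _
    rw [Subgroup.map_le_iff_le_comap, closure_le]
    rintro t ⟨ht, htz⟩
    show g * t * g⁻¹ ∈ N (g * z * g⁻¹)
    refine subset_closure ⟨ht.conj h g, ?_⟩
    calc g * z * g⁻¹ * (g * t * g⁻¹) = g * (z * t) * g⁻¹ := by group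
      _ = g * (t * z) * g⁻¹ := by rw [htz]
      _ = _ := by group
  have e : Eqv Om N := by
    refine Eqv.of_const (fun z hz g => ?_) (fun z t hz ht hzt => ?_)
    · refine le_antisymm ?_ (hNle z g)
      have h1 := cj_mono g (hNle (g * z * g⁻¹) g⁻¹)
      have h2 : g⁻¹ * (g * z * g⁻¹) * g⁻¹⁻¹ = z := by group
      rwa [cj_cj_inv, h2] at h1
    · show Subgroup.closure _ = Subgroup.closure _
      congr 1
      ext s
      constructor
      · rintro ⟨hs, hsz⟩
        exact ⟨hs, comm_transM h hT hF hncl hz ht hs hzt hsz⟩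
      · rintro ⟨hs, hsz⟩
        exact ⟨hs, comm_transM h hT hF hncl ht hz hs hzt.symm hsz⟩
  obtain ⟨S⟩ : Nonempty (Sylow 2 G) := inferInstance
  obtain ⟨z, K, hK, hKS, hc⟩ := h.exists_member_central hne S
  have hz := hK.inZ
  have hzN : z ∈ N z ⊓ (S : Subgroup G) := ⟨subset_closure ⟨hz, rfl⟩, hKS (hK.zmem h)⟩
  refine hab S (N z ⊓ S) ?_ (inf_le_left.trans ((closure_le _).2 fun t ht => hle t ht.1)) ?_ (e.strong h S hz hc)
  · intro h1
    rw [h1, Subgroup.mem_bot] at hzN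
    exact hz.z1 h hzN
  · have h1 : ∀ b, InZ Om b → z * b = b * z → N z ≤ centralizer {b} := by
      intro b hb hbz
      refine (closure_le _).2 ?_
      rintro a ⟨ha, haz⟩
      exact mem_centralizer_singleton_iff.2 (comm_transM h hT hF hncl hz ha hb haz hbz)
    have h2 : ∀ a ∈ N z, N z ≤ centralizer {a} := by
      intro a ha
      refine (closure_le _).2 ?_
      rintro b ⟨hb, hbz⟩
      exact mem_centralizer_singleton_iff.2 (mem_centralizer_singleton_iff.1 (h1 b hb hbz ha)).symm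
    intro a ha b hb
    exact (mem_centralizer_singleton_iff.1 (h2 b hb.1 ha.1))

/-- **the T-only world is empty** -/
theorem t_world (h : W2 Om) (hT : TO Om) (hF : CF Om) (hne : Om.Nonempty) (hncl : ¬ ClSL G) {G0 : Subgroup G}
    (hle : ∀ z, InZ Om z → z ∈ G0) (hab : AbC G0) : False :=
  t_worldM h hT hF hne (fun c => hncl (c.clSL h)) hle hab

/-- **the T-only world is empty**, with the hypothesis of the frame: no member has `Three` -/
theorem t_world_three (h : W2 Om) (hT : TO Om) (hF : CF Om) (hne : Om.Nonempty)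
    (h3 : ∀ K ∈ Om, ¬ IndDefs.Three K) {G0 : Subgroup G} (hle : ∀ z, InZ Om z → z ∈ G0) (hab : AbC G0) : False :=
  t_worldM h hT hF hne (fun c => by
    obtain ⟨K, hK, h4⟩ := c.three
    exact h3 K hK h4) hle hab

end Cfsg.Agent.Cit.Nil.RTwo
end

-- part: Cit/Nil/LO/FormGrp
section
set_option linter.all false
open scoped Cfsg.Agent.FastGrp

/-!
# S1309, (D3), node (n1), piece (C): `FormQ` for sections of a group

* `wedd_grp`, `QK.triv_of_irr` : `K = Q₈` centralises `J`, `J` irreducible on the abelian group `V`: `e` centralises `V`;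
* `alt_grp` : `N ≤ Z(M)`, `|M| = |N|³`, `[u, M] = N` for `u ∈ M \ N`, `e` an involution centralising `N`: `e` centralises
  or inverts `M / N`;
* `sym_grp` : `M` abelian, `|M| = |Q|²`, `β(u, v) = [u, v^n] ∈ Q` symmetric, nondegenerate, `K`-invariant: `e` centralises
  or inverts `M`, and in the second case `u ⟂ u^a` for all `a ∈ K`, `a² = e`.
-/

set_option autoImplicit false
set_option linter.unusedSectionVars false

namespace Cfsg.Agent.LOC.FormGrp

open Cfsg.Agent.LOC.ChartDefs Cfsg.Agent.Cit.Nil.LO.FormQ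
open scoped commutatorElement

variable {G : Type*} [Group G]

theorem conj_mem {V : Subgroup G} {a : G} (ha : a ∈ Subgroup.normalizer (V : Set G)) {v : G} (hv : v ∈ V) :
    a * v * a⁻¹ ∈ V := (Subgroup.mem_normalizer_iff.1 ha v).1 hv

theorem wedd_grp {V J : Subgroup G} [Finite V] (hV : ∀ u ∈ V, ∀ v ∈ V, u * v = v * u)
    (hJ : J ≤ Subgroup.normalizer (V : Set G))
    (irr : ∀ U : Subgroup G, U ≤ V → (∀ j ∈ J, ∀ u ∈ U, j * u * j⁻¹ ∈ U) → U = ⊥ ∨ U = V)
    {a b : G} (ha : a ∈ Subgroup.normalizer (V : Set G)) (hb : b ∈ Subgroup.normalizer (V : Set G))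
    (haJ : ∀ j ∈ J, j * a = a * j) (hbJ : ∀ j ∈ J, j * b = b * j) :
    ∀ v ∈ V, a * b * v * (a * b)⁻¹ = b * a * v * (b * a)⁻¹ := by
  let iC : CommGroup V :=
    { (inferInstance : Group V) with mul_comm := fun u v => Subtype.ext (hV u u.2 v v.2) }
  let φ : Subgroup.normalizer (V : Set G) →* MulAut V := Subgroup.normalizerMonoidHom V
  have hφ : ∀ (g : Subgroup.normalizer (V : Set G)) (v : V), ((φ g v : V) : G) = g * v * (g : G)⁻¹ := fun g v => rfl
  let JJ : Set (MulAut V) := {f | ∃ j, ∃ hj : j ∈ J, f = φ ⟨j, hJ hj⟩}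
  have hc : ∀ (g : G) (hg : g ∈ Subgroup.normalizer (V : Set G)), (∀ j ∈ J, j * g = g * j) →
      ∀ f ∈ JJ, f * φ ⟨g, hg⟩ = φ ⟨g, hg⟩ * f := by
    rintro g hg hgJ f ⟨j, hj, rfl⟩
    rw [← map_mul, ← map_mul]
    congr 1
    exact Subtype.ext (hgJ j hj)
  have key := wedd (V := V) (J := JJ) (a := φ ⟨a, ha⟩) (b := φ ⟨b, hb⟩) (by
    intro U hU
    have h1 := irr (U.map V.subtype) (Subgroup.map_subtype_le U) (by
      rintro j hj _ ⟨u, hu, rfl⟩
      have := hU _ ⟨j, hj, rfl⟩ u hu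
      exact ⟨_, this, rfl⟩)
    rcases h1 with h1 | h1
    · left
      rwa [Subgroup.map_eq_bot_iff_of_injective _ V.subtype_injective] at h1
    · right
      rw [eq_top_iff]
      intro v _
      have h2 : (v : G) ∈ U.map V.subtype := by rw [h1]; exact v.2
      obtain ⟨u, hu, hv⟩ := h2
      rwa [← Subtype.ext (p := fun x => x ∈ V) hv]) (hc a ha haJ) (hc b hb hbJ)
  intro v hv
  rw [← map_mul, ← map_mul] at key
  have h2 := congrArg (fun f : MulAut V => ((f ⟨v, hv⟩ : V) : G)) key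
  exact h2

theorem sq_eq_one {H : Subgroup G} [Finite H] (hodd : Odd (Nat.card H)) {v : G} (hv : v ∈ H) (h2 : v * v = 1) :
    v = 1 := by
  have h1 : orderOf (⟨v, hv⟩ : H) ∣ 2 := orderOf_dvd_of_pow_eq_one (by
    rw [pow_two]; exact Subtype.ext h2)
  have h3 := orderOf_eq_one_iff.1 (Nat.eq_one_of_dvd_coprimes (Nat.coprime_two_left.2 hodd) h1
    (orderOf_dvd_natCard (⟨v, hv⟩ : H)))
  exact congrArg Subtype.val h3

theorem comm_mul_right {u x y : G} (h : ⁅u, y⁆ * x = x * ⁅u, y⁆) : ⁅u, x * y⁆ = ⁅u, x⁆ * ⁅u, y⁆ := by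
  have e1 : ⁅u, x * y⁆ = ⁅u, x⁆ * (x * ⁅u, y⁆ * x⁻¹) := by
    simp only [commutatorElement_def]; group
  rw [e1, ← h]; group

theorem comm_mul_left {u u' x : G} (h : ⁅u', x⁆ * u = u * ⁅u', x⁆) : ⁅u * u', x⁆ = ⁅u', x⁆ * ⁅u, x⁆ := by
  have e1 : ⁅u * u', x⁆ = (u * ⁅u', x⁆ * u⁻¹) * ⁅u, x⁆ := by
    simp only [commutatorElement_def]; group
  rw [e1, ← h]; group

theorem comm_inv_right {u x : G} (h : ⁅u, x⁆ * x = x * ⁅u, x⁆) : ⁅u, x⁻¹⁆ = ⁅u, x⁆⁻¹ := by
  have e1 : ⁅u, x⁻¹⁆ = x⁻¹ * ⁅u, x⁆⁻¹ * x := by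
    simp only [commutatorElement_def]; group
  have h' : x⁻¹ * ⁅u, x⁆⁻¹ = ⁅u, x⁆⁻¹ * x⁻¹ := by
    rw [← mul_inv_rev, ← mul_inv_rev, h]
  rw [e1, h']; group

theorem conj_comm (k u x : G) : k * ⁅u, x⁆ * k⁻¹ = ⁅k * u * k⁻¹, k * x * k⁻¹⁆ := by
  simp only [commutatorElement_def]; group

/-- **The plane with an alternating form.** -/
theorem alt_grp [Finite G] {M N : Subgroup G} (hNM : N ≤ M) (hcen : ∀ c ∈ N, ∀ m ∈ M, c * m = m * c)
    (hcomm : ∀ u ∈ M, ∀ v ∈ M, ⁅u, v⁆ ∈ N) (hodd : Odd (Nat.card M))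
    (hcard : Nat.card M = Nat.card N * Nat.card N * Nat.card N)
    (nd : ∀ u ∈ M, u ∉ N → ∀ c ∈ N, ∃ v ∈ M, ⁅u, v⁆ = c) {e : G} (he : e * e = 1)
    (heM : e ∈ Subgroup.normalizer (M : Set G)) (heN : ∀ c ∈ N, e * c = c * e) :
    (∀ m ∈ M, e * m * e⁻¹ * m⁻¹ ∈ N) ∨ ∀ m ∈ M, e * m * e⁻¹ * m ∈ N := by
  have hei : e⁻¹ = e := inv_eq_of_mul_eq_one_right he
  have hoddN : Odd (Nat.card N) := by
    rw [hcard, Nat.odd_mul] at hodd
    exact hodd.2
  set N' : Subgroup M := N.subgroupOf M with hN'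
  have hmem : ∀ m : M, m ∈ N' ↔ (m : G) ∈ N := fun m => Subgroup.mem_subgroupOf
  have hnorm : N'.Normal := ⟨by
    intro c hc m
    rw [hmem] at hc ⊢
    have : ((m * c * m⁻¹ : M) : G) = c := by
      push_cast
      rw [← hcen _ hc m m.2]
      group
    rw [this]
    exact hc⟩
  let V := M ⧸ N'
  have hVcard : Nat.card V = Nat.card N * Nat.card N := by
    have h1 := Subgroup.card_eq_card_quotient_mul_card_subgroup N'
    have h2 : Nat.card N' = Nat.card N := by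
      rw [hN']
      exact Nat.card_congr (Subgroup.subgroupOfEquivOfLe hNM).toEquiv
    rw [h2, hcard] at h1
    exact (Nat.eq_of_mul_eq_mul_right Nat.card_pos h1).symm
  have hVodd : Odd (Nat.card V) := by rw [hVcard]; exact hoddN.mul hoddN
  -- the form
  have hcom : ∀ u v w : M, ⁅(u : G), (v : G)⁆ * w = w * ⁅(u : G), (v : G)⁆ := fun u v w =>
    hcen _ (hcomm u u.2 v v.2) w w.2
  let f : M → (M →* N) := fun u =>
    { toFun := fun v => ⟨⁅(u : G), (v : G)⁆, hcomm u u.2 v v.2⟩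
      map_one' := by
        apply Subtype.ext
        change ⁅(u : G), ((1 : M) : G)⁆ = 1
        rw [Subgroup.coe_one, commutatorElement_one_right]
      map_mul' := fun v w => by
        apply Subtype.ext
        change ⁅(u : G), ((v * w : M) : G)⁆ = ⁅(u : G), (v : G)⁆ * ⁅(u : G), (w : G)⁆
        rw [Subgroup.coe_mul]
        exact comm_mul_right (hcom u w v) }
  have hf : ∀ u v : M, ((f u v : N) : G) = ⁅(u : G), (v : G)⁆ := fun _ _ => rfl
  have hker : ∀ u : M, N' ≤ (f u).ker := by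
    intro u v hv
    rw [MonoidHom.mem_ker]
    apply Subtype.ext
    rw [hf]
    change _ = (1 : G)
    rw [commutatorElement_eq_one_iff_mul_comm]
    exact (hcen _ ((hmem v).1 hv) u u.2).symm
  let β : V → V →* N := fun x => QuotientGroup.lift N' (f x.out) (hker x.out)
  have hβ : ∀ (x : V) (v : M), β x (QuotientGroup.mk v) = f x.out v := fun x v => rfl
  have hout : ∀ x : V, ((x.out : M) : V) = x := fun x => QuotientGroup.out_eq' x
  -- the automorphism
  let c : M ≃* M := Subgroup.normalizerMonoidHom M ⟨e, heM⟩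
  have hc : ∀ m : M, ((c m : M) : G) = e * m * e⁻¹ := fun m => rfl
  have hcN : N'.map (c : M →* M) = N' := by
    apply le_antisymm
    · rintro _ ⟨m, hm, rfl⟩
      rw [hmem]
      have h1 : (m : G) ∈ N := (hmem m).1 hm
      change e * (m : G) * e⁻¹ ∈ N
      rw [heN _ h1]
      have : (m : G) * e * e⁻¹ = m := by group
      rwa [this]
    · intro m hm
      refine ⟨m, hm, ?_⟩
      apply Subtype.ext
      change e * (m : G) * e⁻¹ = m
      rw [heN _ ((hmem m).1 hm)]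
      group
  let E : MulAut V := QuotientGroup.congr N' N' c hcN
  have hE : ∀ m : M, E (QuotientGroup.mk m) = QuotientGroup.mk (c m) := fun m => rfl
  have hmk : ∀ m m' : M, (QuotientGroup.mk m : V) = QuotientGroup.mk m' ↔ (m : G) * (m' : G)⁻¹ ∈ N := by
    intro m m'
    rw [eq_comm, QuotientGroup.eq, ← hnorm.mem_comm_iff, hmem]
    rfl
  have hconj : ∀ u v : M, e * ⁅(u : G), (v : G)⁆ * e⁻¹ = ⁅(u : G), (v : G)⁆ := fun u v => by
    rw [heN _ (hcomm u u.2 v v.2)]; group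
  have h2N : ∀ g : G, g ∈ N → g = g⁻¹ → g = 1 := fun g hg h1 => by
    refine sq_eq_one hoddN hg ?_
    nth_rw 1 [h1]
    exact inv_mul_cancel g
  -- in terms of representatives
  have hcom' : ∀ u v : M, (QuotientGroup.mk u : V) * QuotientGroup.mk v = QuotientGroup.mk v * QuotientGroup.mk u := by
    intro u v
    rw [← QuotientGroup.mk_mul, ← QuotientGroup.mk_mul, hmk]
    have : ((u * v : M) : G) * ((v * u : M) : G)⁻¹ = ⁅(u : G), (v : G)⁆ := by
      push_cast
      rw [commutatorElement_def]; group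
    rw [this]
    exact hcomm u u.2 v v.2
  have hleft : ∀ (x : V) (u : M), (QuotientGroup.mk u : V) = x → ∀ v : M, β x (QuotientGroup.mk v) = f u v := by
    intro x u hu v
    rw [hβ]
    apply Subtype.ext
    rw [hf, hf]
    have h1 : (x.out : G) * (u : G)⁻¹ ∈ N := by
      rw [← hmk, hout, hu]
    have h2 : (x.out : G) = (x.out : G) * (u : G)⁻¹ * u := by group
    rw [h2, comm_mul_left (hcom u v (⟨_, hNM h1⟩ : M))]
    have h3 : ⁅(x.out : G) * (u : G)⁻¹, (v : G)⁆ = 1 := by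
      rw [commutatorElement_eq_one_iff_mul_comm]
      exact hcen _ h1 v v.2
    rw [h3, mul_one]
  have main := formQ (V := V) (Q := N) (by
    intro x y
    obtain ⟨u, rfl⟩ := QuotientGroup.mk_surjective x
    obtain ⟨v, rfl⟩ := QuotientGroup.mk_surjective y
    exact hcom' u v) hVodd hVcard β (by
    intro x hx q
    have h1 : (x.out : G) ∉ N := by
      intro h2
      apply hx
      rw [← hout x]
      exact (QuotientGroup.eq_one_iff _).2 ((hmem _).2 h2)
    obtain ⟨v, hv, hv'⟩ := nd _ x.out.2 h1 q q.2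
    exact ⟨QuotientGroup.mk ⟨v, hv⟩, Subtype.ext hv'⟩) E (by
    intro x
    obtain ⟨u, rfl⟩ := QuotientGroup.mk_surjective x
    rw [hE, hE]
    congr 1
    apply Subtype.ext
    rw [hc, hc, hei]
    calc e * (e * (u : G) * e) * e = (e * e) * u * (e * e) := by group
      _ = u := by rw [he]; group) (by
    intro x y hx hy
    obtain ⟨u, rfl⟩ := QuotientGroup.mk_surjective x
    obtain ⟨v, rfl⟩ := QuotientGroup.mk_surjective y
    rw [hE, hmk] at hx
    rw [hE, ← QuotientGroup.mk_inv, hmk] at hy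
    have k1 : (c u : G) = ((c u : G) * (u : G)⁻¹) * u := by group
    have k2 : (c v : G) = ((c v : G) * ((v⁻¹ : M) : G)⁻¹) * ((v : G)⁻¹) := by
      push_cast
      group
    set α := (c u : G) * (u : G)⁻¹ with hα
    set γ := (c v : G) * ((v⁻¹ : M) : G)⁻¹ with hγ
    have k3 : ⁅(u : G), (v : G)⁆ = ⁅(c u : G), (c v : G)⁆ := by
      rw [hc, hc, ← conj_comm, hconj]
    have k4 : ⁅(c u : G), (c v : G)⁆ = ⁅(u : G), (v : G)⁆⁻¹ := by
      rw [k1, k2, comm_mul_left (by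
        have := hcen _ (hcomm u u.2 (c v) (c v).2) _ (hNM hx)
        rwa [k2] at this)]
      have k5 : ⁅α, γ * (v : G)⁻¹⁆ = 1 := by
        rw [commutatorElement_eq_one_iff_mul_comm]
        exact hcen _ hx _ (mul_mem (hNM hy) (inv_mem v.2))
      rw [k5, mul_one, comm_mul_right (by
        exact hcen _ (hcomm u u.2 _ (inv_mem v.2)) _ (hNM hy))]
      have k6 : ⁅(u : G), γ⁆ = 1 := by
        rw [commutatorElement_eq_one_iff_mul_comm]
        exact (hcen _ hy _ u.2).symm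
      rw [k6, one_mul]
      exact comm_inv_right (hcom u v v)
    have k7 : ⁅(u : G), (v : G)⁆ = 1 := h2N _ (hcomm u u.2 v v.2) (k3.trans k4)
    constructor
    · rw [hleft _ u rfl v]
      exact Subtype.ext k7
    · rw [hleft _ v rfl u]
      apply Subtype.ext
      change ⁅(v : G), (u : G)⁆ = 1
      rw [← commutatorElement_inv, k7, inv_one]) (by
    intro y hy1 hy
    refine ⟨y, hy1, hy, ?_⟩
    obtain ⟨v, rfl⟩ := QuotientGroup.mk_surjective y
    rw [hleft _ v rfl v]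
    apply Subtype.ext
    change ⁅(v : G), (v : G)⁆ = 1
    exact commutatorElement_self _)
  rcases main with main | main
  · left
    intro m hm
    have h1 := main (QuotientGroup.mk ⟨m, hm⟩)
    rwa [hE, hmk] at h1
  · right
    intro m hm
    have h1 := main (QuotientGroup.mk ⟨m, hm⟩)
    rw [hE, ← QuotientGroup.mk_inv, hmk] at h1
    have h2 : ((c ⟨m, hm⟩ : M) : G) * (((⟨m, hm⟩ : M)⁻¹ : M) : G)⁻¹ = e * m * e⁻¹ * m := by
      push_cast
      rw [inv_inv]
      rfl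
    rwa [h2] at h1

/-- **The plane with a symmetric form.** -/
theorem sym_grp [Finite G] {M Q : Subgroup G} {n : G} (hab : ∀ u ∈ M, ∀ v ∈ M, u * v = v * u)
    (hodd : Odd (Nat.card M)) (hcard : Nat.card M = Nat.card Q * Nat.card Q)
    (hin : ∀ u ∈ M, ∀ v ∈ M, ⁅u, n * v * n⁻¹⁆ ∈ Q) (hQM : ∀ c ∈ Q, ∀ v ∈ M, c * v = v * c)
    (hQn : ∀ c ∈ Q, c * n = n * c) (nd : ∀ u ∈ M, u ≠ 1 → ∀ c ∈ Q, ∃ v ∈ M, ⁅u, n * v * n⁻¹⁆ = c)
    (sym : ∀ u ∈ M, ∀ v ∈ M, ⁅u, n * v * n⁻¹⁆ = ⁅v, n * u * n⁻¹⁆) {K : Subgroup G} {e : G} (hK : QK K e)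
    (hKM : K ≤ Subgroup.normalizer (M : Set G)) (hKn : ∀ k ∈ K, k * n = n * k)
    (hKQ : ∀ k ∈ K, ∀ c ∈ Q, k * c = c * k) :
    (∀ u ∈ M, e * u * e⁻¹ = u) ∨ ((∀ u ∈ M, e * u * e⁻¹ = u⁻¹) ∧
      ∀ a ∈ K, a * a = e → ∀ u ∈ M, ⁅u, n * (a * u * a⁻¹) * n⁻¹⁆ = 1) := by
  have hei : e⁻¹ = e := hK.inv_e
  have he := hK.sq
  have hoddQ : Odd (Nat.card Q) := by
    rw [hcard, Nat.odd_mul] at hodd
    exact hodd.2
  have hQ' : ∀ c ∈ Q, ∀ v ∈ M, c * (n * v * n⁻¹) = n * v * n⁻¹ * c := by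
    intro c hc v hv
    have h1 := hQn c hc
    have h2 := hQM c hc v hv
    have h3 : c * n⁻¹ = n⁻¹ * c := by
      calc c * n⁻¹ = n⁻¹ * (n * c) * n⁻¹ := by group
        _ = n⁻¹ * (c * n) * n⁻¹ := by rw [h1]
        _ = n⁻¹ * c := by group
    calc c * (n * v * n⁻¹) = (c * n) * v * n⁻¹ := by group
      _ = n * (c * v) * n⁻¹ := by rw [h1]; group
      _ = n * v * (c * n⁻¹) := by rw [h2]; group
      _ = n * v * n⁻¹ * c := by rw [h3]; group
  have h2Q : ∀ g : G, g ∈ Q → g = g⁻¹ → g = 1 := fun g hg h1 => by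
    refine sq_eq_one hoddQ hg ?_
    nth_rw 1 [h1]
    exact inv_mul_cancel g
  let β : M → M →* Q := fun u =>
    { toFun := fun v => ⟨⁅(u : G), n * (v : G) * n⁻¹⁆, hin u u.2 v v.2⟩
      map_one' := by
        apply Subtype.ext
        change ⁅(u : G), n * ((1 : M) : G) * n⁻¹⁆ = 1
        rw [Subgroup.coe_one, mul_one, mul_inv_cancel, commutatorElement_one_right]
      map_mul' := fun v w => by
        apply Subtype.ext
        change ⁅(u : G), n * ((v * w : M) : G) * n⁻¹⁆ = ⁅(u : G), n * (v : G) * n⁻¹⁆ * ⁅(u : G), n * (w : G) * n⁻¹⁆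
        have h1 : n * ((v * w : M) : G) * n⁻¹ = n * (v : G) * n⁻¹ * (n * (w : G) * n⁻¹) := by
          push_cast
          group
        rw [h1]
        exact comm_mul_right (hQ' _ (hin u u.2 w w.2) v v.2) }
  have hβ : ∀ u v : M, ((β u v : Q) : G) = ⁅(u : G), n * (v : G) * n⁻¹⁆ := fun _ _ => rfl
  -- invariance under `K`
  have hinv : ∀ k ∈ K, ∀ u ∈ M, ∀ v ∈ M, ⁅k * u * k⁻¹, n * (k * v * k⁻¹) * n⁻¹⁆ = ⁅u, n * v * n⁻¹⁆ := by
    intro k hk u hu v hv
    have h1 := hKn k hk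
    have h2 : n * (k * v * k⁻¹) * n⁻¹ = k * (n * v * n⁻¹) * k⁻¹ := by
      have h3 : k⁻¹ * n⁻¹ = n⁻¹ * k⁻¹ := by rw [← mul_inv_rev, ← mul_inv_rev, h1]
      calc n * (k * v * k⁻¹) * n⁻¹ = (n * k) * v * (k⁻¹ * n⁻¹) := by group
        _ = (k * n) * v * (n⁻¹ * k⁻¹) := by rw [h1, h3]
        _ = k * (n * v * n⁻¹) * k⁻¹ := by group
    rw [h2, ← conj_comm, hKQ k hk _ (hin u hu v hv)]
    group
  -- `⁅u, (v⁻¹)^n⁆ = ⁅u, v^n⁆⁻¹`
  have hneg : ∀ u ∈ M, ∀ v ∈ M, ⁅u, n * v⁻¹ * n⁻¹⁆ = ⁅u, n * v * n⁻¹⁆⁻¹ := by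
    intro u hu v hv
    have h1 : n * v⁻¹ * n⁻¹ = (n * v * n⁻¹)⁻¹ := by group
    rw [h1]
    exact comm_inv_right (hQ' _ (hin u hu v hv) v hv)
  have hperp : ∀ a ∈ K, a * a = e → ∀ u ∈ M, e * u * e⁻¹ = u⁻¹ → ⁅u, n * (a * u * a⁻¹) * n⁻¹⁆ = 1 := by
    intro a ha haa u hu hue
    have hau : a * u * a⁻¹ ∈ M := conj_mem (hKM ha) hu
    refine h2Q _ (hin u hu _ hau) ?_
    have h1 := hinv a ha u hu _ hau
    have h2 : a * (a * u * a⁻¹) * a⁻¹ = u⁻¹ := by
      rw [← hue, ← haa]; group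
    rw [h2, hneg _ hau _ hu, sym _ hau _ hu] at h1
    exact h1.symm
  let c : MulAut M := Subgroup.normalizerMonoidHom M ⟨e, hKM hK.mem⟩
  have hc : ∀ m : M, ((c m : M) : G) = e * m * e⁻¹ := fun m => rfl
  obtain ⟨a, ha, -, -, haa, -, -⟩ := hK.com
  have main := formQ (V := M) (Q := Q) (fun u v => Subtype.ext (hab u u.2 v v.2)) hodd hcard β (by
    intro u hu q
    obtain ⟨v, hv, hv'⟩ := nd u u.2 (fun h0 => hu (Subtype.ext h0)) q q.2
    exact ⟨⟨v, hv⟩, Subtype.ext hv'⟩) c (by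
    intro u
    apply Subtype.ext
    rw [hc, hc, hei]
    calc e * (e * (u : G) * e) * e = (e * e) * u * (e * e) := by group
      _ = u := by rw [he]; group) (by
    intro x y hx hy
    have hx' : e * (x : G) * e⁻¹ = x := congrArg Subtype.val hx
    have hy' : e * (y : G) * e⁻¹ = (y : G)⁻¹ := congrArg Subtype.val hy
    have h1 := hinv e hK.mem x x.2 y y.2
    rw [hx', hy', hneg _ x.2 _ y.2] at h1
    have h3 := h2Q _ (hin x x.2 y y.2) h1.symm
    exact ⟨Subtype.ext h3, Subtype.ext ((sym y y.2 x x.2).trans h3)⟩) (by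
    intro d hd hd'
    have hd'' : e * (d : G) * e⁻¹ = (d : G)⁻¹ := congrArg Subtype.val hd'
    refine ⟨⟨a * d * a⁻¹, conj_mem (hKM ha) d.2⟩, ?_, ?_, ?_⟩
    · intro h0
      apply hd
      have h1 : a * (d : G) * a⁻¹ = 1 := congrArg Subtype.val h0
      apply Subtype.ext
      calc (d : G) = a⁻¹ * (a * d * a⁻¹) * a := by group
        _ = 1 := by rw [h1]; group
    · apply Subtype.ext
      change e * (a * (d : G) * a⁻¹) * e⁻¹ = (a * (d : G) * a⁻¹)⁻¹
      have h1 : e * a = a * e := (hK.cen a ha).symm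
      have h2 : a⁻¹ * e⁻¹ = e⁻¹ * a⁻¹ := by rw [← mul_inv_rev, ← mul_inv_rev, h1]
      calc e * (a * (d : G) * a⁻¹) * e⁻¹ = (e * a) * d * (a⁻¹ * e⁻¹) := by group
        _ = a * (e * d * e⁻¹) * a⁻¹ := by rw [h1, h2]; group
        _ = (a * (d : G) * a⁻¹)⁻¹ := by rw [hd'']; group
    · exact Subtype.ext (hperp a ha haa d d.2 hd''))
  rcases main with main | main
  · left
    intro u hu
    exact congrArg Subtype.val (main ⟨u, hu⟩)
  · right
    have h1 : ∀ u ∈ M, e * u * e⁻¹ = u⁻¹ := fun u hu => congrArg Subtype.val (main ⟨u, hu⟩)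
    exact ⟨h1, fun a ha haa u hu => hperp a ha haa u hu (h1 u hu)⟩

end Cfsg.Agent.LOC.FormGrp
end

-- part: Cit/Nil/LO/SLLam
section
set_option linter.all false
open scoped Cfsg.Agent.FastGrp

/-!
# Lie odd, simply laced charts: the weight groups `MM y` (S1309, (n1), piece (C))

`y` a root, `⟨y, r⟩ = 1`, `r ∈ F`.

* `mm_three` : three such `r`: `MM y = X y`;
* `mm_two` : exactly two, `r`, `s`: `MM y = X y ⊔ X (r + s - y)`;
* `mm_one` : exactly one: `MM y = X y ⊔ X (r - y) ⊔ X r`.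
-/

set_option autoImplicit false
set_option linter.unusedSectionVars false
set_option linter.dupNamespace false

namespace Cfsg.Agent.LOC.SL

open CoxeterSystem Cfsg.Agent.ChevalleyStructure.CoxeterGeom Cfsg.Agent.Tits.Roots Cfsg.Agent.Tits.Core
  Cfsg.Agent.Tits.RootComb Cfsg.Agent.Nodes.Comb Cfsg.Agent.Nodes.Reps Cfsg.Agent.Nodes.BNOf
  Cfsg.Agent.Nodes.RGDLib Cfsg.Agent.Nodes.PosPair Cfsg.Agent.Nodes.Chart
  Cfsg.Agent.Nodes.Coroot Cfsg.Agent.Nodes.SimplyLaced Cfsg.Agent.Nodes.KindBase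
  Cfsg.Agent.LOC.ChartDefs Cfsg.Agent.LOC.Wt

variable {I W Y : Type*} [Fintype I] [DecidableEq I] [Group W] [Fintype W] [Group Y] {M : CoxeterMatrix I}
  {cs : CoxeterSystem M W} {A : I → I → ℤ} {h : IsCartan M A} {p : ℕ} {T : Subgroup Y} {n : I → Y}
  {X : (I → ℤ) → Subgroup Y} {R : Set (I → ℤ)} {Z : (I → ℤ) → Subgroup Y} {z : (I → ℤ) → Y}
  {C : Cls cs h p T n X R Z z} {F : Set (I → ℤ)}

/-- the positive half of `F` -/
theorem half (hF : MaxF C F) (hall : ∀ x, IsRoot cs h x → x ∈ R) :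
    Cit.Nil.LO.MaxF cs h {r | r ∈ F ∧ 0 ≤ r} := by
  have hroot : ∀ r ∈ F, IsRoot cs h r := fun r hr => C.root r (hF.sub r hr)
  refine ⟨fun r hr => hroot r hr.1, fun r hr s hs hrs => ?_, fun y hy => ?_⟩
  · rw [cpr_zero_iff cs h r (hroot s hs.1)]
    refine hF.orth r hr.1 s hs.1 (Ne.symm hrs) ?_
    rintro rfl
    exact (hroot _ hr.1).not_pos_neg hr.2 (by simpa using hs.2)
  · obtain ⟨r, hr, h0⟩ := hF.max y (hall y hy)
    rcases (hroot r hr).pos_or_neg with h1 | h1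
    · exact ⟨r, ⟨hr, h1⟩, fun e => h0 ((cpr_zero_iff cs h y (hroot r hr)).1 e)⟩
    · refine ⟨-r, ⟨hF.neg r hr, by simpa using h1⟩, fun e => h0 ((cpr_zero_iff cs h y (hroot r hr)).1 ?_)⟩
      rw [cpr_neg_right cs h y (hroot r hr)] at e
      omega

theorem exists_half (hF : MaxF C F) {r : I → ℤ} (hr : r ∈ F) :
    ∃ r' ∈ {r | r ∈ F ∧ 0 ≤ r}, r' = r ∨ r' = -r := by
  rcases (C.root r (hF.sub r hr)).pos_or_neg with h1 | h1
  · exact ⟨r, ⟨hr, h1⟩, Or.inl rfl⟩
  · exact ⟨-r, ⟨hF.neg r hr, by simpa using h1⟩, Or.inr rfl⟩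

theorem pos_in_F (hF : MaxF C F) {x r : I → ℤ} (hx : x ∈ F) (hr : r ∈ F) (h0 : 0 < cpr cs h x r) : x = r := by
  have hrr := C.root r (hF.sub r hr)
  by_contra hne
  have h1 : x ≠ -r := by
    rintro rfl
    rw [cpr_neg cs h r hrr, cpr_self cs h hrr] at h0
    omega
  have h2 := hF.orth r hr x hx hne h1
  rw [form_comm, ← cpr_zero_iff cs h x hrr] at h2
  omega

theorem not_in_F (hF : MaxF C F) {y r : I → ℤ} (hr : r ∈ F) (h0 : cpr cs h y r = 1) : y ∉ F := by
  intro hy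
  have := pos_in_F hF hy hr (by omega)
  rw [this, cpr_self cs h (C.root r (hF.sub r hr))] at h0
  omega

section

variable (h4 : ∀ i j, M i j ≠ 4) (h6 : ∀ i j, M i j ≠ 6)
include h4 h6

/-- the same Cartan numbers -/
theorem cpr_eq_of_Lam (hF : MaxF C F) {x y : I → ℤ} (hy : IsRoot cs h y) (hx : x ∈ Lam cs h F y) (hyF : y ∉ F)
    (hxF : x ∉ F) : ∀ r ∈ F, cpr cs h x r = cpr cs h y r := by
  intro r hr
  have hrr := C.root r (hF.sub r hr)
  have hr' := hF.neg r hr
  have hxr := hx.1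
  have e1 := abs_cpr_le_one cs h h4 h6 hy hrr (fun e => hyF (e ▸ hr)) (fun e => hyF (e ▸ hr'))
  have e2 := abs_cpr_le_one cs h h4 h6 hxr hrr (fun e => hxF (e ▸ hr)) (fun e => hxF (e ▸ hr'))
  rw [abs_le] at e1 e2
  obtain ⟨a1, a2⟩ := hx.2 r hr
  obtain ⟨b1, b2⟩ := hx.2 (-r) hr'
  rw [form_neg_right, form_neg_right] at b1 b2
  have p1 := cpr_pos_iff cs h x hrr
  have p2 := cpr_pos_iff cs h y hrr
  have z1 := cpr_zero_iff cs h x hrr
  have z2 := cpr_zero_iff cs h y hrr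
  omega

theorem lam_two (hF : MaxF C F) (hall : ∀ x, IsRoot cs h x → x ∈ R) {x y r s : I → ℤ} (hy : IsRoot cs h y)
    (hx : x ∈ Lam cs h F y) (hr : r ∈ F) (hs : s ∈ F) (hrs : r ≠ s) (h1 : cpr cs h y r = 1)
    (h2 : cpr cs h y s = 1) : x = y ∨ x + y = r + s := by
  have hrr := C.root r (hF.sub r hr)
  have hss := C.root s (hF.sub s hs)
  have hyF := not_in_F hF hr h1
  have hxF : x ∉ F := by
    intro hxF
    apply hrs
    have p1 := (cpr_pos_iff cs h x hrr).2 ((hx.2 r hr).1 ((cpr_pos_iff cs h y hrr).1 (by omega)))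
    have p2 := (cpr_pos_iff cs h x hss).2 ((hx.2 s hs).1 ((cpr_pos_iff cs h y hss).1 (by omega)))
    rw [← pos_in_F hF hxF hr p1, ← pos_in_F hF hxF hs p2]
  have heq := cpr_eq_of_Lam h4 h6 hF hy hx hyF hxF
  by_cases hne : x = y
  · exact Or.inl hne
  right
  have hH := half hF hall
  obtain ⟨r', hr', er⟩ := exists_half hF hr
  obtain ⟨s', hs', es⟩ := exists_half hF hs
  have hr0 : cpr cs h x r = 1 := by rw [heq r hr, h1]
  have hs0 : cpr cs h x s = 1 := by rw [heq s hs, h2]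
  have key := (hH.two h4 h6 hx.1 hy hne (fun t ht => heq t ht.1) hr' hs' (by
    rcases er with rfl | rfl <;> rcases es with rfl | rfl
    · exact hrs
    · rintro rfl
      rw [cpr_neg_right cs h y hss] at h1
      omega
    · intro e
      rw [← e, cpr_neg_right cs h y hrr] at h2
      omega
    · intro e
      exact hrs (neg_injective e)) (by
    rcases er with rfl | rfl
    · rw [hr0]; rfl
    · rw [cpr_neg_right cs h x hrr, hr0]; rfl) (by
    rcases es with rfl | rfl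
    · rw [hs0]; rfl
    · rw [cpr_neg_right cs h x hss, hs0]; rfl)).2
  rw [key]
  congr 1
  · rcases er with rfl | rfl
    · rw [hr0, one_smul]
    · rw [cpr_neg_right cs h x hrr, hr0]; module
  · rcases es with rfl | rfl
    · rw [hs0, one_smul]
    · rw [cpr_neg_right cs h x hss, hs0]; module

theorem lam_three (hF : MaxF C F) (hall : ∀ x, IsRoot cs h x → x ∈ R) {x y r s t : I → ℤ} (hy : IsRoot cs h y)
    (hx : x ∈ Lam cs h F y) (hr : r ∈ F) (hs : s ∈ F) (ht : t ∈ F) (hrs : r ≠ s) (hrt : r ≠ t) (hst : s ≠ t)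
    (h1 : cpr cs h y r = 1) (h2 : cpr cs h y s = 1) (h3 : cpr cs h y t = 1) : x = y := by
  by_contra hne
  rcases lam_two h4 h6 hF hall hy hx hr hs hrs h1 h2 with e1 | e1
  · exact hne e1
  rcases lam_two h4 h6 hF hall hy hx hr ht hrt h1 h3 with e2 | e2
  · exact hne e2
  rw [e1] at e2
  exact hst (add_left_cancel e2)

theorem lam_one (hF : MaxF C F) (hall : ∀ x, IsRoot cs h x → x ∈ R) {x y r : I → ℤ} (hy : IsRoot cs h y)
    (hx : x ∈ Lam cs h F y) (hr : r ∈ F) (h1 : cpr cs h y r = 1)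
    (h0 : ∀ s ∈ F, s ≠ r → s ≠ -r → cpr cs h y s = 0) : x = y ∨ x + y = r ∨ x = r := by
  have hrr := C.root r (hF.sub r hr)
  have hyF := not_in_F hF hr h1
  by_cases hxF : x ∈ F
  · right; right
    exact pos_in_F hF hxF hr ((cpr_pos_iff cs h x hrr).2 ((hx.2 r hr).1 ((cpr_pos_iff cs h y hrr).1 (by omega))))
  have heq := cpr_eq_of_Lam h4 h6 hF hy hx hyF hxF
  by_cases hne : x = y
  · exact Or.inl hne
  right; left
  have hH := half hF hall
  obtain ⟨r', hr', er⟩ := exists_half hF hr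
  have hr0 : cpr cs h x r = 1 := by rw [heq r hr, h1]
  have key := (hH.one h4 h6 hx.1 hy hne (fun t ht => heq t ht.1) hr' (by
    rcases er with rfl | rfl
    · rw [hr0]; rfl
    · rw [cpr_neg_right cs h x hrr, hr0]; rfl) (by
    intro t ht hne'
    rw [heq t ht.1]
    refine h0 t ht.1 ?_ ?_
    · rintro rfl
      rcases er with rfl | rfl
      · exact hne' rfl
      · exact hrr.not_pos_neg ht.2 (by simpa using hr'.2)
    · rintro rfl
      rcases er with rfl | rfl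
      · exact hrr.not_pos_neg hr'.2 (by simpa using ht.2)
      · exact hne' rfl)).2
  rw [key]
  rcases er with rfl | rfl
  · rw [hr0, one_smul]
  · rw [cpr_neg_right cs h x hrr, hr0]; module

end

/-! ### The groups -/

section groups

variable (h4 : ∀ i j, M i j ≠ 4) (h6 : ∀ i j, M i j ≠ 6)
include h4 h6

theorem mm_three (hF : MaxF C F) (hall : ∀ x, IsRoot cs h x → x ∈ R) {y r s t : I → ℤ} (hy : IsRoot cs h y)
    (hr : r ∈ F) (hs : s ∈ F) (ht : t ∈ F) (hrs : r ≠ s) (hrt : r ≠ t) (hst : s ≠ t)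
    (h1 : cpr cs h y r = 1) (h2 : cpr cs h y s = 1) (h3 : cpr cs h y t = 1) : MM cs h X F y = X y := by
  refine le_antisymm (RGD.Sup_le fun x hx => ?_) (X_le_MM (mem_Lam_self hy))
  rw [lam_three h4 h6 hF hall hy hx hr hs ht hrs hrt hst h1 h2 h3]

/-- the second root -/
theorem star (hF : MaxF C F) {y r s : I → ℤ} (hy : IsRoot cs h y) (hr : r ∈ F) (hs : s ∈ F) (hrs : r ≠ s)
    (h1 : cpr cs h y r = 1) (h2 : cpr cs h y s = 1) :
    cpr cs h r s = 0 ∧ cpr cs h s r = 0 ∧ IsRoot cs h (r + s - y) ∧ cpr cs h (r + s - y) r = 1 ∧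
      cpr cs h (r + s - y) s = 1 ∧ cpr cs h (r + s - y) y = 0 := by
  have hrr := C.root r (hF.sub r hr)
  have hss := C.root s (hF.sub s hs)
  have hsr' : s ≠ -r := by
    rintro rfl
    rw [cpr_neg_right cs h y hrr] at h2
    omega
  have e0 : cpr cs h r s = 0 := (cpr_zero_iff cs h r hss).2 (hF.orth r hr s hs hrs.symm hsr')
  have e1 : cpr cs h s r = 0 := (cpr_zero_comm cs h hrr hss).1 e0
  have r1 := isRoot_sub h4 h6 hy hrr h1
  have c1 : cpr cs h (y - r) s = 1 := by rw [cpr_sub cs h y r hss, h2, e0]; ring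
  have r2 := isRoot_sub h4 h6 r1 hss c1
  have r3 : IsRoot cs h (r + s - y) := by
    have := r2.neg
    have e : -(y - r - s) = r + s - y := by abel
    rwa [e] at this
  refine ⟨e0, e1, r3, ?_, ?_, ?_⟩
  · rw [cpr_sub cs h _ y hrr, cpr_add cs h r s hrr, cpr_self cs h hrr, e1, h1]; ring
  · rw [cpr_sub cs h _ y hss, cpr_add cs h r s hss, cpr_self cs h hss, e0, h2]; ring
  · rw [cpr_sub cs h _ y hy, cpr_add cs h r s hy, cpr_self cs h hy, cpr_symm cs h h4 h6 hrr hy,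
      cpr_symm cs h h4 h6 hss hy, h1, h2]; ring

theorem mm_two (hF : MaxF C F) (hall : ∀ x, IsRoot cs h x → x ∈ R) {y r s : I → ℤ} (hy : IsRoot cs h y)
    (hr : r ∈ F) (hs : s ∈ F) (hrs : r ≠ s) (h1 : cpr cs h y r = 1) (h2 : cpr cs h y s = 1)
    (h0 : ∀ t ∈ F, t ≠ r → t ≠ -r → t ≠ s → t ≠ -s → cpr cs h y t = 0) :
    MM cs h X F y = X y ⊔ X (r + s - y) := by
  obtain ⟨-, -, hst, s1, s2, -⟩ := star h4 h6 hF hy hr hs hrs h1 h2
  have hrr := C.root r (hF.sub r hr)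
  have hss := C.root s (hF.sub s hs)
  have hmem : r + s - y ∈ Lam cs h F y := by
    refine ⟨hst, fun t ht => ?_⟩
    have htt := C.root t (hF.sub t ht)
    rw [← cpr_pos_iff cs h _ htt, ← cpr_pos_iff cs h _ htt]
    have z1 := cpr_zero_iff cs h y htt
    have z2 := cpr_zero_iff cs h (r + s - y) htt
    have p1 := cpr_pos_iff cs h y htt
    have p2 := cpr_pos_iff cs h (r + s - y) htt
    have key : cpr cs h (r + s - y) t = cpr cs h y t := by
      by_cases a1 : t = r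
      · rw [a1, s1, h1]
      by_cases a2 : t = -r
      · rw [a2, cpr_neg_right cs h _ hrr, cpr_neg_right cs h _ hrr, s1, h1]
      by_cases a3 : t = s
      · rw [a3, s2, h2]
      by_cases a4 : t = -s
      · rw [a4, cpr_neg_right cs h _ hss, cpr_neg_right cs h _ hss, s2, h2]
      have b1 := hF.orth r hr t ht a1 a2
      have b2 := hF.orth s hs t ht a3 a4
      rw [← cpr_zero_iff cs h _ htt] at b1 b2
      rw [cpr_sub cs h _ y htt, cpr_add cs h r s htt, b1, b2, h0 t ht a1 a2 a3 a4]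
      ring
    rw [key] at z2 p2 ⊢
    refine ⟨fun a => a, fun a => ?_⟩
    omega
  refine le_antisymm (RGD.Sup_le fun x hx => ?_) (sup_le (X_le_MM (mem_Lam_self hy)) (X_le_MM hmem))
  rcases lam_two h4 h6 hF hall hy hx hr hs hrs h1 h2 with e | e
  · rw [e]; exact le_sup_left
  · have : x = r + s - y := by rw [← e]; abel
    rw [this]; exact le_sup_right

theorem mm_one (hF : MaxF C F) (hall : ∀ x, IsRoot cs h x → x ∈ R) {y r : I → ℤ} (hy : IsRoot cs h y)
    (hr : r ∈ F) (h1 : cpr cs h y r = 1) (h0 : ∀ t ∈ F, t ≠ r → t ≠ -r → cpr cs h y t = 0) :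
    MM cs h X F y = X y ⊔ X (r - y) ⊔ X r := by
  have hrr := C.root r (hF.sub r hr)
  have hry : IsRoot cs h (r - y) := isRoot_sub h4 h6 hrr hy (by rw [cpr_symm cs h h4 h6 hrr hy, h1])
  have key : ∀ t ∈ F, cpr cs h (r - y) t = cpr cs h y t := by
    intro t ht
    have htt := C.root t (hF.sub t ht)
    by_cases a1 : t = r
    · rw [a1, cpr_sub cs h _ y hrr, cpr_self cs h hrr, h1]; rfl
    by_cases a2 : t = -r
    · rw [a2, cpr_neg_right cs h _ hrr, cpr_neg_right cs h _ hrr, cpr_sub cs h _ y hrr, cpr_self cs h hrr, h1]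
      rfl
    have b1 := hF.orth r hr t ht a1 a2
    rw [← cpr_zero_iff cs h _ htt] at b1
    rw [cpr_sub cs h _ y htt, b1, h0 t ht a1 a2]
    rfl
  have m1 : r - y ∈ Lam cs h F y := by
    refine ⟨hry, fun t ht => ?_⟩
    have htt := C.root t (hF.sub t ht)
    have z1 := cpr_zero_iff cs h y htt
    have z2 := cpr_zero_iff cs h (r - y) htt
    have p1 := cpr_pos_iff cs h y htt
    have p2 := cpr_pos_iff cs h (r - y) htt
    rw [key t ht] at z2 p2
    constructor <;> intro a <;> omega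
  have m2 : r ∈ Lam cs h F y := by
    refine ⟨hrr, fun t ht => ?_⟩
    have htt := C.root t (hF.sub t ht)
    by_cases a1 : t = r
    · rw [a1]
      exact ⟨fun _ => form_pos cs h hrr.ne_zero, fun _ => form_nonneg cs h r⟩
    by_cases a2 : t = -r
    · rw [a2, form_neg_right, form_neg_right]
      have p1 := cpr_pos_iff cs h y hrr
      constructor <;> intro a <;> omega
    have b1 := hF.orth r hr t ht a1 a2
    have z1 := cpr_zero_iff cs h y htt
    rw [h0 t ht a1 a2] at z1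
    rw [b1, z1.1 rfl]
    exact ⟨fun a => a, fun a => a⟩
  refine le_antisymm (RGD.Sup_le fun x hx => ?_)
    (sup_le (sup_le (X_le_MM (mem_Lam_self hy)) (X_le_MM m1)) (X_le_MM m2))
  rcases lam_one h4 h6 hF hall hy hx hr h1 h0 with e | e | e
  · rw [e]; exact le_sup_of_le_left le_sup_left
  · have : x = r - y := by rw [← e]; abel
    rw [this]; exact le_sup_of_le_left le_sup_right
  · rw [e]; exact le_sup_right

end groups

end Cfsg.Agent.LOC.SL
end

-- part: Cit/Nil/LO/SLAct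
section
set_option linter.all false
open scoped Cfsg.Agent.FastGrp

/-!
# Lie odd, simply laced charts: `Q₈` on the weight groups (S1309, (n1), piece (C))

`Z x = X x` for all roots. `y` a root, `⟨y, r⟩ = 1`, `r ∈ F`.

* `wedd_X`, `triv_ab` : `a`, `b` centralise `⟨Z r, Z (-r)⟩`, normalise `X y`: `[a, b]` centralises `X y`;
* `triv_three` : `|I| ≥ 3` : `e` centralises `X y`.
-/

set_option autoImplicit false
set_option linter.unusedSectionVars false
set_option linter.dupNamespace false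

namespace Cfsg.Agent.LOC.SL

open CoxeterSystem Cfsg.Agent.ChevalleyStructure.CoxeterGeom Cfsg.Agent.Tits.Roots Cfsg.Agent.Tits.Core
  Cfsg.Agent.Tits.RootComb Cfsg.Agent.Nodes.Comb Cfsg.Agent.Nodes.Reps Cfsg.Agent.Nodes.BNOf
  Cfsg.Agent.Nodes.RGDLib Cfsg.Agent.Nodes.PosPair Cfsg.Agent.Nodes.Chart Cfsg.Agent.Nodes.ClsNorm
  Cfsg.Agent.Nodes.ChartLoc
  Cfsg.Agent.Nodes.Coroot Cfsg.Agent.Nodes.SimplyLaced Cfsg.Agent.Nodes.KindBase Cfsg.Agent.Nodes.OppDec
  Cfsg.Agent.LOC.ChartDefs Cfsg.Agent.LOC.Wt Cfsg.Agent.LOC.FormGrp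
open scoped commutatorElement

/-! ### Groups -/

section grp

variable {G : Type*} [Group G]

theorem mem_nor [Finite G] {V : Subgroup G} {a : G} (h : ∀ v ∈ V, a * v * a⁻¹ ∈ V) :
    a ∈ Subgroup.normalizer (V : Set G) := by
  rw [mem_normalizer_iff_cj]
  refine Subgroup.eq_of_le_of_card_ge ?_ (Nodes.CardSup.card_cj V).ge
  intro v hv
  rw [mem_cj] at hv
  have := h _ hv
  have e : a * (a⁻¹ * v * a) * a⁻¹ = v := by group
  rwa [e] at this

theorem exists_mul_of_nor {P Q : Subgroup G} (hn : ∀ q ∈ Q, ∀ x ∈ P, q * x * q⁻¹ ∈ P) {x : G} (hx : x ∈ P ⊔ Q) :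
    ∃ a ∈ P, ∃ b ∈ Q, x = a * b := by
  let S : Subgroup G :=
    { carrier := {x | ∃ a ∈ P, ∃ b ∈ Q, x = a * b}
      one_mem' := ⟨1, one_mem _, 1, one_mem _, by group⟩
      mul_mem' := by
        rintro _ _ ⟨a, ha, b, hb, rfl⟩ ⟨a', ha', b', hb', rfl⟩
        exact ⟨a * (b * a' * b⁻¹), mul_mem ha (hn b hb a' ha'), b * b', mul_mem hb hb', by group⟩
      inv_mem' := by
        rintro _ ⟨a, ha, b, hb, rfl⟩
        refine ⟨b⁻¹ * a⁻¹ * b, ?_, b⁻¹, inv_mem hb, by group⟩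
        have := hn _ (inv_mem hb) _ (inv_mem ha)
        rwa [inv_inv] at this }
  have h1 : P ⊔ Q ≤ S := sup_le (fun a ha => ⟨a, ha, 1, one_mem _, by group⟩)
    (fun b hb => ⟨1, one_mem _, b, hb, by group⟩)
  exact h1 hx

theorem sup_comm {P Q : Subgroup G} (hP : ∀ a ∈ P, ∀ b ∈ P, a * b = b * a) (hQ : ∀ a ∈ Q, ∀ b ∈ Q, a * b = b * a)
    (hPQ : ∀ a ∈ P, ∀ b ∈ Q, a * b = b * a) : ∀ u ∈ P ⊔ Q, ∀ v ∈ P ⊔ Q, u * v = v * u := by
  have h1 : P ⊔ Q ≤ Subgroup.centralizer (P : Set G) := sup_le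
    (fun a ha => Subgroup.mem_centralizer_iff.2 fun b hb => hP b hb a ha)
    (fun a ha => Subgroup.mem_centralizer_iff.2 fun b hb => hPQ b hb a ha)
  have h2 : P ⊔ Q ≤ Subgroup.centralizer (Q : Set G) := sup_le
    (fun a ha => Subgroup.mem_centralizer_iff.2 fun b hb => (hPQ a ha b hb).symm)
    (fun a ha => Subgroup.mem_centralizer_iff.2 fun b hb => hQ b hb a ha)
  have h3 : P ⊔ Q ≤ Subgroup.centralizer ((P ⊔ Q : Subgroup G) : Set G) :=
    sup_le (Subgroup.le_centralizer_iff.1 h1) (Subgroup.le_centralizer_iff.1 h2)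
  intro u hu v hv
  exact (Subgroup.mem_centralizer_iff.1 (h3 hu) v hv).symm

theorem sup_comm_of {P Q : Subgroup G} {k : G} (hP : ∀ a ∈ P, k * a = a * k) (hQ : ∀ a ∈ Q, k * a = a * k) :
    ∀ u ∈ P ⊔ Q, k * u = u * k := by
  have h1 : P ⊔ Q ≤ Subgroup.centralizer ({k} : Set G) := sup_le
    (fun a ha => Subgroup.mem_centralizer_iff.2 fun b hb => by rw [Set.mem_singleton_iff.1 hb]; exact hP a ha)
    (fun a ha => Subgroup.mem_centralizer_iff.2 fun b hb => by rw [Set.mem_singleton_iff.1 hb]; exact hQ a ha)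
  intro u hu
  exact Subgroup.mem_centralizer_iff.1 (h1 hu) k rfl

end grp

variable {I W Y : Type*} [Fintype I] [DecidableEq I] [Group W] [Fintype W] [Group Y] {M : CoxeterMatrix I}
  {cs : CoxeterSystem M W} {A : I → I → ℤ} {h : IsCartan M A} {p : ℕ} {T : Subgroup Y} {n : I → Y}
  {X : (I → ℤ) → Subgroup Y} {R : Set (I → ℤ)} {Z : (I → ℤ) → Subgroup Y} {z : (I → ℤ) → Y}
  {C : Cls cs h p T n X R Z z} {F : Set (I → ℤ)}

/-- standing facts on a simply laced chart -/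
structure SLC (C : Cls cs h p T n X R Z z) : Prop where
  h4 : ∀ i j, M i j ≠ 4
  h6 : ∀ i j, M i j ≠ 6
  all : ∀ x, IsRoot cs h x → x ∈ R
  ZX : ∀ x, IsRoot cs h x → Z x = X x
  hT : T ≤ G1 cs h X
  odd : p ≠ 2

namespace SLC

variable (S : SLC C)
include S

/-- `[X x, X y] = 1` if `⟨x, y⟩ ≥ 0` (`x = y` included) -/
theorem cm {x y : I → ℤ} (hx : IsRoot cs h x) (hy : IsRoot cs h y) (h0 : 0 ≤ cpr cs h x y) :
    ∀ a ∈ X x, ∀ b ∈ X y, a * b = b * a := by
  intro a ha b hb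
  refine C.cent y (S.all y hy) x hx ?_ a ha b (by rw [S.ZX y hy]; exact hb)
  have p1 := cpr_pos_iff cs h x hy
  have z1 := cpr_zero_iff cs h x hy
  omega

theorem ne_one {x : I → ℤ} (hx : IsRoot cs h x) : ∃ u ∈ X x, u ≠ 1 := by
  obtain ⟨w, hw⟩ := Subgroup.ne_bot_iff_exists_ne_one.1 (Nodes.Bruhat.X_ne_bot C.rgd hx)
  exact ⟨w, w.2, fun e => hw (Subtype.ext e)⟩

theorem eq_one {x y : I → ℤ} (hx : IsRoot cs h x) (hy : IsRoot cs h y) (h0 : cpr cs h x y = -1) {u : Y}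
    (hu : u ∈ X x) (hc : ∀ v ∈ X y, u * v = v * u) : u = 1 := by
  by_contra hu1
  obtain ⟨w, hw, hw1⟩ := S.ne_one (isRoot_add S.h4 S.h6 hx hy h0)
  obtain ⟨v, hv, e⟩ := nd C.rgd S.h4 S.h6 hx hy h0 hu hu1 hw
  apply hw1
  rw [← e, commutatorElement_eq_one_iff_mul_comm]
  exact hc v hv

/-- `K` centralises `J_r` -/
theorem comm_J {K : Subgroup Y} (hF : MaxF C F) (hc : Cen C F K) {r : I → ℤ} (hr : r ∈ F) :
    ∀ k ∈ K, ∀ j ∈ Z r ⊔ Z (-r), k * j = j * k := by
  intro k hk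
  exact sup_comm_of (fun a ha => hc.comm r hr a ha k hk) (fun a ha => hc.comm (-r) (hF.neg r hr) a ha k hk)

/-- the roots `y`, `y - r` -/
theorem vroots {y r : I → ℤ} (hy : IsRoot cs h y) (hr : IsRoot cs h r) (h1 : cpr cs h y r = 1) :
    IsRoot cs h (y - r) ∧ cpr cs h y (-r) = -1 ∧ cpr cs h (y - r) r = -1 ∧ cpr cs h (y - r) (-r) = 1 ∧
      cpr cs h y (y - r) = 1 ∧ cpr cs h r y = 1 := by
  have h2 := isRoot_sub S.h4 S.h6 hy hr h1
  have h3 : cpr cs h (y - r) r = -1 := by rw [cpr_sub cs h y r hr, h1, cpr_self cs h hr]; ring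
  have h4 : cpr cs h r y = 1 := by rw [cpr_symm cs h S.h4 S.h6 hr hy, h1]
  refine ⟨h2, by rw [cpr_neg_right cs h y hr, h1], h3, by rw [cpr_neg_right cs h _ hr, h3]; ring, ?_, h4⟩
  rw [cpr_symm cs h S.h4 S.h6 hy h2, cpr_sub cs h y r hy, cpr_self cs h hy, h4]
  ring

/-- `J_r` is irreducible on `X y ⊔ X (y - r)`. -/
theorem irr {y r : I → ℤ} (hy : IsRoot cs h y) (hr : IsRoot cs h r) (h1 : cpr cs h y r = 1) (U : Subgroup Y)
    (hU : U ≤ X y ⊔ X (y - r)) (hJ : ∀ j ∈ Z r ⊔ Z (-r), ∀ u ∈ U, j * u * j⁻¹ ∈ U) :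
    U = ⊥ ∨ U = X y ⊔ X (y - r) := by
  obtain ⟨hyr, c1, c2, c3, c4, -⟩ := S.vroots hy hr h1
  have hcm : ∀ u ∈ U, ∀ j ∈ Z r ⊔ Z (-r), ⁅u, j⁆ ∈ U := by
    intro u hu j hj
    have e : ⁅u, j⁆ = u * (j * u⁻¹ * j⁻¹) := by rw [commutatorElement_def]; group
    rw [e]
    exact mul_mem hu (hJ j hj _ (inv_mem hu))
  -- from an element not in `X (y - r)`
  have s1 : ∀ a ∈ X y, ∀ b ∈ X (y - r), a ≠ 1 → a * b ∈ U → X (y - r) ≤ U := by
    intro a ha b hb ha1 hab w hw
    obtain ⟨c, hc, e⟩ := nd C.rgd S.h4 S.h6 hy hr.neg c1 ha ha1 (w := w) (by rwa [← sub_eq_add_neg])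
    have hbc : b * c = c * b := S.cm hyr hr.neg (by omega) b hb c hc
    have e2 : ⁅a * b, c⁆ = w := by
      rw [← e]
      have h5 : ⁅b, c⁆ = 1 := by rw [commutatorElement_eq_one_iff_mul_comm]; exact hbc
      rw [comm_mul_left (by rw [h5]; group), h5, one_mul]
    rw [← e2]
    refine hcm _ hab c ?_
    rw [← S.ZX _ hr.neg] at hc
    exact (le_sup_right : Z (-r) ≤ _) hc
  have s2 : ∀ b ∈ X (y - r), b ≠ 1 → b ∈ U → X y ≤ U := by
    intro b hb hb1 hbU w hw
    obtain ⟨c, hc, e⟩ := nd C.rgd S.h4 S.h6 hyr hr c2 hb hb1 (w := w) (by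
      have : y - r + r = y := by abel
      rwa [this])
    rw [← e]
    refine hcm _ hbU c ?_
    rw [← S.ZX _ hr] at hc
    exact (le_sup_left : Z r ≤ _) hc
  by_cases hbot : U = ⊥
  · exact Or.inl hbot
  right
  obtain ⟨⟨u, hu⟩, hu1⟩ := Subgroup.ne_bot_iff_exists_ne_one.1 hbot
  have hu1' : u ≠ 1 := fun e => hu1 (Subtype.ext e)
  obtain ⟨a, ha, b, hb, e⟩ := Nodes.MuSq.exists_mul_of_sup (S.cm hy hyr (by omega)) (hU hu)
  have key : ∃ b ∈ X (y - r), b ≠ 1 ∧ b ∈ U := by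
    by_cases ha1 : a = 1
    · rw [ha1, one_mul] at e
      exact ⟨b, hb, e ▸ hu1', e ▸ hu⟩
    · have h2 := s1 a ha b hb ha1 (e ▸ hu)
      obtain ⟨b', hb', hb'1⟩ := S.ne_one hyr
      exact ⟨b', hb', hb'1, h2 hb'⟩
  obtain ⟨b', hb', hb'1, hb'U⟩ := key
  have h3 := s2 b' hb' hb'1 hb'U
  obtain ⟨a', ha', ha'1⟩ := S.ne_one hy
  have h4 := s1 a' ha' 1 (one_mem _) ha'1 (by rw [mul_one]; exact h3 ha')
  exact le_antisymm hU (sup_le h3 h4)

variable [Finite Y]

/-- **`[a, b]` centralises `X y`.** -/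
theorem wedd_X {y r : I → ℤ} (hy : IsRoot cs h y) (hr : IsRoot cs h r) (h1 : cpr cs h y r = 1) {a b : Y}
    (haJ : ∀ j ∈ Z r ⊔ Z (-r), a * j = j * a) (hbJ : ∀ j ∈ Z r ⊔ Z (-r), b * j = j * b)
    (haX : ∀ x ∈ X y, a * x * a⁻¹ ∈ X y) (hbX : ∀ x ∈ X y, b * x * b⁻¹ ∈ X y) :
    ∀ v ∈ X y, a * b * v * (a * b)⁻¹ = b * a * v * (b * a)⁻¹ := by
  obtain ⟨hyr, c1, c2, c3, c4, -⟩ := S.vroots hy hr h1
  have hZ := S.ZX _ hr
  have hZ' := S.ZX _ hr.neg
  -- `a`, `b` normalise `V`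
  have hnor : ∀ a : Y, (∀ j ∈ Z r ⊔ Z (-r), a * j = j * a) → (∀ x ∈ X y, a * x * a⁻¹ ∈ X y) →
      a ∈ Subgroup.normalizer ((X y ⊔ X (y - r) : Subgroup Y) : Set Y) := by
    intro a haJ haX
    obtain ⟨x, hx, hx1⟩ := S.ne_one hy
    have h2 : ∀ w ∈ X (y - r), a * w * a⁻¹ ∈ X (y - r) := by
      intro w hw
      obtain ⟨c, hc, e⟩ := nd C.rgd S.h4 S.h6 hy hr.neg c1 hx hx1 (w := w) (by rwa [← sub_eq_add_neg])
      have hcJ : c ∈ Z r ⊔ Z (-r) := by
        rw [← hZ'] at hc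
        exact (le_sup_right : Z (-r) ≤ _) hc
      have h3 : a * c * a⁻¹ = c := by rw [haJ c hcJ]; group
      rw [← e, conj_comm, h3]
      have := comm_mem C.rgd S.h4 S.h6 hy hr.neg c1 (haX x hx) hc
      rwa [← sub_eq_add_neg] at this
    refine mem_nor fun v hv => ?_
    obtain ⟨u, hu, w, hw, rfl⟩ := Nodes.MuSq.exists_mul_of_sup (S.cm hy hyr (by omega)) hv
    have e : a * (u * w) * a⁻¹ = (a * u * a⁻¹) * (a * w * a⁻¹) := by group
    rw [e]
    exact mul_mem ((le_sup_left : X y ≤ _) (haX u hu)) ((le_sup_right : X (y - r) ≤ _) (h2 w hw))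
  have hJ : Z r ⊔ Z (-r) ≤ Subgroup.normalizer ((X y ⊔ X (y - r) : Subgroup Y) : Set Y) := by
    rw [hZ, hZ']
    refine sup_le (fun c hc => mem_nor fun v hv => ?_) (fun c hc => mem_nor fun v hv => ?_)
    · obtain ⟨u, hu, w, hw, rfl⟩ := Nodes.MuSq.exists_mul_of_sup (S.cm hy hyr (by omega)) hv
      have e1 : c * u = u * c := (S.cm hy hr (by omega) u hu c hc).symm
      have e2 : c * (u * w) * c⁻¹ = u * ⁅w, c⁆⁻¹ * w := by
        rw [commutatorElement_def]
        calc c * (u * w) * c⁻¹ = (c * u) * w * c⁻¹ := by group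
          _ = u * (w * c * w⁻¹ * c⁻¹)⁻¹ * w := by rw [e1]; group
      rw [e2]
      have h2 := comm_mem C.rgd S.h4 S.h6 hyr hr c2 hw hc
      have h3 : y - r + r = y := by abel
      rw [h3] at h2
      exact mul_mem (mul_mem ((le_sup_left : X y ≤ _) hu) (inv_mem ((le_sup_left : X y ≤ _) h2)))
        ((le_sup_right : X (y - r) ≤ _) hw)
    · obtain ⟨u, hu, w, hw, rfl⟩ := Nodes.MuSq.exists_mul_of_sup (S.cm hy hyr (by omega)) hv
      have e1 : c * w = w * c := (S.cm hyr hr.neg (by omega) w hw c hc).symm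
      have e2 : c * (u * w) * c⁻¹ = ⁅u, c⁆⁻¹ * u * w := by
        rw [commutatorElement_def]
        calc c * (u * w) * c⁻¹ = c * u * w * c⁻¹ := by group
          _ = c * u * c⁻¹ * (c * w) * c⁻¹ := by group
          _ = (u * c * u⁻¹ * c⁻¹)⁻¹ * u * w := by rw [e1]; group
      rw [e2]
      have h2 := comm_mem C.rgd S.h4 S.h6 hy hr.neg c1 hu hc
      rw [← sub_eq_add_neg] at h2
      exact mul_mem (mul_mem (inv_mem ((le_sup_right : X (y - r) ≤ _) h2)) ((le_sup_left : X y ≤ _) hu))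
        ((le_sup_right : X (y - r) ≤ _) hw)
  have key := wedd_grp (V := X y ⊔ X (y - r)) (J := Z r ⊔ Z (-r))
    (sup_comm (S.cm hy hy (by rw [cpr_self cs h hy]; decide)) (S.cm hyr hyr (by rw [cpr_self cs h hyr]; decide))
      (S.cm hy hyr (by omega))) hJ (fun U hU hUJ => S.irr hy hr h1 U hU hUJ) (hnor a haJ haX) (hnor b hbJ hbX)
    (fun j hj => (haJ j hj).symm) (fun j hj => (hbJ j hj).symm)
  exact fun v hv => key v ((le_sup_left : X y ≤ _) hv)

theorem triv_ab {y r : I → ℤ} (hy : IsRoot cs h y) (hr : IsRoot cs h r) (h1 : cpr cs h y r = 1) {a b e : Y}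
    (hab : a * b = e * (b * a))
    (haJ : ∀ j ∈ Z r ⊔ Z (-r), a * j = j * a) (hbJ : ∀ j ∈ Z r ⊔ Z (-r), b * j = j * b)
    (haX : ∀ x ∈ X y, a * x * a⁻¹ ∈ X y) (hbX : ∀ x ∈ X y, b * x * b⁻¹ ∈ X y) : ∀ v ∈ X y, e * v * e⁻¹ = v := by
  intro v hv
  have h2 : (b * a)⁻¹ * v * (b * a) ∈ X y := by
    have := conj_mem (inv_mem (mul_mem (mem_nor hbX) (mem_nor haX))) hv
    rwa [inv_inv] at this
  have h3 := S.wedd_X hy hr h1 haJ hbJ haX hbX _ h2
  rw [hab] at h3
  have h4 : e * (b * a) * ((b * a)⁻¹ * v * (b * a)) * (e * (b * a))⁻¹ = e * v * e⁻¹ := by group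
  have h5 : b * a * ((b * a)⁻¹ * v * (b * a)) * (b * a)⁻¹ = v := by group
  rw [h4, h5] at h3
  exact h3

variable [Fact p.Prime]

/-- `|I| ≥ 3` -/
theorem triv_three (hF : MaxF C F) {K : Subgroup Y} {e : Y} (hK : QK K e) (hc : Cen C F K) {y r s t : I → ℤ}
    (hy : IsRoot cs h y) (hr : r ∈ F) (hs : s ∈ F) (ht : t ∈ F) (hrs : r ≠ s) (hrt : r ≠ t) (hst : s ≠ t)
    (h1 : cpr cs h y r = 1) (h2 : cpr cs h y s = 1) (h3 : cpr cs h y t = 1) : ∀ v ∈ X y, e * v * e⁻¹ = v := by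
  have hrr := C.root r (hF.sub r hr)
  obtain ⟨a, ha, b, hb, -, -, hab⟩ := hK.com
  have hN := wt_nor C S.hT hF.sub hr ((cpr_pos_iff cs h y hrr).1 (by omega)) hc (X := X)
  rw [mm_three S.h4 S.h6 hF S.all hy hr hs ht hrs hrt hst h1 h2 h3] at hN
  exact S.triv_ab hy hrr h1 hab (S.comm_J hF hc hr a ha) (S.comm_J hF hc hr b hb)
    (fun x hx => conj_mem (hN ha) hx) (fun x hx => conj_mem (hN hb) hx)

end SLC

end Cfsg.Agent.LOC.SL
end

-- part: Cit/Nil/LO/SLTwo
section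
prune_inst 0x101001045c2200000018000020000000320000000000080031400400054e1040a044002140000d100010845428040028131000000218000000000000011c00800002020080480000200000002003180c00000000000000000000000000041000000000000
set_option linter.all false
open scoped Cfsg.Agent.FastGrp

/-!
# Lie odd, simply laced charts: `Q₈` on the weight groups, `|I| = 2` (S1309, (n1), piece (C))

`y` a root, `⟨y, r⟩ = ⟨y, s⟩ = 1`, `r ≠ s` in `F`, `y` orthogonal to the other elements of `F`; `M = X y ⊔ X (r + s - y)`,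
`n ∈ J_s` a Weyl element, `β(u, v) = [u, v^n] ∈ X r` : `SLC.triv_two` : `e` centralises `X y`.
-/

set_option autoImplicit false
set_option linter.unusedSectionVars false
set_option linter.dupNamespace false

namespace Cfsg.Agent.LOC.SL

open CoxeterSystem Cfsg.Agent.ChevalleyStructure.CoxeterGeom Cfsg.Agent.Tits.Roots Cfsg.Agent.Tits.Core
  Cfsg.Agent.Tits.RootComb Cfsg.Agent.Nodes.Comb Cfsg.Agent.Nodes.Reps Cfsg.Agent.Nodes.BNOf
  Cfsg.Agent.Nodes.RGDLib Cfsg.Agent.Nodes.PosPair Cfsg.Agent.Nodes.Chart Cfsg.Agent.Nodes.ClsNorm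
  Cfsg.Agent.Nodes.ChartLoc
  Cfsg.Agent.Nodes.Coroot Cfsg.Agent.Nodes.SimplyLaced Cfsg.Agent.Nodes.KindBase Cfsg.Agent.Nodes.OppDec
  Cfsg.Agent.LOC.ChartDefs Cfsg.Agent.LOC.Wt Cfsg.Agent.LOC.FormGrp
open scoped commutatorElement

variable {I W Y : Type*} [Fintype I] [DecidableEq I] [Group W] [Fintype W] [Group Y] {M : CoxeterMatrix I}
  {cs : CoxeterSystem M W} {A : I → I → ℤ} {h : IsCartan M A} {p : ℕ} {T : Subgroup Y} {n : I → Y}
  {X : (I → ℤ) → Subgroup Y} {R : Set (I → ℤ)} {Z : (I → ℤ) → Subgroup Y} {z : (I → ℤ) → Y}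
  {C : Cls cs h p T n X R Z z} {F : Set (I → ℤ)}

theorem ne_of_cpr {x y : I → ℤ} (hy : IsRoot cs h y) (h0 : cpr cs h x y ≠ 2) : x ≠ y := by
  rintro rfl
  exact h0 (cpr_self cs h hy)

theorem ne_neg_of_cpr {x y : I → ℤ} (hy : IsRoot cs h y) (h0 : cpr cs h x y ≠ -2) : x ≠ -y := by
  rintro rfl
  exact h0 (by rw [cpr_neg cs h y hy, cpr_self cs h hy])

namespace SLC

/-- the root groups have the same order -/
theorem card_eq (S : SLC C) {x y : I → ℤ} (hx : IsRoot cs h x) (hy : IsRoot cs h y) (h1 : cpr cs h x y = 1) :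
    Nat.card (X x) = Nat.card (X y) := by
  have hxy := isRoot_sub S.h4 S.h6 hx hy h1
  have h1' : cpr cs h y x = 1 := by rw [cpr_symm cs h S.h4 S.h6 hy hx, h1]
  have refl : ∀ {u v : I → ℤ}, IsRoot cs h u → IsRoot cs h v →
      Nat.card (X (v - cpr cs h v u • u)) = Nat.card (X v) := by
    intro u v hu hv
    obtain ⟨c, hc, hc1⟩ := S.ne_one hu
    obtain ⟨-, -, -, -, w, hw, -, hr⟩ := Nodes.MuSq.exists_mu' C.rgd hu hc hc1
    rw [← hr v]
    exact Nodes.CardSup.card_X_rep C.rgd w hv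
  have e1 := refl hy hx
  rw [h1, one_smul] at e1
  have e2 := refl hx hy
  rw [h1', one_smul] at e2
  have e3 := refl hxy hxy
  rw [cpr_self cs h hxy] at e3
  have e4 : x - y - (2 : ℤ) • (x - y) = y - x := by module
  rw [e4] at e3
  rw [← e1, ← e3, e2]

variable [Finite Y] [Fact p.Prime] (S : SLC C)
include S

theorem odd_X {x : I → ℤ} (hx : IsRoot cs h x) : Odd (Nat.card (X x)) := by
  have h1 := odd_card_VV C S.odd x
  have h2 : X x ≤ VV cs h X x := RGD.le_Sup (X := X) (S := {y | IsRoot cs h y ∧ 0 < form cs h y x})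
    ⟨hx, form_pos cs h hx.ne_zero⟩
  exact h1.of_dvd_nat (Subgroup.card_dvd_of_le h2)

theorem triv_two (hF : MaxF C F) {K : Subgroup Y} {e : Y} (hK : QK K e) (hc : Cen C F K) {y r s : I → ℤ}
    (hy : IsRoot cs h y) (hr : r ∈ F) (hs : s ∈ F) (hrs : r ≠ s)
    (h1 : cpr cs h y r = 1) (h2 : cpr cs h y s = 1)
    (h0 : ∀ t ∈ F, t ≠ r → t ≠ -r → t ≠ s → t ≠ -s → cpr cs h y t = 0) : ∀ v ∈ X y, e * v * e⁻¹ = v := by
  have hrr := C.root r (hF.sub r hr)
  have hss := C.root s (hF.sub s hs)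
  obtain ⟨crs, csr, hst, s1, s2, s3⟩ := star S.h4 S.h6 hF hy hr hs hrs h1 h2
  obtain ⟨hyr, a1, a2, a3, a4, a5⟩ := S.vroots hy hrr h1
  obtain ⟨hys, b1, b2, b3, b4, b5⟩ := S.vroots hy hss h2
  obtain ⟨hts, t1, t2, t3, t4, t5⟩ := S.vroots hst hss s2
  set ys : I → ℤ := r + s - y with hys_def
  have ets : ys - s = r - y := by rw [hys_def]; abel
  rw [ets] at hts t2 t3 t4
  -- further Cartan numbers
  have sy : cpr cs h y ys = 0 := (cpr_zero_comm cs h hst hy).1 s3
  have c1 : cpr cs h y (r - y) = -1 := by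
    rw [cpr_symm cs h S.h4 S.h6 hy hts, cpr_sub cs h r y hy, a5, cpr_self cs h hy]; ring
  have c2 : cpr cs h ys (y - s) = -1 := by
    rw [cpr_symm cs h S.h4 S.h6 hst hys, cpr_sub cs h y s hst, sy, t5]; ring
  have d1 : cpr cs h (y - s) (r - y) = 0 := by
    rw [cpr_sub cs h y s hts, c1, cpr_symm cs h S.h4 S.h6 hss hts, t2]; ring
  have d2 : cpr cs h (y - s) r = 1 := by rw [cpr_sub cs h y s hrr, h1, csr]; ring
  have d3 : cpr cs h (r - y) r = 1 := by rw [cpr_sub cs h r y hrr, h1, cpr_self cs h hrr]; ring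
  have d4 : cpr cs h ys r = 1 := s1
  -- commutations
  have m1 := S.cm hy hst (by omega)
  have m2 := S.cm hy hys (by omega)
  have m3 := S.cm hst hts (by omega)
  have m4 := S.cm hys hts (by omega)
  have my : ∀ a ∈ X r, ∀ b ∈ X y, a * b = b * a := S.cm hrr hy (by omega)
  have mst : ∀ a ∈ X r, ∀ b ∈ X ys, a * b = b * a :=
    fun a ha b hb => (S.cm hst hrr (by omega) b hb a ha).symm
  have mys : ∀ a ∈ X r, ∀ b ∈ X (y - s), a * b = b * a :=
    fun a ha b hb => (S.cm hys hrr (by omega) b hb a ha).symm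
  have mts : ∀ a ∈ X r, ∀ b ∈ X (r - y), a * b = b * a :=
    fun a ha b hb => (S.cm hts hrr (by omega) b hb a ha).symm
  have habM : ∀ u ∈ X y ⊔ X ys, ∀ v ∈ X y ⊔ X ys, u * v = v * u :=
    sup_comm (S.cm hy hy (by rw [cpr_self cs h hy]; decide)) (S.cm hst hst (by rw [cpr_self cs h hst]; decide)) m1
  -- the Weyl element
  obtain ⟨c, hcX, hc1⟩ := S.ne_one hss
  obtain ⟨u, hu, v, hv, w, hw, hwi, hrep⟩ := Nodes.MuSq.exists_mu' C.rgd hss hcX hc1
  set m : Y := u * c * v with hm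
  have hmJ : m ∈ Z s ⊔ Z (-s) := by
    rw [S.ZX _ hss, S.ZX _ hss.neg]
    exact mul_mem (mul_mem ((le_sup_right : X (-s) ≤ _) hu) ((le_sup_left : X s ≤ _) hcX))
      ((le_sup_right : X (-s) ≤ _) hv)
  have hconj : ∀ {x : I → ℤ}, IsRoot cs h x → ∀ a ∈ X x, m * a * m⁻¹ ∈ X (x - cpr cs h x s • s) := by
    intro x hx a ha
    rw [← hrep x]
    exact C.rgd.conj_mem hw hx ha
  have hconj' : ∀ {x : I → ℤ}, IsRoot cs h x → ∀ a ∈ X x, m⁻¹ * a * m ∈ X (x - cpr cs h x s • s) := by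
    intro x hx a ha
    rw [← hrep x]
    have := C.rgd.conj_mem' hw hx ha
    rwa [hwi] at this
  have hcy : ∀ a ∈ X y, m * a * m⁻¹ ∈ X (y - s) := by
    intro a ha
    have := hconj hy a ha
    rwa [h2, one_smul] at this
  have hcst : ∀ a ∈ X ys, m * a * m⁻¹ ∈ X (r - y) := by
    intro a ha
    have := hconj hst a ha
    rwa [s2, one_smul, ets] at this
  have hcy' : ∀ a ∈ X (y - s), m⁻¹ * a * m ∈ X y := by
    intro a ha
    have := hconj' hys a ha
    rw [b2] at this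
    have e1 : y - s - (-1 : ℤ) • s = y := by module
    rwa [e1] at this
  have hcst' : ∀ a ∈ X (r - y), m⁻¹ * a * m ∈ X ys := by
    intro a ha
    have := hconj' hts a ha
    rw [t2] at this
    have e1 : r - y - (-1 : ℤ) • s = ys := by rw [hys_def]; module
    rwa [e1] at this
  -- `m² = z (y - s) z y` inverts `M`
  have hsq : m * m = z (y - s) * z y := by
    have := Nodes.MuSq.mu_sq C (S.all y hy) hss (fun e => by rw [e, cpr_self cs h hy] at h2; omega)
      (fun e => by rw [e, cpr_neg_right cs h y hy, cpr_self cs h hy] at h2; omega)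
      (fun e => by rw [← cpr_zero_iff cs h s hy, b5] at e; omega) hcX hu hv hw hwi hrep
    rwa [hrep y, h2, one_smul] at this
  have zy_cen : ∀ a ∈ X y, z y * a = a * z y := fun a ha =>
    C.z_cent y (S.all y hy) a (by rw [S.ZX y hy]; exact ha)
  have zy_cen' : ∀ a ∈ X ys, z y * a = a * z y := by
    intro a ha
    have h3 := C.z_mem y (S.all y hy)
    rw [S.ZX _ hy, S.ZX _ hy.neg] at h3
    refine (sup_comm_of (k := a) (fun b hb => ?_) (fun b hb => ?_) _ h3).symm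
    · exact (m1 b hb a ha).symm
    · exact S.cm hst hy.neg (by rw [cpr_neg_right cs h _ hy, s3]; decide) a ha b hb
  have hzz : ∀ x ∈ X y ⊔ X ys, m * m * x * (m * m)⁻¹ = x⁻¹ := by
    have hz1 := C.z_sq _ (S.all _ hys)
    have hzi : (z (y - s))⁻¹ = z (y - s) := inv_eq_of_mul_eq_one_right hz1
    have k1 : ∀ x ∈ X y, m * m * x * (m * m)⁻¹ = x⁻¹ := by
      intro x hx
      have h3 := C.z_inv _ (S.all _ hys) y hy (ne_of_cpr hys (by omega)) (ne_neg_of_cpr hys (by omega))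
        (fun e => by rw [← cpr_zero_iff cs h y hys, b4] at e; omega) x hx
      rw [hsq]
      calc z (y - s) * z y * x * (z (y - s) * z y)⁻¹ = z (y - s) * (z y * x) * (z y)⁻¹ * (z (y - s))⁻¹ := by group
        _ = z (y - s) * x * z (y - s) := by rw [zy_cen x hx, hzi]; group
        _ = x⁻¹ := h3
    have k2 : ∀ x ∈ X ys, m * m * x * (m * m)⁻¹ = x⁻¹ := by
      intro x hx
      have h3 := C.z_inv _ (S.all _ hys) ys hst (ne_of_cpr hys (by omega)) (ne_neg_of_cpr hys (by omega))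
        (fun e => by rw [← cpr_zero_iff cs h _ hys, c2] at e; omega) x hx
      rw [hsq]
      calc z (y - s) * z y * x * (z (y - s) * z y)⁻¹ = z (y - s) * (z y * x) * (z y)⁻¹ * (z (y - s))⁻¹ := by group
        _ = z (y - s) * x * z (y - s) := by rw [zy_cen' x hx, hzi]; group
        _ = x⁻¹ := h3
    intro x hx
    obtain ⟨a, ha, b, hb, rfl⟩ := Nodes.MuSq.exists_mul_of_sup m1 hx
    calc m * m * (a * b) * (m * m)⁻¹ = (m * m * a * (m * m)⁻¹) * (m * m * b * (m * m)⁻¹) := by group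
      _ = a⁻¹ * b⁻¹ := by rw [k1 a ha, k2 b hb]
      _ = (a * b)⁻¹ := by rw [mul_inv_rev, m1 a⁻¹ (inv_mem ha) b⁻¹ (inv_mem hb)]
  -- `K` and `m`
  have hKm : ∀ k ∈ K, k * m = m * k := fun k hk => S.comm_J hF hc hs k hk m hmJ
  have hQm : ∀ a ∈ X r, a * m = m * a := by
    intro a ha
    refine sup_comm_of (k := a) (fun b hb => ?_) (fun b hb => ?_) _ hmJ
    · rw [S.ZX _ hss] at hb
      exact S.cm hrr hss (by omega) a ha b hb
    · rw [S.ZX _ hss.neg] at hb
      exact S.cm hrr hss.neg (by rw [cpr_neg_right cs h _ hss, crs]; decide) a ha b hb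
  have hQM : ∀ a ∈ X r, ∀ b ∈ X y ⊔ X ys, a * b = b * a := fun a ha => sup_comm_of (my a ha) (mst a ha)
  -- the form
  have hform : ∀ a ∈ X y, ∀ b ∈ X ys, ∀ a' ∈ X y, ∀ b' ∈ X ys,
      ⁅a * b, m * (a' * b') * m⁻¹⁆ = ⁅b, m * a' * m⁻¹⁆ * ⁅a, m * b' * m⁻¹⁆ := by
    intro a ha b hb a' ha' b' hb'
    have x1 := hcy a' ha'
    have x2 := hcst b' hb'
    have e1 : m * (a' * b') * m⁻¹ = (m * a' * m⁻¹) * (m * b' * m⁻¹) := by group
    have g1 : ⁅b, m * a' * m⁻¹⁆ ∈ X r := by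
      have := comm_mem C.rgd S.h4 S.h6 hst hys c2 hb x1
      have e : ys + (y - s) = r := by rw [hys_def]; abel
      rwa [e] at this
    have g2 : ⁅a, m * b' * m⁻¹⁆ ∈ X r := by
      have := comm_mem C.rgd S.h4 S.h6 hy hts c1 ha x2
      have e : y + (r - y) = r := by abel
      rwa [e] at this
    have g3 : ⁅a, m * a' * m⁻¹⁆ = 1 := by
      rw [commutatorElement_eq_one_iff_mul_comm]
      exact m2 a ha _ x1
    have g4 : ⁅b, m * b' * m⁻¹⁆ = 1 := by
      rw [commutatorElement_eq_one_iff_mul_comm]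
      exact m3 b hb _ x2
    have f1 : ⁅b, m * a' * m⁻¹ * (m * b' * m⁻¹)⁆ = ⁅b, m * a' * m⁻¹⁆ := by
      rw [comm_mul_right (by rw [g4]; group), g4, mul_one]
    have f2 : ⁅a, m * a' * m⁻¹ * (m * b' * m⁻¹)⁆ = ⁅a, m * b' * m⁻¹⁆ := by
      rw [comm_mul_right (mys _ g2 _ x1), g3, one_mul]
    rw [e1, comm_mul_left (by rw [f1]; exact my _ g1 a ha), f1, f2]
  have hg1 : ∀ b ∈ X ys, ∀ a' ∈ X y, ⁅b, m * a' * m⁻¹⁆ ∈ X r := by
    intro b hb a' ha'
    have := comm_mem C.rgd S.h4 S.h6 hst hys c2 hb (hcy a' ha')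
    have e : ys + (y - s) = r := by rw [hys_def]; abel
    rwa [e] at this
  have hg2 : ∀ a ∈ X y, ∀ b' ∈ X ys, ⁅a, m * b' * m⁻¹⁆ ∈ X r := by
    intro a ha b' hb'
    have := comm_mem C.rgd S.h4 S.h6 hy hts c1 ha (hcst b' hb')
    have e : y + (r - y) = r := by abel
    rwa [e] at this
  have hin : ∀ u ∈ X y ⊔ X ys, ∀ v ∈ X y ⊔ X ys, ⁅u, m * v * m⁻¹⁆ ∈ X r := by
    intro u hu v hv
    obtain ⟨a, ha, b, hb, rfl⟩ := Nodes.MuSq.exists_mul_of_sup m1 hu
    obtain ⟨a', ha', b', hb', rfl⟩ := Nodes.MuSq.exists_mul_of_sup m1 hv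
    rw [hform a ha b hb a' ha' b' hb']
    exact mul_mem (hg1 b hb a' ha') (hg2 a ha b' hb')
  have hmem' : ∀ {x : Y} {P : Subgroup Y}, m⁻¹ * x * m ∈ P → ∃ v ∈ P, m * v * m⁻¹ = x := by
    intro x P hx
    exact ⟨_, hx, by group⟩
  have hcardM : Nat.card (X y ⊔ X ys : Subgroup Y) = Nat.card (X r) * Nat.card (X r) := by
    rw [Nodes.CardSup.card_mul_of_disjoint (A := X y) (B := X ys) le_sup_left le_sup_right
      (fun g hg => Nodes.MuSq.exists_mul_of_sup m1 hg) (X_inf_X C.rgd hy hst (fun e => by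
        rw [← e, cpr_self cs h hy] at s3
        omega)), S.card_eq hy hrr h1, S.card_eq hst hrr s1]
  have hcM : Odd (Nat.card (X y ⊔ X ys : Subgroup Y)) := by
    rw [hcardM]
    exact (S.odd_X hrr).mul (S.odd_X hrr)
  have hN := wt_nor C S.hT hF.sub hr ((cpr_pos_iff cs h y hrr).1 (by omega)) hc (X := X)
  rw [mm_two S.h4 S.h6 hF S.all hy hr hs hrs h1 h2 h0] at hN
  have hneg : ∀ u ∈ X y ⊔ X ys, ∀ v ∈ X y ⊔ X ys, ⁅m * u * m⁻¹, v⁆ ∈ X r := by
    intro u hu v hv
    have := hin v hv u hu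
    rw [← commutatorElement_inv] at this
    have h3 := inv_mem this
    rwa [inv_inv] at h3
  have key := sym_grp (M := X y ⊔ X ys) (Q := X r) (n := m) habM hcM hcardM hin hQM hQm (by
    -- nondegenerate
    intro u hu hu1 q hq
    obtain ⟨a, ha, b, hb, rfl⟩ := Nodes.MuSq.exists_mul_of_sup m1 hu
    by_cases ha1 : a = 1
    · have hb1 : b ≠ 1 := by
        rintro rfl
        exact hu1 (by rw [ha1, one_mul])
      obtain ⟨x, hx, hxe⟩ := nd C.rgd S.h4 S.h6 hst hys c2 hb hb1 (w := q) (by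
        have e : ys + (y - s) = r := by rw [hys_def]; abel
        rwa [e])
      obtain ⟨v, hv, hve⟩ := hmem' (hcy' x hx)
      refine ⟨v, (le_sup_left : X y ≤ _) hv, ?_⟩
      have := hform a ha b hb v hv 1 (one_mem _)
      rw [mul_one, mul_one, mul_inv_cancel, commutatorElement_one_right, mul_one, hve, hxe] at this
      rw [hve, this]
    · obtain ⟨x, hx, hxe⟩ := nd C.rgd S.h4 S.h6 hy hts c1 ha ha1 (w := q) (by
        have e : y + (r - y) = r := by abel
        rwa [e])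
      obtain ⟨v, hv, hve⟩ := hmem' (hcst' x hx)
      refine ⟨v, (le_sup_right : X ys ≤ _) hv, ?_⟩
      have := hform a ha b hb 1 (one_mem _) v hv
      rw [one_mul, mul_one, mul_inv_cancel, commutatorElement_one_right, one_mul, hve, hxe] at this
      rw [hve, this]) (by
    -- symmetric
    intro u hu v hv
    have k1 : m * ⁅u, m * v * m⁻¹⁆ * m⁻¹ = ⁅u, m * v * m⁻¹⁆ := by
      rw [← hQm _ (hin u hu v hv)]; group
    have k2 : m * (m * v * m⁻¹) * m⁻¹ = v⁻¹ := by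
      rw [← hzz v hv]; group
    rw [conj_comm, k2, comm_inv_right (hQM _ (hneg u hu v hv) v hv), commutatorElement_inv] at k1
    exact k1.symm) hK hN hKm (fun k hk a ha => hc.comm r hr a (by rw [S.ZX r hrr]; exact ha) k hk)
  rcases key with key | ⟨k1, k2⟩
  · exact fun v hv => key v ((le_sup_left : X y ≤ _) hv)
  -- `K` normalises `X y`
  exfalso
  obtain ⟨a, ha, b, hb, haa, hbb, hab⟩ := hK.com
  have hnor : ∀ a ∈ K, a * a = e → ∀ x ∈ X y, a * x * a⁻¹ ∈ X y := by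
    intro a ha haa x hx
    by_cases hx1 : x = 1
    · rw [hx1, mul_one, mul_inv_cancel]
      exact one_mem _
    have h3 := k2 a ha haa x ((le_sup_left : X y ≤ _) hx)
    obtain ⟨c1', hc1', d, hd, hcd⟩ := Nodes.MuSq.exists_mul_of_sup m1
      (conj_mem (hN ha) ((le_sup_left : X y ≤ _) hx))
    rw [hcd] at h3 ⊢
    have h4 := hform x hx 1 (one_mem _) c1' hc1' d hd
    rw [mul_one, commutatorElement_one_left, one_mul, h3] at h4
    -- `[x, m d m⁻¹] = 1`
    have h5 : m * d * m⁻¹ = 1 := by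
      by_contra hne
      apply hx1
      exfalso
      have hcom : x * (m * d * m⁻¹) = (m * d * m⁻¹) * x := commutatorElement_eq_one_iff_mul_comm.1 h4.symm
      exact hne (Nodes.MuSq.eq_one_of_comm C.rgd hy hts
        (ne_of_cpr hts (by omega)) (ne_neg_of_cpr hts (by omega))
        (fun w hw => not_btwn S.h4 S.h6 hy.neg hts (fun e => by
          have h7 : r = 0 := by
            have : r = (r - y) - (-y) := by abel
            rw [this, ← e, sub_self]
          exact hrr.ne_zero h7) (by rw [cpr_neg cs h y hts, c1]; decide) w hw)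
        (by rw [cpr_symm cs h S.h4 S.h6 hts hy, c1]; decide) hx hx1 (hcst d hd) hcom)
    have h6 : d = 1 := by
      calc d = m⁻¹ * (m * d * m⁻¹) * m := by group
        _ = 1 := by rw [h5]; group
    rw [h6, mul_one]
    exact hc1'
  have h3 := S.triv_ab hy hrr h1 hab (S.comm_J hF hc hr a ha) (S.comm_J hF hc hr b hb) (hnor a ha haa)
    (hnor b hb hbb)
  obtain ⟨x, hx, hx1⟩ := S.ne_one hy
  have h4 := k1 x ((le_sup_left : X y ≤ _) hx)
  rw [h3 x hx] at h4
  exact hx1 (sq_eq_one (S.odd_X hy) hx (by nth_rw 1 [h4]; exact inv_mul_cancel x))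

end SLC

end Cfsg.Agent.LOC.SL
end

-- part: Cit/Nil/LO/SLOne
section
set_option linter.all false
open scoped Cfsg.Agent.FastGrp

/-!
# Lie odd, simply laced charts: `Q₈` on the weight groups, `|I| = 1` (S1309, (n1), piece (C))

`y` a root, `⟨y, r⟩ = 1`, `y` orthogonal to the elements `≠ ± r` of `F`; `M = X y ⊔ X (r - y) ⊔ X r`, the form is the
commutator `M/X r × M/X r → X r`.

* `AltD M N` : the hypotheses of `FormGrp.alt_grp` on `M`, `N`;
* `SLC.alt_data` : `AltD (MM y) (Z r)`;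
* `SLC.triv_one` : `e` centralises `X y` or inverts `X y`.
-/

set_option autoImplicit false
set_option linter.unusedSectionVars false
set_option linter.dupNamespace false

namespace Cfsg.Agent.LOC.SL

open CoxeterSystem Cfsg.Agent.ChevalleyStructure.CoxeterGeom Cfsg.Agent.Tits.Roots Cfsg.Agent.Tits.Core
  Cfsg.Agent.Tits.RootComb Cfsg.Agent.Nodes.Comb Cfsg.Agent.Nodes.Reps Cfsg.Agent.Nodes.BNOf
  Cfsg.Agent.Nodes.RGDLib Cfsg.Agent.Nodes.PosPair Cfsg.Agent.Nodes.Chart Cfsg.Agent.Nodes.ClsNorm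
  Cfsg.Agent.Nodes.ChartLoc
  Cfsg.Agent.Nodes.Coroot Cfsg.Agent.Nodes.SimplyLaced Cfsg.Agent.Nodes.KindBase Cfsg.Agent.Nodes.OppDec
  Cfsg.Agent.LOC.ChartDefs Cfsg.Agent.LOC.Wt Cfsg.Agent.LOC.FormGrp
open scoped commutatorElement

variable {I W Y : Type*} [Fintype I] [DecidableEq I] [Group W] [Fintype W] [Group Y] {M : CoxeterMatrix I}
  {cs : CoxeterSystem M W} {A : I → I → ℤ} {h : IsCartan M A} {p : ℕ} {T : Subgroup Y} {n : I → Y}
  {X : (I → ℤ) → Subgroup Y} {R : Set (I → ℤ)} {Z : (I → ℤ) → Subgroup Y} {z : (I → ℤ) → Y}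
  {C : Cls cs h p T n X R Z z} {F : Set (I → ℤ)}

/-- the hypotheses of `alt_grp` -/
structure AltD {G : Type*} [Group G] (M N : Subgroup G) : Prop where
  le : N ≤ M
  cen : ∀ c ∈ N, ∀ m ∈ M, c * m = m * c
  comm : ∀ u ∈ M, ∀ v ∈ M, ⁅u, v⁆ ∈ N
  odd : Odd (Nat.card M)
  card : Nat.card M = Nat.card N * Nat.card N * Nat.card N
  nd : ∀ u ∈ M, u ∉ N → ∀ c ∈ N, ∃ v ∈ M, ⁅u, v⁆ = c

namespace SLC

variable [Finite Y] [Fact p.Prime] (S : SLC C)
include S

theorem alt_data' {y r : I → ℤ}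
    (hy : IsRoot cs h y) (hrr : IsRoot cs h r) (h1 : cpr cs h y r = 1) :
    AltD (X y ⊔ X (r - y) ⊔ X r) (X r) := by
  obtain ⟨hyr, a1, a2, a3, a4, a5⟩ := S.vroots hy hrr h1
  have hts : IsRoot cs h (r - y) := by
    have := hyr.neg
    rwa [neg_sub] at this
  have c1 : cpr cs h y (r - y) = -1 := by
    rw [cpr_symm cs h S.h4 S.h6 hy hts, cpr_sub cs h r y hy, a5, cpr_self cs h hy]; ring
  have c1' : cpr cs h (r - y) y = -1 := by rw [cpr_symm cs h S.h4 S.h6 hts hy, c1]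
  have d3 : cpr cs h (r - y) r = 1 := by rw [cpr_sub cs h r y hrr, h1, cpr_self cs h hrr]; ring
  have er : y + (r - y) = r := by abel
  have er' : r - y + y = r := by abel
  -- commutations
  have my : ∀ a ∈ X r, ∀ b ∈ X y, a * b = b * a := S.cm hrr hy (by omega)
  have mts : ∀ a ∈ X r, ∀ b ∈ X (r - y), a * b = b * a :=
    fun a ha b hb => (S.cm hts hrr (by omega) b hb a ha).symm
  have mr : ∀ a ∈ X r, ∀ b ∈ X r, a * b = b * a := S.cm hrr hrr (by rw [cpr_self cs h hrr]; decide)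
  have yab := S.cm hy hy (by rw [cpr_self cs h hy]; decide)
  have tab := S.cm hts hts (by rw [cpr_self cs h hts]; decide)
  have hcen : ∀ c ∈ X r, ∀ m ∈ X y ⊔ X (r - y) ⊔ X r, c * m = m * c := fun c hc =>
    sup_comm_of (sup_comm_of (my c hc) (mts c hc)) (mr c hc)
  have hcen' : ∀ c ∈ X r, ∀ m ∈ X y ⊔ X (r - y) ⊔ X r, m * c = c * m := fun c hc m hm => (hcen c hc m hm).symm
  have hV : X y ⊔ X (r - y) ⊔ X r ≤ VV cs h X r := by
    have key : ∀ {x : I → ℤ}, IsRoot cs h x → 0 < cpr cs h x r → X x ≤ VV cs h X r := fun {x} hx h5 =>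
      RGD.le_Sup (X := X) (S := {y | IsRoot cs h y ∧ 0 < form cs h y r}) ⟨hx, (cpr_pos_iff cs h x hrr).1 h5⟩
    exact sup_le (sup_le (key hy (by omega)) (key hts (by omega))) (key hrr (by rw [cpr_self cs h hrr]; decide))
  have hcomm : ∀ u ∈ X y ⊔ X (r - y) ⊔ X r, ∀ v ∈ X y ⊔ X (r - y) ⊔ X r, ⁅u, v⁆ ∈ X r := by
    intro u hu v hv
    rw [← S.ZX r hrr]
    exact commutator_VV_le C S.odd (S.all r hrr) (Subgroup.commutator_mem_commutator (hV hu) (hV hv))
  have hodd : Odd (Nat.card (X y ⊔ X (r - y) ⊔ X r : Subgroup Y)) :=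
    (odd_card_VV C S.odd r).of_dvd_nat (Subgroup.card_dvd_of_le hV)
  -- elements
  have hel : ∀ m ∈ X y ⊔ X (r - y) ⊔ X r, ∃ a ∈ X y, ∃ c ∈ X r, ∃ b ∈ X (r - y), m = a * c * b := by
    intro m hm
    have e1 : X y ⊔ X (r - y) ⊔ X r = (X y ⊔ X r) ⊔ X (r - y) := by
      rw [sup_assoc, sup_assoc, _root_.sup_comm (X (r - y))]
    rw [e1] at hm
    obtain ⟨g, hg, b, hb, rfl⟩ := exists_mul_of_nor (P := X y ⊔ X r) (Q := X (r - y)) (by
      intro q hq x hx
      obtain ⟨a, ha, c, hc', rfl⟩ := Nodes.MuSq.exists_mul_of_sup (fun a ha b hb => (my b hb a ha).symm) hx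
      have e2 : q * (a * c) * q⁻¹ = ⁅q, a⁆ * a * (q * c * q⁻¹) := by
        rw [commutatorElement_def]; group
      have e3 : q * c * q⁻¹ = c := by rw [← mts c hc' q hq]; group
      rw [e2, e3]
      have h5 := comm_mem C.rgd S.h4 S.h6 hts hy c1' hq ha
      rw [er'] at h5
      exact mul_mem (mul_mem ((le_sup_right : X r ≤ _) h5) ((le_sup_left : X y ≤ _) ha))
        ((le_sup_right : X r ≤ _) hc')) hm
    obtain ⟨a, ha, c, hc', rfl⟩ := Nodes.MuSq.exists_mul_of_sup (fun a ha b hb => (my b hb a ha).symm) hg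
    exact ⟨a, ha, c, hc', b, hb, rfl⟩
  have hcard : Nat.card (X y ⊔ X (r - y) ⊔ X r : Subgroup Y) =
      Nat.card (X r) * Nat.card (X r) * Nat.card (X r) := by
    have k1 : Nat.card (X y ⊔ X r : Subgroup Y) = Nat.card (X y) * Nat.card (X r) :=
      Nodes.CardSup.card_mul_of_disjoint le_sup_left le_sup_right
        (fun g hg => Nodes.MuSq.exists_mul_of_sup (fun a ha b hb => (my b hb a ha).symm) hg)
        (X_inf_X C.rgd hy hrr (ne_of_cpr hrr (by omega)))
    have k2 : Nat.card (X y ⊔ X (r - y) ⊔ X r : Subgroup Y) =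
        Nat.card (X y ⊔ X r : Subgroup Y) * Nat.card (X (r - y)) := by
      refine Nodes.CardSup.card_mul_of_disjoint (sup_le (le_sup_of_le_left le_sup_left) le_sup_right)
        (le_sup_of_le_left le_sup_right) (fun g hg => ?_) ?_
      · obtain ⟨a, ha, c, hc', b, hb, rfl⟩ := hel g hg
        exact ⟨a * c, mul_mem ((le_sup_left : X y ≤ _) ha) ((le_sup_right : X r ≤ _) hc'), b, hb, rfl⟩
      · rw [Subgroup.eq_bot_iff_forall]
        rintro g ⟨hg1, hg2⟩
        obtain ⟨a, ha, c, hc', rfl⟩ := Nodes.MuSq.exists_mul_of_sup (fun a ha b hb => (my b hb a ha).symm) hg1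
        have ha1 : a = 1 := S.eq_one hy hts c1 ha (by
          intro v hv
          have e1 : (a * c) * v = v * (a * c) := tab _ hg2 v hv
          have e2 : c * v = v * c := mts c hc' v hv
          have e3 : a * v * c = v * a * c := by
            calc a * v * c = a * (c * v) := by rw [e2]; group
              _ = v * a * c := by rw [← mul_assoc, e1]; group
          exact mul_right_cancel e3)
        rw [ha1, one_mul] at hg2 ⊢
        have h5 : c ∈ X r ⊓ X (r - y) := ⟨hc', hg2⟩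
        rw [X_inf_X C.rgd hrr hts (ne_of_cpr hts (by
          rw [cpr_symm cs h S.h4 S.h6 hrr hts, d3]; decide)), Subgroup.mem_bot] at h5
        exact h5
    rw [k2, k1, S.card_eq hy hrr h1, S.card_eq hts hrr d3]
  refine ⟨le_sup_right, hcen, hcomm, hodd, hcard, ?_⟩
  intro u hu huN q hq
  obtain ⟨a, ha, c, hc', b, hb, rfl⟩ := hel u hu
  have hc1 : ∀ v, v ∈ X y ⊔ X (r - y) ⊔ X r → ⁅c, v⁆ = 1 := fun v hv => by
    rw [commutatorElement_eq_one_iff_mul_comm]
    exact hcen c hc' v hv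
  by_cases ha1 : a = 1
  · have hb1 : b ≠ 1 := by
      rintro rfl
      exact huN (by rw [ha1, one_mul, mul_one]; exact hc')
    obtain ⟨v, hv, hve⟩ := nd C.rgd S.h4 S.h6 hts hy c1' hb hb1 (w := q) (by rwa [er'])
    have hvM : v ∈ X y ⊔ X (r - y) ⊔ X r := (le_sup_left : X y ⊔ X (r - y) ≤ _) ((le_sup_left : X y ≤ _) hv)
    refine ⟨v, hvM, ?_⟩
    rw [ha1, one_mul, comm_mul_left (by rw [hve]; exact mr q hq c hc'), hve, hc1 v hvM, mul_one]
  · obtain ⟨v, hv, hve⟩ := nd C.rgd S.h4 S.h6 hy hts c1 ha ha1 (w := q) (by rwa [er])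
    have hvM : v ∈ X y ⊔ X (r - y) ⊔ X r :=
      (le_sup_left : X y ⊔ X (r - y) ≤ _) ((le_sup_right : X (r - y) ≤ _) hv)
    refine ⟨v, hvM, ?_⟩
    have hb1 : ⁅b, v⁆ = 1 := by
      rw [commutatorElement_eq_one_iff_mul_comm]
      exact tab b hb v hv
    have e1 : ⁅a * c, v⁆ = q := by
      rw [comm_mul_left (by rw [hc1 v hvM]; group), hc1 v hvM, one_mul, hve]
    rw [comm_mul_left (by rw [hb1]; group), hb1, one_mul, e1]

/-- **The data on the weight group.** -/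
theorem alt_data (hF : MaxF C F) {y r : I → ℤ} (hy : IsRoot cs h y) (hr : r ∈ F) (h1 : cpr cs h y r = 1)
    (h0 : ∀ t ∈ F, t ≠ r → t ≠ -r → cpr cs h y t = 0) : AltD (MM cs h X F y) (Z r) := by
  have hrr := C.root r (hF.sub r hr)
  rw [mm_one S.h4 S.h6 hF S.all hy hr h1 h0, S.ZX r hrr]
  exact S.alt_data' hy hrr h1

theorem triv_one (hF : MaxF C F) {K : Subgroup Y} {e : Y} (hK : QK K e) (hc : Cen C F K) {y r : I → ℤ}
    (hy : IsRoot cs h y) (hr : r ∈ F) (h1 : cpr cs h y r = 1)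
    (h0 : ∀ t ∈ F, t ≠ r → t ≠ -r → cpr cs h y t = 0) :
    (∀ v ∈ X y, e * v * e⁻¹ = v) ∨ ∀ v ∈ X y, e * v * e⁻¹ = v⁻¹ := by
  have hrr := C.root r (hF.sub r hr)
  obtain ⟨hyr, a1, a2, a3, a4, a5⟩ := S.vroots hy hrr h1
  have hts : IsRoot cs h (r - y) := by
    have := hyr.neg
    rwa [neg_sub] at this
  have c1 : cpr cs h y (r - y) = -1 := by
    rw [cpr_symm cs h S.h4 S.h6 hy hts, cpr_sub cs h r y hy, a5, cpr_self cs h hy]; ring
  have c1' : cpr cs h (r - y) y = -1 := by rw [cpr_symm cs h S.h4 S.h6 hts hy, c1]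
  have d3 : cpr cs h (r - y) r = 1 := by rw [cpr_sub cs h r y hrr, h1, cpr_self cs h hrr]; ring
  have er : y + (r - y) = r := by abel
  have er' : r - y + y = r := by abel
  -- commutations
  have my : ∀ a ∈ X r, ∀ b ∈ X y, a * b = b * a := S.cm hrr hy (by omega)
  have mts : ∀ a ∈ X r, ∀ b ∈ X (r - y), a * b = b * a :=
    fun a ha b hb => (S.cm hts hrr (by omega) b hb a ha).symm
  have mr : ∀ a ∈ X r, ∀ b ∈ X r, a * b = b * a := S.cm hrr hrr (by rw [cpr_self cs h hrr]; decide)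
  have yab := S.cm hy hy (by rw [cpr_self cs h hy]; decide)
  have tab := S.cm hts hts (by rw [cpr_self cs h hts]; decide)
  have hN := wt_nor C S.hT hF.sub hr ((cpr_pos_iff cs h y hrr).1 (by omega)) hc (X := X)
  rw [mm_one S.h4 S.h6 hF S.all hy hr h1 h0] at hN
  have heN : ∀ c ∈ X r, e * c = c * e := fun c hc' =>
    hc.comm r hr c (by rw [S.ZX r hrr]; exact hc') e hK.mem
  have hei := hK.inv_e
  have D := S.alt_data' hy hrr h1
  have key := alt_grp D.le D.cen D.comm D.odd D.card D.nd hK.sq (hN hK.mem) heN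
  have hyM : X y ≤ X y ⊔ X (r - y) ⊔ X r := le_sup_of_le_left le_sup_left
  rcases key with key | key
  · left
    intro v hv
    have h5 := key v (hyM hv)
    set c := e * v * e⁻¹ * v⁻¹ with hcd
    have e1 : e * v * e⁻¹ = c * v := by rw [hcd]; group
    have e2 : c * c = 1 := by
      have e3 : e * (e * v * e⁻¹) * e⁻¹ = c * (c * v) := by
        calc e * (e * v * e⁻¹) * e⁻¹ = e * (c * v) * e⁻¹ := by rw [e1]
          _ = (e * c) * v * e⁻¹ := by group
          _ = c * (e * v * e⁻¹) := by rw [heN c h5]; group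
          _ = c * (c * v) := by rw [e1]
      have e4 : e * (e * v * e⁻¹) * e⁻¹ = v := by
        rw [hei]
        calc e * (e * v * e) * e = (e * e) * v * (e * e) := by group
          _ = v := by rw [hK.sq]; group
      rw [e4, ← mul_assoc] at e3
      calc c * c = (c * c * v) * v⁻¹ := by group
        _ = 1 := by rw [← e3]; group
    rw [e1, sq_eq_one (S.odd_X hrr) h5 e2, one_mul]
  · right
    intro v hv
    have h5 := key v (hyM hv)
    set c := e * v * e⁻¹ * v with hcd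
    have e1 : e * v * e⁻¹ = c * v⁻¹ := by rw [hcd]; group
    -- the involution `z r`
    have hzJ : e * z r = z r * e := S.comm_J hF hc hr e hK.mem _ (C.z_mem r (hF.sub r hr))
    have hz2 := C.z_sq r (hF.sub r hr)
    have hzi : (z r)⁻¹ = z r := inv_eq_of_mul_eq_one_right hz2
    have hzv := C.z_inv r (hF.sub r hr) y hy (ne_of_cpr hrr (by omega)) (ne_neg_of_cpr hrr (by omega))
      (fun e => by rw [← cpr_zero_iff cs h y hrr] at e; omega) v hv
    have hzc : z r * c = c * z r := C.z_cent r (hF.sub r hr) c (by rw [S.ZX r hrr]; exact h5)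
    have e2 : c * c = 1 := by
      have e3 : z r * (e * v * e⁻¹) * z r = e * v⁻¹ * e⁻¹ := by
        have e4 : e⁻¹ * z r = z r * e⁻¹ := by rw [hei, hzJ]
        calc z r * (e * v * e⁻¹) * z r = (z r * e) * v * (e⁻¹ * z r) := by group
          _ = e * (z r * v * z r) * e⁻¹ := by rw [← hzJ, e4]; group
          _ = e * v⁻¹ * e⁻¹ := by rw [hzv]
      have e5 : e * v⁻¹ * e⁻¹ = v * c⁻¹ := by
        have : e * v⁻¹ * e⁻¹ = (e * v * e⁻¹)⁻¹ := by group
        rw [this, e1]; group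
      have e6 : z r * (c * v⁻¹) * z r = c * v := by
        have e7 : z r * v⁻¹ * z r = v := by
          have : (z r * v * z r)⁻¹ = (v⁻¹)⁻¹ := by rw [hzv]
          rw [mul_inv_rev, mul_inv_rev, hzi, inv_inv, ← mul_assoc] at this
          exact this
        calc z r * (c * v⁻¹) * z r = (z r * c) * v⁻¹ * z r := by group
          _ = c * (z r * v⁻¹ * z r) := by rw [hzc]; group
          _ = c * v := by rw [e7]
      rw [e1, e6, e5] at e3
      -- `c v = v c⁻¹`
      have e8 : c * v = v * c := my c h5 v hv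
      rw [e8] at e3
      have e9 : c = c⁻¹ := mul_left_cancel e3
      nth_rw 2 [e9]
      exact mul_inv_cancel c
    rw [e1, sq_eq_one (S.odd_X hrr) h5 e2, one_mul]

end SLC

end Cfsg.Agent.LOC.SL
end

-- part: Cit/Nil/Comp/AO/HRot
section
prune_inst 0x20100004480000000000000200002040520001000020080151400c00040e310080040121c0801c100000220400040008110000400210000000000800011c00800002000080080000000000000003180c00000000000000000000000000041000000000000
set_option linter.all false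
open scoped Cfsg.Agent.FastGrp

-- part: Cit/Nil/Comp/AO/Defs
section
/-!
# S1309 (6b), `r = 1`, COMP, the AllOne branch, (M2): the world of one class (helper61, bb R18 #19026)

`OW Z K` : members of order 8 without C-pairs, `F = 1` (a 2-element centralising `K z` and `K t`, `z t = t z`, is `1`);
`XW Z K D` : moreover one class of members, they generate the group, `D` is a simple normal subgroup with trivial
centraliser, every member has an N-partner and is rotated by an element of odd order.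

(`X = X_z / Z(X_z)`, `X_z` generated by the members `K u`, `(z, u)` a C-pair.)
-/

set_option autoImplicit false

namespace Cfsg.Agent.Cit.Nil.Comp.AO

open Subgroup Cfsg Cfsg.Agent.Cit Cfsg.Agent.Cit.Nil.ROne

/-- members of order 8, no C-pairs, `F = 1` -/
structure OW {G : Type*} [Group G] (Z : Set G) (K : G → Subgroup G) : Prop where
  w : W Z K
  nc : ∀ z ∈ Z, ∀ u ∈ Z, ¬ CP K z u
  f1 : ∀ z ∈ Z, ∀ t ∈ Z, z ≠ t → z * t = t * z → ∀ b : G, IsPGroup 2 (zpowers b) → Cen K b z → Cen K b t → b = 1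

/-- see the head of the file -/
structure XW {G : Type*} [Group G] (Z : Set G) (K : G → Subgroup G) (D : Subgroup G) : Prop extends OW Z K where
  cls : OneCls Z
  f : FSimp D
  mem : ∀ z ∈ Z, z ∈ D
  top : ∀ H : Subgroup G, (∀ z ∈ Z, K z ≤ H) → H = ⊤
  np : ∀ z ∈ Z, ∃ t ∈ Z, t ≠ z ∧ z * t = t * z
  rot : ∀ z ∈ Z, ∃ c : G, c * z = z * c ∧ Odd (orderOf c) ∧ ¬ Cen K c z

end Cfsg.Agent.Cit.Nil.Comp.AO
end

-- part: Cit/Nil/Comp/AO/Clique
section
/-!
# S1309 (6b), `r = 1`, COMP, (M2), (P3): cliques (helper61, bb R18 #19884)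

`XW.three_of_clique` : if `{z, t, z t}` (`t ∈ Z` commuting with `z`) is never contained in a bigger commuting set of
elements of `Z`, then `K z` is THREE.
-/

set_option autoImplicit false
set_option linter.style.haveILetI false
set_option linter.unusedSectionVars false

namespace Cfsg.Agent.Cit.Nil.Comp.AO

open Subgroup Cfsg Cfsg.Agent.Cit Cfsg.Agent.Cit.Nil.ROne
open Cfsg.Agent.Transfer.SL23Recog Cfsg.Agent.Transfer.SL23Section

variable {G : Type*} [Group G]

/-! ### general lemmas -/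

theorem exists_odd_pow [Finite G] (g : G) : ∃ k : ℕ, Odd (orderOf (g ^ 2 ^ k)) := by
  obtain ⟨k, m, hm, h⟩ := Nat.exists_eq_two_pow_mul_odd (orderOf_pos g).ne'
  refine ⟨k, ?_⟩
  rw [orderOf_pow, h, Nat.gcd_eq_right (dvd_mul_right _ _), Nat.mul_div_cancel_left _ (by positivity)]
  exact hm

/-- elements with the same action: `b` of odd order acts nontrivially, then so do the `2^k`-th powers of `a` -/
theorem exists_of_same {a b : G} {L : Subgroup G} (ho : Odd (orderOf b)) (hL : ∀ x ∈ L, b * x * b⁻¹ ∈ L)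
    (h : ∀ x ∈ L, a * x * a⁻¹ = b * x * b⁻¹) (hn : ∃ x ∈ L, b * x ≠ x * b) (k : ℕ) :
    ∃ x ∈ L, a ^ 2 ^ k * x ≠ x * a ^ 2 ^ k := by
  have key : ∀ i : ℕ, ∀ x ∈ L, a ^ i * x * (a ^ i)⁻¹ = b ^ i * x * (b ^ i)⁻¹ ∧ b ^ i * x * (b ^ i)⁻¹ ∈ L := by
    intro i
    induction i with
    | zero => intro x hx; simpa using hx
    | succ i ih =>
      intro x hx
      obtain ⟨h1, h2⟩ := ih x hx
      have e1 : a ^ (i + 1) * x * (a ^ (i + 1))⁻¹ = a * (a ^ i * x * (a ^ i)⁻¹) * a⁻¹ := by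
        rw [pow_succ' a i]; group
      have e2 : b ^ (i + 1) * x * (b ^ (i + 1))⁻¹ = b * (b ^ i * x * (b ^ i)⁻¹) * b⁻¹ := by
        rw [pow_succ' b i]; group
      rw [e1, e2, h1]
      exact ⟨h _ h2, hL _ h2⟩
  by_contra hcon
  push Not at hcon
  obtain ⟨x, hx, hne⟩ := hn
  apply hne
  have h1 := (key (2 ^ k) x hx).1
  rw [hcon x hx, mul_inv_cancel_right] at h1
  have h2 : Commute (b ^ 2 ^ k) x := by
    show b ^ 2 ^ k * x = x * b ^ 2 ^ k
    rw [← mul_inv_eq_iff_eq_mul, ← h1]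
  have h3 : Nat.Coprime (2 ^ k) (orderOf b) := (Nat.coprime_two_left.2 ho).pow_left k
  obtain ⟨m, hm⟩ := exists_pow_eq_self_of_coprime h3
  have h4 := h2.pow_left m
  rw [hm] at h4
  exact h4.eq

theorem comm_of_sq {c k : G} (ho : Odd (orderOf c)) (h : c * c * k = k * (c * c)) : c * k = k * c := by
  have h1 : Nat.Coprime 2 (orderOf c) := Nat.coprime_two_left.2 ho
  obtain ⟨m, hm⟩ := exists_pow_eq_self_of_coprime h1
  have h2 : Commute (c ^ 2) k := by rw [pow_two]; exact h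
  have h3 := h2.pow_left m
  rw [hm] at h3
  exact h3.eq

theorem pow_conj_mem {a : G} {Q : Subgroup G} (h : ∀ p ∈ Q, a * p * a⁻¹ ∈ Q) (m : ℕ) :
    ∀ p ∈ Q, a ^ m * p * (a ^ m)⁻¹ ∈ Q := by
  induction m with
  | zero => intro p hp; simpa using hp
  | succ m ih =>
    intro p hp
    have e1 : a ^ (m + 1) * p * (a ^ (m + 1))⁻¹ = a * (a ^ m * p * (a ^ m)⁻¹) * a⁻¹ := by
      rw [pow_succ' a m]; group
    rw [e1]
    exact h _ (ih p hp)

/-- a normal subgroup of odd order lies in `O(J)` -/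
theorem le_oddCore_of {J : Type*} [Group J] [Finite J] {N : Subgroup J} (hn : N.Normal) (ho : Odd (Nat.card N)) :
    N ≤ oddCore J := Lib.Cores.le_pPrimeCore hn (Nat.coprime_two_right.2 ho)

/-- recognition of `SL(2,3)` modulo `O(J)` -/
theorem sl23_quot [Finite G] {N J : Subgroup G} {i j t : G} (hN : Odd (Nat.card N)) (hNn : J ≤ normalizer (N : Set G))
    (hJ : J = N ⊔ closure {i, j, t}) (h : SLRel i j t) (hi : i ^ 2 ≠ 1) (ht : t ^ 3 ∈ N) :
    Nonempty ((↥J ⧸ oddCore ↥J) ≃* Matrix.SpecialLinearGroup (Fin 2) (ZMod 3)) := by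
  have hNJ : N ≤ J := by rw [hJ]; exact le_sup_left
  have hcJ : closure {i, j, t} ≤ J := by rw [hJ]; exact le_sup_right
  have hiJ : i ∈ J := hcJ (subset_closure (by simp))
  have hjJ : j ∈ J := hcJ (subset_closure (by simp))
  have htJ : t ∈ J := hcJ (subset_closure (by simp))
  have hnJ : (N.subgroupOf J).Normal := (normal_subgroupOf_iff_le_normalizer hNJ).2 hNn
  have hO : N.subgroupOf J ≤ oddCore ↥J := by
    refine le_oddCore_of hnJ ?_
    rw [Nat.card_congr (subgroupOfEquivOfLe hNJ).toEquiv]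
    exact hN
  set π := QuotientGroup.mk' (oddCore ↥J) with hπ
  have hrel : SLRel (π ⟨i, hiJ⟩) (π ⟨j, hjJ⟩) (π ⟨t, htJ⟩) := slrel_map π (slrel_subtype J hiJ hjJ htJ h)
  have hker : ∀ x : ↥J, π x = 1 ↔ x ∈ oddCore ↥J := fun x => QuotientGroup.eq_one_iff x
  have hodd : Odd (Nat.card (oddCore ↥J)) := Nat.coprime_two_right.1 (Lib.Cores.pPrimeCore_coprime 2)
  have ht3 : π ⟨t, htJ⟩ ^ 3 = 1 := by
    rw [← map_pow, hker]
    exact hO (mem_subgroupOf.2 ht)
  have hi2 : π ⟨i, hiJ⟩ ^ 2 ≠ 1 := by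
    rw [← map_pow, Ne, hker]
    intro h1
    apply hi
    have h2 : orderOf (⟨i, hiJ⟩ ^ 2 : ↥J) ∣ Nat.card (oddCore ↥J) := by
      have := orderOf_dvd_natCard (⟨_, h1⟩ : ↥(oddCore ↥J))
      rwa [Subgroup.orderOf_mk] at this
    have h3 : orderOf (⟨i, hiJ⟩ ^ 2 : ↥J) ∣ 2 := by
      refine orderOf_dvd_of_pow_eq_one ?_
      apply Subtype.ext
      show (i ^ 2) ^ 2 = 1
      rw [← pow_mul]
      exact h.hi
    have h4 : orderOf (⟨i, hiJ⟩ ^ 2 : ↥J) = 1 :=
      Nat.eq_one_of_dvd_coprimes (Nat.coprime_two_left.2 hodd) h3 h2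
    exact congrArg Subtype.val (orderOf_eq_one_iff.1 h4)
  have ht1 : π ⟨t, htJ⟩ ≠ 1 := by
    intro h1
    have h3 := hrel.hti
    rw [h1, one_mul, inv_one, mul_one] at h3
    apply j_not_commute hrel.toQRel hi2
    rw [← h3]
  have hgen : closure ({π ⟨i, hiJ⟩, π ⟨j, hjJ⟩, π ⟨t, htJ⟩} : Set (↥J ⧸ oddCore ↥J)) = ⊤ := by
    set A := (closure ({π ⟨i, hiJ⟩, π ⟨j, hjJ⟩, π ⟨t, htJ⟩} : Set (↥J ⧸ oddCore ↥J))).comap π with hA
    have h1 : J ≤ A.map J.subtype := by
      have h2 : N ⊔ closure {i, j, t} ≤ A.map J.subtype := by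
        refine sup_le ?_ ?_
        · intro x hx
          refine ⟨⟨x, hNJ hx⟩, ?_, rfl⟩
          show π ⟨x, hNJ hx⟩ ∈ closure ({π ⟨i, hiJ⟩, π ⟨j, hjJ⟩, π ⟨t, htJ⟩} : Set (↥J ⧸ oddCore ↥J))
          have h3 : π ⟨x, hNJ hx⟩ = 1 := (hker _).2 (hO (mem_subgroupOf.2 hx))
          rw [h3]
          exact Subgroup.one_mem _
        · rw [closure_le]
          rintro x (rfl | rfl | hx)
          · exact ⟨⟨x, hiJ⟩, subset_closure (by simp), rfl⟩
          · exact ⟨⟨x, hjJ⟩, subset_closure (by simp), rfl⟩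
          · rw [Set.mem_singleton_iff] at hx
            subst hx
            exact ⟨⟨x, htJ⟩, subset_closure (by simp), rfl⟩
      rwa [← hJ] at h2
    rw [eq_top_iff]
    rintro y -
    obtain ⟨x, rfl⟩ := QuotientGroup.mk'_surjective (oddCore ↥J) y
    obtain ⟨x', hx', h2⟩ := h1 x.2
    have h3 : x' = x := Subtype.ext h2
    rw [← h3]
    exact hx'
  have hcard : Nat.card (↥J ⧸ oddCore ↥J) = 24 := by
    have h3 : Nat.card (↥J ⧸ oddCore ↥J) ≤ 24 := by
      have := (hrel.card_le ht3).2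
      rwa [hgen, card_top] at this
    have h4 : 8 ∣ Nat.card (↥J ⧸ oddCore ↥J) := by
      rw [← card_quaternion hrel.toQRel hi2]
      exact card_subgroup_dvd_card _
    have h5 : 3 ∣ Nat.card (↥J ⧸ oddCore ↥J) := by
      rw [← orderOf_eq_prime ht3 ht1]
      exact orderOf_dvd_natCard _
    have h7 : 24 ∣ Nat.card (↥J ⧸ oddCore ↥J) := by
      rw [show (24 : ℕ) = 8 * 3 from rfl]
      exact Nat.Coprime.mul_dvd_of_dvd_of_dvd (by norm_num) h4 h5
    exact le_antisymm h3 (Nat.le_of_dvd Nat.card_pos h7)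
  exact sl23_of_relations hrel ht3 hgen hcard

/-! ### automorphisms of `Q₈` -/

/-- `F r s` moves all axes -/
def Ax (r s : QEight.Q) : Prop :=
  ∀ y : QEight.Q, y * y = QuaternionGroup.a 2 → QEight.F r s y ≠ y ∧ QEight.F r s y ≠ y⁻¹

instance (r s : QEight.Q) : Decidable (Ax r s) := by unfold Ax; infer_instance

def C1 (p q r s y : QEight.Q) : Prop :=
  ∀ x, QEight.F p q (QEight.F r s x) = y * QEight.F r s (QEight.F p q x) * y⁻¹

instance (p q r s y : QEight.Q) : Decidable (C1 p q r s y) := by unfold C1; infer_instance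

def C2 (p q r s y : QEight.Q) : Prop :=
  ∀ x, QEight.F p q (QEight.F r s x) = y * QEight.F r s (QEight.F r s (QEight.F p q x)) * y⁻¹

instance (p q r s y : QEight.Q) : Decidable (C2 p q r s y) := by unfold C2; infer_instance

private noncomputable def _root_.Cfsg.Agent.LsF.f1a593b_0 : {f // @Cfsg.Agent.Cit.Nil.ROne.QEight.F = f} := ⟨_, by first | (delta Cfsg.Agent.Cit.Nil.ROne.QEight.F; rewrite [Cfsg.Agent.LsF.zval_eq]; (try delta Cfsg.Agent.Cit.Nil.ROne.QEight.F.match_1); (try delta QuaternionGroup.casesOn); exact rfl) | exact rfl⟩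
set_option maxRecDepth 100000 in
theorem key_aux : ∀ p q : QEight.Q, QEight.Ok p q → ∀ r s : QEight.Q, QEight.Ok r s → Ax r s →
    ∃ y : QEight.Q, C1 p q r s y ∨ C2 p q r s y := by
  (refine of_decide_eq_true ?_; (try (delta Cfsg.Agent.Cit.Nil.Comp.AO.Ax Cfsg.Agent.Cit.Nil.Comp.AO.C1 Cfsg.Agent.Cit.Nil.Comp.AO.C2 Cfsg.Agent.Cit.Nil.Comp.AO.instDecidableAx Cfsg.Agent.Cit.Nil.Comp.AO.instDecidableC1 Cfsg.Agent.Cit.Nil.Comp.AO.instDecidableC2 Cfsg.Agent.Cit.Nil.ROne.QEight.Ok Cfsg.Agent.Cit.Nil.ROne.QEight.instDecidableOk; rewrite [Cfsg.Agent.LsF.f1a593b_0.2, Cfsg.Agent.LsF.dForall_eq, Cfsg.Agent.LsF.dExists_eq, Cfsg.Agent.LsF.dAnd_eq, Cfsg.Agent.LsF.dOr_eq, Cfsg.Agent.LsF.dNot_eq, Cfsg.Agent.LsF.dAllP_eq, Cfsg.Agent.LsF.decide_eq])); decide +kernel)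

/-! ### the action of `C(z)` on `K z` -/

section act

variable {Z : Set G} {K : G → Subgroup G} {z u g c : G}

theorem conj_cen (h : W Z K) (hz : z ∈ Z) (hu : u * z = z * u) (hg : Cen K g z) : Cen K (u * g * u⁻¹) z := by
  intro k hk
  have h1 := hg _ (h.norm_mem' hz hu hk)
  calc u * g * u⁻¹ * k = u * (g * (u⁻¹ * k * u)) * u⁻¹ := by group
    _ = k * (u * g * u⁻¹) := by rw [h1]; group

theorem conj_rot [Finite G] (h : W Z K) (hz : z ∈ Z) (hu : u * z = z * u) (hc : c * z = z * c) (hodd : Odd (orderOf c))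
    (hn : ¬ Cen K c z) : ∃ y ∈ K z, ∃ w, Cen K w z ∧ (u * c * u⁻¹ = w * y * c ∨ u * c * u⁻¹ = w * y * (c * c)) := by
  have hax : Ax (h.rho hz c hc (QuaternionGroup.a 1)) (h.rho hz c hc (QuaternionGroup.xa 0)) := by
    intro y hyy
    obtain ⟨k, hk, rfl⟩ := h.exists_e hz y
    rw [← QEight.funF, h.rho_e hz hc hk]
    have hkk : k * k = z := by
      rw [← h.e_mul hz hk hk, ← h.e_z hz] at hyy
      exact h.e_inj hz _ _ hyy
    obtain ⟨h1, h2⟩ := h.axes hz hc hodd hn hk hkk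
    refine ⟨fun h3 => h1 (h.e_inj hz _ _ h3), fun h3 => h2 ?_⟩
    rw [← h.e_inv hz hk] at h3
    exact h.e_inj hz _ _ h3
  have key : ∀ {y d : G} (hy : y ∈ K z) (hd : d * z = z * d), (∀ x : QEight.Q, h.rho hz u hu (h.rho hz c hc x) =
      h.e hz ⟨y, hy⟩ * h.rho hz d hd (h.rho hz u hu x) * (h.e hz ⟨y, hy⟩)⁻¹) →
      ∃ w, Cen K w z ∧ u * c * u⁻¹ = w * y * d := by
    intro y d hy hd h3
    refine ⟨u * c * (y * d * u)⁻¹, ?_, by group⟩
    intro k hk
    have hyz : y * z = z * y := h.cent hz hy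
    have h4 : y * d * u * z = z * (y * d * u) := by
      calc y * d * u * z = y * d * (u * z) := by group
        _ = y * (d * z) * u := by rw [hu]; group
        _ = (y * z) * (d * u) := by rw [hd]; group
        _ = _ := by rw [hyz]; group
    have h5 : (y * d * u)⁻¹ * k * (y * d * u) ∈ K z := h.norm_mem' hz h4 hk
    set m := (y * d * u)⁻¹ * k * (y * d * u) with hm
    have h6 := h3 (h.e hz ⟨m, h5⟩)
    rw [h.rho_e hz hc h5, h.rho_e hz hu (h.norm_mem hz hc h5), h.rho_e hz hu h5,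
      h.rho_e hz hd (h.norm_mem hz hu h5), ← h.e_mul hz hy (h.norm_mem hz hd (h.norm_mem hz hu h5)),
      ← h.e_inv hz hy, ← h.e_mul hz (mul_mem hy (h.norm_mem hz hd (h.norm_mem hz hu h5))) (inv_mem hy)] at h6
    have h7 := h.e_inj hz _ _ h6
    have h8 : k = u * (c * m * c⁻¹) * u⁻¹ := by
      rw [h7, hm]; group
    calc u * c * (y * d * u)⁻¹ * k = u * c * m * (y * d * u)⁻¹ := by rw [hm]; group
      _ = (u * (c * m * c⁻¹) * u⁻¹) * (u * c * (y * d * u)⁻¹) := by group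
      _ = k * (u * c * (y * d * u)⁻¹) := by rw [← h8]
  obtain ⟨y', h1⟩ := key_aux _ _ (QEight.aut_ok (h.rho hz u hu)) _ _ (QEight.aut_ok (h.rho hz c hc)) hax
  obtain ⟨y, hy, rfl⟩ := h.exists_e hz y'
  rcases h1 with h1 | h1
  · obtain ⟨w, hw, h2⟩ := key hy hc (fun x => by
      have h2 := h1 x
      rwa [← QEight.funF, ← QEight.funF] at h2)
    exact ⟨y, hy, w, hw, Or.inl h2⟩
  · have hcc : (c * c) * z = z * (c * c) := by rw [mul_assoc, hc, ← mul_assoc, hc, mul_assoc]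
    obtain ⟨w, hw, h2⟩ := key hy hcc (fun x => by
      have h2 := h1 x
      rw [← QEight.funF, ← QEight.funF] at h2
      rw [h.rho_mul hz hc hc hcc]
      exact h2)
    exact ⟨y, hy, w, hw, Or.inr h2⟩

end act

/-- Frattini, for a 2-subgroup of maximal order of the normal subgroup `W₀` -/
theorem frat [Finite G] {W₀ Q : Subgroup G} (hQ : IsPGroup 2 Q) (hQW : Q ≤ W₀)
    (hmax : ∀ P : Subgroup G, IsPGroup 2 P → P ≤ W₀ → Nat.card P ≤ Nat.card Q) {c : G}
    (hc : ∀ x ∈ W₀, c * x * c⁻¹ ∈ W₀) : ∃ u ∈ W₀, ∀ p ∈ Q, u * c * p * (u * c)⁻¹ ∈ Q := by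
  haveI : Fact (Nat.Prime 2) := ⟨Nat.prime_two⟩
  have key : ∀ R : Subgroup G, IsPGroup 2 R → R ≤ W₀ → Nat.card R = Nat.card Q →
      ∃ P : Sylow 2 ↥W₀, ∀ x : ↥W₀, x ∈ (P : Subgroup ↥W₀) ↔ (x : G) ∈ R := by
    intro R hR hRW hcR
    obtain ⟨P, hP⟩ := (hR.comap_of_injective W₀.subtype (subtype_injective _)).exists_le_sylow
    have h1 : R ≤ (P : Subgroup ↥W₀).map W₀.subtype := fun x hx => ⟨⟨x, hRW hx⟩, hP hx, rfl⟩
    have h2 : IsPGroup 2 ((P : Subgroup ↥W₀).map W₀.subtype) := P.2.map _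
    have h3 := hmax _ h2 (map_subtype_le _)
    have h4 : R = (P : Subgroup ↥W₀).map W₀.subtype := eq_of_le_of_card_ge h1 (by rw [hcR]; exact h3)
    refine ⟨P, fun x => ⟨fun hx => ?_, fun hx => ?_⟩⟩
    · rw [h4]; exact ⟨x, hx, rfl⟩
    · rw [h4] at hx
      obtain ⟨y, hy, hyx⟩ := hx
      have : y = x := Subtype.ext hyx
      rw [← this]; exact hy
  obtain ⟨P₁, hP₁⟩ := key Q hQ hQW rfl
  obtain ⟨P₂, hP₂⟩ := key (cj c Q) (isPGroup_cj hQ) (by
    intro x hx
    rw [mem_cj] at hx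
    have := hc _ (hQW hx)
    have e : c * (c⁻¹ * x * c) * c⁻¹ = x := by group
    rwa [e] at this) (card_cj c Q)
  obtain ⟨g, hg⟩ := MulAction.exists_smul_eq ↥W₀ P₂ P₁
  refine ⟨g, g.2, fun p hp => ?_⟩
  have h1 : c * p * c⁻¹ ∈ W₀ := hc _ (hQW hp)
  have h2 : (⟨c * p * c⁻¹, h1⟩ : ↥W₀) ∈ (P₂ : Subgroup ↥W₀) := (hP₂ _).2 (conj_mem_cj hp)
  have h3 : g * ⟨c * p * c⁻¹, h1⟩ * g⁻¹ ∈ (P₁ : Subgroup ↥W₀) := by
    rw [← hg, Sylow.coe_subgroup_smul, mem_pointwise_smul_iff_inv_smul_mem]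
    show (MulAut.conj g)⁻¹ (g * ⟨c * p * c⁻¹, h1⟩ * g⁻¹) ∈ _
    rw [← map_inv, MulAut.conj_apply]
    have e : g⁻¹ * (g * ⟨c * p * c⁻¹, h1⟩ * g⁻¹) * g⁻¹⁻¹ = ⟨c * p * c⁻¹, h1⟩ := by group
    rw [e]
    exact h2
  have h4 := (hP₁ _).1 h3
  have e : (g : G) * c * p * ((g : G) * c)⁻¹ = ((g * ⟨c * p * c⁻¹, h1⟩ * g⁻¹ : ↥W₀) : G) := by
    show _ = (g : G) * (c * p * c⁻¹) * (g : G)⁻¹
    group
  rw [e]
  exact h4

/-! ### (P3) -/

/-- the hypotheses of (P3): `le8`, `rt` are `card_le`, `rot_two` of (P1) -/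
structure Hq (Z : Set G) (K : G → Subgroup G) (z : G) : Prop where
  w : W Z K
  hz : z ∈ Z
  le8 : ∀ P : Subgroup G, IsPGroup 2 P → (∀ p ∈ P, Cen K p z) → Nat.card P ≤ 8
  rt : ∀ (P : Subgroup G) (g : G), IsPGroup 2 P → (∀ p ∈ P, Cen K p z) → g * z = z * g → Odd (orderOf g) →
    (∀ p ∈ P, g * p * g⁻¹ ∈ P) → (∃ p ∈ P, g * p ≠ p * g) →
    Nat.card P = 8 ∧ ∃ r ∈ P, ∃ v ∈ K z, v * v = z ∧ r * r = z ∧ v * r ∈ Z ∧
      (g * r * g⁻¹) * r = z * (r * (g * r * g⁻¹))
  rot : ∃ c : G, c * z = z * c ∧ Odd (orderOf c) ∧ ¬ Cen K c z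
  hq : ∀ t ∈ Z, ∀ t' ∈ Z, t ≠ z → t' ≠ z → t * z = z * t → t' * z = z * t' → t * t' = t' * t → t' = t ∨ t' = z * t

section main

variable {Z : Set G} {K : G → Subgroup G} {z u g c h : G}

/-- different axes -/
theorem anti (w : W Z K) (hz : z ∈ Z) {v v' : G} (hv : v ∈ K z) (hv' : v' ∈ K z) (hvv : v * v = z) (hvv' : v' * v' = z)
    (h1 : v' ≠ v) (h2 : v' ≠ v⁻¹) : v' * v = z * (v * v') := by
  have h3 := w.inv_of_ne hz hv' hvv' hv hvv h1.symm (fun h4 => h2 (by rw [h4, inv_inv]))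
  have h5 : v⁻¹ = z * v := by
    rw [inv_eq_iff_mul_eq_one, ← mul_assoc, w.cent hz hv, mul_assoc, hvv, w.sq z hz]
  rw [h5, mul_inv_eq_iff_eq_mul] at h3
  rw [h3, mul_assoc]

theorem mem_of_cen_cases (w : W Z K) (hz : z ∈ Z) {k : G} (hk : k ∈ K z) (hc : Cen K k z) : k = 1 ∨ k = z := by
  by_contra hcon
  push Not at hcon
  have hkk := w.sq_eq hz hk hcon.1 hcon.2
  obtain ⟨i, hi, j, hj, hii, hjj, hji, hcov⟩ := w.exists_ij hz
  have hij : i * j ≠ j * i := by
    intro h1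
    apply w.ne z hz
    rw [← h1] at hji
    exact (right_eq_mul.1 hji)
  by_cases h1 : i = k ∨ i = k⁻¹
  · apply hij
    have h2 := hc j hj
    rcases h1 with rfl | rfl
    · exact h2
    · rw [inv_mul_eq_iff_eq_mul, ← mul_assoc, h2, mul_inv_cancel_right]
  · push Not at h1
    have h2 := anti w hz hk hi hkk hii h1.1 h1.2
    rw [hc i hi] at h2
    exact w.ne z hz (right_eq_mul.1 h2)

namespace Hq

variable [Finite G] (x : Hq Z K z)

include x

/-- (*) -/
theorem star {Q : Subgroup G} (hQ : IsPGroup 2 Q) (hQc : ∀ p ∈ Q, Cen K p z) (hh : h * z = z * h) (ho : Odd (orderOf h))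
    (hn : ∀ p ∈ Q, h * p * h⁻¹ ∈ Q) (hne : ∃ p ∈ Q, h * p ≠ p * h) (hK : ¬ Cen K h z) : False := by
  obtain ⟨-, r, hr, v, hv, hvv, hrr, hvr, hrel⟩ := x.rt Q h hQ hQc hh ho hn hne
  have hz := x.hz
  set v' := h * v * h⁻¹ with hv'
  set r' := h * r * h⁻¹ with hr'
  have hv'K : v' ∈ K z := x.w.norm_mem hz hh hv
  have hr'Q : r' ∈ Q := hn r hr
  have hvv' : v' * v' = z := by
    rw [hv', show h * v * h⁻¹ * (h * v * h⁻¹) = h * (v * v) * h⁻¹ by group, hvv, hh, mul_inv_cancel_right]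
  obtain ⟨h1, h2⟩ := x.w.axes hz hh ho hK hv hvv
  have h3 : v' * v = z * (v * v') := anti x.w hz hv hv'K hvv hvv' h1 h2
  have hrv : ∀ {a b : G}, a ∈ Q → b ∈ K z → a * b = b * a := fun ha hb => hQc _ ha _ hb
  have hvz : v * z = z * v := x.w.cent hz hv
  have hv'z : v' * z = z * v' := x.w.cent hz hv'K
  have hrz : r * z = z * r := hrv hr (x.w.mem z hz)
  have hr'z : r' * z = z * r' := hrv hr'Q (x.w.mem z hz)
  have hzz : z * z = 1 := x.w.sq z hz
  have ht' : v' * r' ∈ Z := by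
    have h4 := x.w.conjZ _ hvr h
    have e : h * (v * r) * h⁻¹ = v' * r' := by rw [hv', hr']; group
    rwa [e] at h4
  have hinter : ∀ {a : G}, a ∈ Q → a ∈ K z → a = 1 ∨ a = z := fun ha hb => mem_of_cen_cases x.w hz hb (hQc _ ha)
  have hnz : ∀ {a b : G}, a ∈ K z → a * a = z → b ∈ Q → b * b = z → a * b ≠ z := by
    intro a b ha haa hb hbb hab
    have h4 : b = a⁻¹ * z := by rw [← hab]; group
    have h5 : b ∈ K z := by rw [h4]; exact mul_mem (inv_mem ha) (x.w.mem z hz)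
    rcases hinter hb h5 with h6 | h6
    · rw [h6, one_mul] at hbb; exact x.w.ne z hz hbb.symm
    · rw [h6, hzz] at hbb; exact x.w.ne z hz hbb.symm
  have hrr' : r' * r' = z := by
    rw [hr', show h * r * h⁻¹ * (h * r * h⁻¹) = h * (r * r) * h⁻¹ by group, hrr, hh, mul_inv_cancel_right]
  have hcomm : (v * r) * (v' * r') = (v' * r') * (v * r) := by
    have e1 : (v * r) * (v' * r') = (v * v') * (r * r') := by
      calc (v * r) * (v' * r') = v * (r * v') * r' := by group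
        _ = (v * v') * (r * r') := by rw [hrv hr hv'K]; group
    have e2 : (v' * r') * (v * r) = (v' * v) * (r' * r) := by
      calc (v' * r') * (v * r) = v' * (r' * v) * r := by group
        _ = (v' * v) * (r' * r) := by rw [hrv hr'Q hv]; group
    rw [e1, e2, h3, hrel]
    have hvz2 : (v * v') * z = z * (v * v') := by rw [mul_assoc, hv'z, ← mul_assoc, hvz, mul_assoc]
    calc v * v' * (r * r') = (z * z) * (v * v') * (r * r') := by rw [hzz, one_mul]
      _ = z * (z * (v * v')) * (r * r') := by rw [mul_assoc z z]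
      _ = z * ((v * v') * z) * (r * r') := by rw [hvz2]
      _ = z * (v * v') * (z * (r * r')) := by group
  rcases x.hq _ hvr _ ht' (hnz hv hvv hr hrr) (hnz hv'K hvv' hr'Q hrr')
    (by rw [mul_assoc, hrz, ← mul_assoc, hvz, mul_assoc]) (by rw [mul_assoc, hr'z, ← mul_assoc, hv'z, mul_assoc]) hcomm
    with h4 | h4
  · have h5 : v⁻¹ * v' = r * r'⁻¹ := by
      rw [inv_mul_eq_iff_eq_mul, ← mul_assoc, eq_mul_inv_iff_mul_eq, h4]
    rcases hinter (mul_mem hr (inv_mem hr'Q)) (by rw [← h5]; exact mul_mem (inv_mem hv) hv'K) with h6 | h6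
    · rw [← h5, inv_mul_eq_one] at h6
      exact h1 (show v' = v from h6.symm)
    · rw [← h5, inv_mul_eq_iff_eq_mul] at h6
      apply h2
      show v' = v⁻¹
      rw [h6, eq_comm, inv_eq_iff_mul_eq_one, ← mul_assoc, hvv, hzz]
  · have h5 : v⁻¹ * v' = z * (r * r'⁻¹) := by
      rw [inv_mul_eq_iff_eq_mul, ← mul_assoc, ← mul_assoc, eq_mul_inv_iff_mul_eq, h4, hvz]; group
    have h7 : z ∈ Q := by rw [← hrr]; exact mul_mem hr hr
    rcases hinter (mul_mem h7 (mul_mem hr (inv_mem hr'Q))) (by rw [← h5]; exact mul_mem (inv_mem hv) hv'K) with h6 | h6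
    · rw [← h5, inv_mul_eq_one] at h6
      exact h1 (show v' = v from h6.symm)
    · rw [← h5, inv_mul_eq_iff_eq_mul] at h6
      apply h2
      show v' = v⁻¹
      rw [h6, eq_comm, inv_eq_iff_mul_eq_one, ← mul_assoc, hvv, hzz]

theorem cent_z {g : G} (hg : Cen K g z) : g * z = z * g := hg z (x.w.mem z x.hz)

/-- transfer of the rotation of `K z` to an element normalising `Q` -/
theorem exists_rot {Q : Subgroup G} (hQ : IsPGroup 2 Q) (hQc : ∀ p ∈ Q, Cen K p z)
    (hmax : ∀ P : Subgroup G, IsPGroup 2 P → (∀ p ∈ P, Cen K p z) → Nat.card P ≤ Nat.card Q) :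
    ∃ n : G, n * z = z * n ∧ Odd (orderOf n) ∧ (∀ p ∈ Q, n * p * n⁻¹ ∈ Q) ∧ ¬ Cen K n z := by
  obtain ⟨c, hc, ho, hn⟩ := x.rot
  have hz := x.hz
  have hmem : ∀ {g : G}, g ∈ centralizer (K z : Set G) ↔ Cen K g z := fun {g} => by
    rw [mem_centralizer_iff]
    exact ⟨fun h1 k hk => (h1 k hk).symm, fun h1 k hk => (h1 k hk).symm⟩
  obtain ⟨u, hu, huQ⟩ := frat (c := c) hQ (fun p hp => hmem.2 (hQc p hp))
    (fun P hP hPW => hmax P hP fun p hp => hmem.1 (hPW hp))
    (fun g hg => hmem.2 (conj_cen x.w hz hc (hmem.1 hg)))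
  rw [hmem] at hu
  have hucz : (u * c) * z = z * (u * c) := by
    rw [mul_assoc, hc, ← mul_assoc, x.cent_z hu, mul_assoc]
  have hpow : ∀ m : ℕ, (u * c) ^ m * z = z * (u * c) ^ m := fun m =>
    ((show Commute (u * c) z from hucz).pow_left m).eq
  have hpowQ : ∀ m : ℕ, ∀ p ∈ Q, (u * c) ^ m * p * ((u * c) ^ m)⁻¹ ∈ Q := pow_conj_mem huQ
  obtain ⟨k, hk⟩ := exists_odd_pow (u * c)
  refine ⟨(u * c) ^ 2 ^ k, hpow _, hk, hpowQ _, fun hcen => ?_⟩
  have h1 : ∃ y ∈ K z, c * y ≠ y * c := by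
    by_contra hcon
    push Not at hcon
    exact hn hcon
  obtain ⟨y, hy, hne⟩ := exists_of_same (a := u * c) (b := c) ho (fun y hy => x.w.norm_mem hz hc hy)
    (fun y hy => by
      have h2 := hu _ (x.w.norm_mem hz hc hy)
      calc u * c * y * (u * c)⁻¹ = (u * (c * y * c⁻¹)) * u⁻¹ := by group
        _ = c * y * c⁻¹ := by rw [h2, mul_inv_cancel_right]) h1 k
  exact hne (hcen y hy)

/-- (i) : the odd elements of `C(K z)` act trivially on 2-subgroups of `C(K z)` -/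
theorem comm_of_norm {Q : Subgroup G} (hQ : IsPGroup 2 Q) (hQc : ∀ p ∈ Q, Cen K p z) (hg : Cen K g z)
    (ho : Odd (orderOf g)) (hgQ : ∀ p ∈ Q, g * p * g⁻¹ ∈ Q) : ∀ p ∈ Q, g * p = p * g := by
  by_contra hcon
  push Not at hcon
  have h8 := (x.rt Q g hQ hQc (x.cent_z hg) ho hgQ hcon).1
  obtain ⟨n, hnz, hno, hnQ, hnK⟩ := x.exists_rot hQ hQc (fun P hP hPc => by rw [h8]; exact x.le8 P hP hPc)
  by_cases h1 : ∃ p ∈ Q, n * p ≠ p * n
  · exact x.star hQ hQc hnz hno hnQ h1 hnK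
  push Not at h1
  have hpowQ : ∀ m : ℕ, ∀ p ∈ Q, (g * n) ^ m * p * ((g * n) ^ m)⁻¹ ∈ Q := pow_conj_mem fun p hp => by
    have e1 : g * n * p * (g * n)⁻¹ = g * (n * p * n⁻¹) * g⁻¹ := by group
    rw [e1]
    exact hgQ _ (hnQ _ hp)
  have hgnz : (g * n) * z = z * (g * n) := by
    rw [mul_assoc, hnz, ← mul_assoc, x.cent_z hg, mul_assoc]
  obtain ⟨k, hk⟩ := exists_odd_pow (g * n)
  refine x.star hQ hQc (h := (g * n) ^ 2 ^ k) ((show Commute (g * n) z from hgnz).pow_left _).eq hk (hpowQ _) ?_ ?_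
  · exact exists_of_same (a := g * n) (b := g) ho hgQ (fun p hp => by
      have h2 := h1 p hp
      calc g * n * p * (g * n)⁻¹ = g * (n * p * n⁻¹) * g⁻¹ := by group
        _ = g * p * g⁻¹ := by rw [h2, mul_inv_cancel_right]) hcon k
  · intro hcen
    have h3 : ∃ y ∈ K z, n * y ≠ y * n := by
      by_contra h4
      push Not at h4
      exact hnK h4
    obtain ⟨y, hy, hne⟩ := exists_of_same (a := g * n) (b := n) hno (fun y hy => x.w.norm_mem x.hz hnz hy)
      (fun y hy => by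
        have h2 := hg _ (x.w.norm_mem x.hz hnz hy)
        calc g * n * y * (g * n)⁻¹ = (g * (n * y * n⁻¹)) * g⁻¹ := by group
          _ = n * y * n⁻¹ := by rw [h2, mul_inv_cancel_right]) h3 k
    exact hne (hcen y hy)

theorem mem_W {g : G} : g ∈ centralizer (K z : Set G) ↔ Cen K g z := by
  rw [mem_centralizer_iff]
  exact ⟨fun h1 k hk => (h1 k hk).symm, fun h1 k hk => (h1 k hk).symm⟩

/-- (i) : the normal 2-complement of `C(K z)` -/
theorem exists_compl : ∃ N P : Subgroup G, IsPGroup 2 P ∧ (∀ p ∈ P, Cen K p z) ∧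
    (∀ g, g ∈ N ↔ Cen K g z ∧ Odd (orderOf g)) ∧ Odd (Nat.card N) ∧ (∀ g, Cen K g z → ∃ n ∈ N, ∃ p ∈ P, g = n * p) ∧
    (∀ P' : Subgroup G, IsPGroup 2 P' → (∀ p ∈ P', Cen K p z) → Nat.card P' ≤ Nat.card P) := by
  haveI : Fact (Nat.Prime 2) := ⟨Nat.prime_two⟩
  obtain ⟨W₀, hW₀⟩ : ∃ W₀ : Subgroup G, W₀ = centralizer (K z : Set G) := ⟨_, rfl⟩
  have hmem : ∀ {g : G}, g ∈ W₀ ↔ Cen K g z := fun {g} => by rw [hW₀]; exact x.mem_W
  obtain ⟨P₀⟩ : Nonempty (Sylow 2 ↥W₀) := inferInstance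
  obtain ⟨N₀, hN₀, hcompl⟩ := (S0071.result P₀).2 (by
    intro Q hQ g hg ho
    rw [mem_centralizer_iff]
    intro q hq
    have h1 : IsPGroup 2 (Q.map W₀.subtype) := (P₀.2.to_le hQ).map _
    have h2 := x.comm_of_norm (g := (g : G)) h1 (by
      rintro _ ⟨p, -, rfl⟩
      exact hmem.1 p.2) (hmem.1 g.2) (by
        rw [Subgroup.orderOf_coe]
        exact Nat.coprime_two_right.1 ho) (by
        rintro _ ⟨p, hp, rfl⟩
        exact ⟨g * p * g⁻¹, (mem_normalizer_iff.1 hg p).1 hp, rfl⟩) q ⟨q, hq, rfl⟩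
    exact Subtype.ext h2.symm)
  have hodd : Odd (Nat.card N₀) := by
    rw [← hcompl.index_eq_card, ← Nat.not_even_iff_odd, even_iff_two_dvd]
    exact P₀.not_dvd_index
  obtain ⟨k, hk⟩ : ∃ k, N₀.index = 2 ^ k := by
    rw [hcompl.symm.index_eq_card]
    exact IsPGroup.iff_card.1 P₀.2
  refine ⟨N₀.map W₀.subtype, (P₀ : Subgroup ↥W₀).map W₀.subtype, P₀.2.map _, ?_, ?_, ?_, ?_, ?_⟩
  · rintro _ ⟨p, -, rfl⟩
    exact hmem.1 p.2
  · intro g
    constructor
    · rintro ⟨n, hn, rfl⟩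
      refine ⟨hmem.1 n.2, ?_⟩
      rw [show (W₀.subtype n : G) = (n : G) from rfl, Subgroup.orderOf_coe]
      refine Odd.of_dvd_nat hodd ?_
      rw [show orderOf n = orderOf (⟨n, hn⟩ : ↥N₀) from (Subgroup.orderOf_mk n hn).symm]
      exact orderOf_dvd_natCard _
    · rintro ⟨hg, ho⟩
      refine ⟨⟨g, hmem.2 hg⟩, ?_, rfl⟩
      have h1 : (⟨g, hmem.2 hg⟩ : ↥W₀) ^ 2 ^ k ∈ N₀ := by
        rw [← hk]; exact Subgroup.pow_index_mem N₀ _
      have h2 : Nat.Coprime (2 ^ k) (orderOf (⟨g, hmem.2 hg⟩ : ↥W₀)) := by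
        rw [Subgroup.orderOf_mk]
        exact (Nat.coprime_two_left.2 ho).pow_left k
      obtain ⟨m, hm⟩ := exists_pow_eq_self_of_coprime h2
      show (⟨g, hmem.2 hg⟩ : ↥W₀) ∈ N₀
      rw [← hm]
      exact pow_mem h1 m
  · rw [card_map_of_injective (subtype_injective _)]
    exact hodd
  · intro g hg
    have h1 : (⟨g, hmem.2 hg⟩ : ↥W₀) ∈ N₀ ⊔ (P₀ : Subgroup ↥W₀) := by
      rw [hcompl.sup_eq_top]; exact mem_top _
    obtain ⟨n, hn, p, hp, h2⟩ := mem_sup_of_normal_left.1 h1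
    exact ⟨n, ⟨n, hn, rfl⟩, p, ⟨p, hp, rfl⟩, (congrArg Subtype.val h2).symm⟩
  · intro P' hP' hPc
    obtain ⟨P₁, hP₁⟩ := (hP'.comap_of_injective W₀.subtype (subtype_injective _)).exists_le_sylow
    rw [card_map_of_injective (subtype_injective _), Nat.card_congr (Sylow.equiv P₀ P₁).toEquiv]
    have h1 : P' ≤ (P₁ : Subgroup ↥W₀).map W₀.subtype := fun y hy => ⟨⟨y, hmem.2 (hPc y hy)⟩, hP₁ hy, rfl⟩
    have h2 := Subgroup.card_le_of_le h1
    rwa [card_map_of_injective (subtype_injective _)] at h2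

omit x in
/-- three axes -/
theorem third (w : W Z K) (hz : z ∈ Z) {p q r : G} (hp : p ∈ K z) (hq : q ∈ K z) (hr : r ∈ K z) (hpp : p * p = z)
    (hqq : q * q = z) (hrr : r * r = z) (h1 : q ≠ p) (h2 : q ≠ p⁻¹) (h3 : r ≠ p) (h4 : r ≠ p⁻¹) (h5 : r ≠ q)
    (h6 : r ≠ q⁻¹) : r = p * q ∨ r = q * p := by
  have key : ∀ p q r : QEight.Q, p * p = QuaternionGroup.a 2 → q * q = QuaternionGroup.a 2 →
      r * r = QuaternionGroup.a 2 → q ≠ p → q ≠ p⁻¹ → r ≠ p → r ≠ p⁻¹ → r ≠ q → r ≠ q⁻¹ → r = p * q ∨ r = q * p := by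
    decide +kernel
  have hsq : ∀ {y : G} (hy : y ∈ K z), y * y = z → w.e hz ⟨y, hy⟩ * w.e hz ⟨y, hy⟩ = QuaternionGroup.a 2 := by
    intro y hy h4
    rw [← w.e_mul hz hy hy, ← w.e_z hz]
    exact congrArg (w.e hz) (Subtype.ext h4)
  have hne : ∀ {a b : G} (ha : a ∈ K z) (hb : b ∈ K z), a ≠ b → w.e hz ⟨a, ha⟩ ≠ w.e hz ⟨b, hb⟩ :=
    fun ha hb hab h => hab (w.e_inj hz _ _ h)
  have hne' : ∀ {a b : G} (ha : a ∈ K z) (hb : b ∈ K z), a ≠ b⁻¹ → w.e hz ⟨a, ha⟩ ≠ (w.e hz ⟨b, hb⟩)⁻¹ := by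
    intro a b ha hb hab h
    rw [← w.e_inv hz hb] at h
    exact hab (w.e_inj hz _ _ h)
  rcases key _ _ _ (hsq hp hpp) (hsq hq hqq) (hsq hr hrr) (hne hq hp h1) (hne' hq hp h2) (hne hr hp h3)
    (hne' hr hp h4) (hne hr hq h5) (hne' hr hq h6) with h | h
  · left; rw [← w.e_mul hz hp hq] at h; exact w.e_inj hz _ _ h
  · right; rw [← w.e_mul hz hq hp] at h; exact w.e_inj hz _ _ h

omit x in
/-- generators of `K z` permuted by `c` -/
theorem exists_rel (w : W Z K) (hz : z ∈ Z) (hc : c * z = z * c) (ho : Odd (orderOf c)) (hn : ¬ Cen K c z) :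
    ∃ i ∈ K z, ∃ j ∈ K z, i * i = z ∧ j * j = z ∧ SLRel i j c ∧ closure {i, j} = K z := by
  obtain ⟨p, hp, -, -, hpp, -⟩ := w.exists_ij hz
  obtain ⟨q, hq⟩ : ∃ q, q = c * p * c⁻¹ := ⟨_, rfl⟩
  obtain ⟨r, hr⟩ : ∃ r, r = c * q * c⁻¹ := ⟨_, rfl⟩
  have hcc : (c * c) * z = z * (c * c) := by rw [mul_assoc, hc, ← mul_assoc, hc, mul_assoc]
  have hoc : Odd (orderOf (c * c)) := by
    rw [← pow_two]
    exact Odd.of_dvd_nat ho (orderOf_pow_dvd 2)
  have hnc : ¬ Cen K (c * c) z := by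
    intro h1
    apply hn
    exact fun k hk => comm_of_sq ho (h1 k hk)
  have hqK : q ∈ K z := by rw [hq]; exact w.norm_mem hz hc hp
  have hrK : r ∈ K z := by rw [hr]; exact w.norm_mem hz hc hqK
  have hsq : ∀ {a : G}, a * a = z → (c * a * c⁻¹) * (c * a * c⁻¹) = z := by
    intro a ha
    rw [show c * a * c⁻¹ * (c * a * c⁻¹) = c * (a * a) * c⁻¹ by group, ha, hc, mul_inv_cancel_right]
  have hqq : q * q = z := by rw [hq]; exact hsq hpp
  have hrr : r * r = z := by rw [hr]; exact hsq hqq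
  obtain ⟨h1, h2⟩ := w.axes hz hc ho hn hp hpp
  obtain ⟨h3, h4⟩ := w.axes hz hc ho hn hqK hqq
  obtain ⟨h5, h6⟩ := w.axes hz hcc hoc hnc hp hpp
  have e : c * c * p * (c * c)⁻¹ = r := by rw [hr, hq]; group
  rw [e] at h5 h6
  rw [← hq] at h1 h2
  rw [← hr] at h3 h4
  have main : ∀ {i j : G}, i ∈ K z → j ∈ K z → i * i = z → j * j = z → j ≠ i → j ≠ i⁻¹ → c * i * c⁻¹ = j →
      c * j * c⁻¹ = i * j → ∃ i ∈ K z, ∃ j ∈ K z, i * i = z ∧ j * j = z ∧ SLRel i j c ∧ closure {i, j} = K z := by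
    intro i j hi hj hii hjj hji hji' h7 h8
    have hrel : SLRel i j c := by
      refine ⟨⟨?_, by rw [pow_two, pow_two, hii, hjj], ?_⟩, h7, h8⟩
      · rw [show 4 = 2 * 2 from rfl, pow_mul, pow_two i, hii, pow_two, w.sq z hz]
      · exact w.inv_of_ne hz hj hjj hi hii hji.symm (fun h9 => hji' (by rw [h9, inv_inv]))
    refine ⟨i, hi, j, hj, hii, hjj, hrel, ?_⟩
    refine eq_of_le_of_card_ge ?_ ?_
    · rw [closure_le]
      rintro y (rfl | hy)
      · exact hi
      · rw [Set.mem_singleton_iff] at hy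
        subst hy
        exact hj
    · rw [card_quaternion hrel.toQRel (by rw [pow_two, hii]; exact w.ne z hz), w.card8 hz]
  rcases third w hz hp hqK hrK hpp hqq hrr h1 h2 h5 h6 h3 h4 with h7 | h7
  · exact main hp hqK hpp hqq h1 h2 hq.symm (by rw [← hr, h7])
  · have hinv : ∀ {a : G}, a * a = z → a⁻¹ * a⁻¹ = z := by
      intro a ha
      rw [← mul_inv_rev, ha, w.inv hz]
    refine main (inv_mem hp) (inv_mem hqK) (hinv hpp) (hinv hqq) (fun h8 => h1 (inv_injective h8))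
      (fun h8 => h2 (by rw [← inv_inv q, h8, inv_inv])) (by rw [hq]; group) ?_
    rw [show c * q⁻¹ * c⁻¹ = (c * q * c⁻¹)⁻¹ by group, ← hr, h7, mul_inv_rev]

/-- **(P3)** -/
theorem three : IndDefs.Three (K z) := by
  have hz := x.hz
  have w := x.w
  obtain ⟨N, P, hP, hPc, hN, hNo, hdec, hmax⟩ := x.exists_compl
  obtain ⟨c, hcz, hco, hcP, hcK⟩ := x.exists_rot hP hPc hmax
  have hcc : ∀ p ∈ P, c * p = p * c := by
    by_contra hcon
    push Not at hcon
    exact x.star hP hPc hcz hco hcP hcon hcK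
  obtain ⟨i, hi, j, hj, hii, hjj, hrel, hcl⟩ := exists_rel w hz hcz hco hcK
  have hzK := w.mem z hz
  have hNz : ∀ {u g : G}, u * z = z * u → g ∈ N → u * g * u⁻¹ ∈ N := by
    intro u g hu hg
    rw [hN] at hg ⊢
    refine ⟨conj_cen w hz hu hg.1, ?_⟩
    rw [show u * g * u⁻¹ = MulAut.conj u g from rfl, MulEquiv.orderOf_eq]
    exact hg.2
  obtain ⟨C, hC⟩ : ∃ C : Subgroup G, C = centralizer {z} := ⟨_, rfl⟩
  have hCm : ∀ {g : G}, g ∈ C ↔ g * z = z * g := fun {g} => by rw [hC]; exact mem_centralizer_singleton_iff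
  have hCN : C ≤ normalizer (N : Set G) := by
    intro u hu
    rw [mem_normalizer_iff]
    rw [hCm] at hu
    intro g
    refine ⟨fun hg => hNz hu hg, fun hg => ?_⟩
    have hu' : u⁻¹ * z = z * u⁻¹ := by rw [inv_mul_eq_iff_eq_mul, ← mul_assoc, hu, mul_inv_cancel_right]
    have h1 := hNz hu' hg
    have e : u⁻¹ * (u * g * u⁻¹) * u⁻¹⁻¹ = g := by group
    rwa [e] at h1
  obtain ⟨J, hJ⟩ : ∃ J : Subgroup G, J = N ⊔ closure {i, j, c} := ⟨_, rfl⟩
  have hNJ : N ≤ J := by rw [hJ]; exact le_sup_left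
  have hcJ : closure {i, j, c} ≤ J := by rw [hJ]; exact le_sup_right
  have hcJ' : c ∈ J := hcJ (subset_closure (by simp))
  have hKJ : K z ≤ J := by
    rw [← hcl]
    refine le_trans (closure_mono ?_) hcJ
    intro y hy
    rcases hy with rfl | hy
    · simp
    · rw [Set.mem_singleton_iff] at hy; subst hy; simp
  have hNC : N ≤ C := fun g hg => hCm.2 (x.cent_z ((hN g).1 hg).1)
  have hKC : K z ≤ C := by rw [hC]; exact w.K_le hz
  have hJC : J ≤ C := by
    rw [hJ]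
    refine sup_le hNC ?_
    rw [closure_le]
    rintro y (rfl | rfl | hy)
    · exact hKC hi
    · exact hKC hj
    · rw [Set.mem_singleton_iff] at hy
      subst hy
      exact hCm.2 hcz
  have hc3 : c ^ 3 ∈ N := by
    rw [hN]
    refine ⟨?_, Odd.of_dvd_nat hco (orderOf_pow_dvd 3)⟩
    have hij : i * j ∈ K z := mul_mem hi hj
    have e1 : c * i = j * c := by rw [← mul_inv_eq_iff_eq_mul]; exact hrel.hti
    have e2 : c * j = i * j * c := by rw [← mul_inv_eq_iff_eq_mul]; exact hrel.htj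
    have e4 : j * i = i⁻¹ * j := by rw [← mul_inv_eq_iff_eq_mul]; exact hrel.hji
    have e3 : j * (i * j) = i := by
      rw [← mul_assoc, e4, mul_assoc, hjj, ← hii]; group
    have f1 : c ^ 3 * i = i * c ^ 3 := by
      calc c ^ 3 * i = c * (c * (c * i)) := by rw [pow_succ, pow_two]; group
        _ = c * ((c * j) * c) := by rw [e1]; group
        _ = (c * i) * j * c * c := by rw [e2]; group
        _ = j * (c * j) * c * c := by rw [e1]; group
        _ = (j * (i * j)) * (c * c * c) := by rw [e2]; group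
        _ = i * c ^ 3 := by rw [e3, pow_succ, pow_two]
    have f2 : c ^ 3 * j = j * c ^ 3 := by
      calc c ^ 3 * j = c * (c * (c * j)) := by rw [pow_succ, pow_two]; group
        _ = c * ((c * i) * j * c) := by rw [e2]; group
        _ = c * (j * (c * j) * c) := by rw [e1]; group
        _ = c * ((j * (i * j)) * (c * c)) := by rw [e2]; group
        _ = (c * i) * (c * c) := by rw [e3]; group
        _ = j * c ^ 3 := by rw [e1, pow_succ, pow_two]; group
    intro k hk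
    rw [← hcl] at hk
    have h1 : closure {i, j} ≤ centralizer {c ^ 3} := by
      rw [closure_le]
      rintro y (rfl | hy)
      · exact mem_centralizer_singleton_iff.2 f1.symm
      · rw [Set.mem_singleton_iff] at hy
        subst hy
        exact mem_centralizer_singleton_iff.2 f2.symm
    exact (mem_centralizer_singleton_iff.1 (h1 hk)).symm
  have hWJ : ∀ {u : G}, Cen K u z → u ∈ normalizer (J : Set G) := by
    have hPJ : ∀ p ∈ P, p ∈ normalizer (J : Set G) := by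
      intro p hp
      rw [mem_normalizer_iff_cj]
      refine eq_of_le_of_card_ge ?_ (by rw [card_cj])
      have h1 : J ≤ J.comap (MulAut.conj p).toMonoidHom := by
        conv_lhs => rw [hJ]
        have hpz := x.cent_z (hPc p hp)
        refine sup_le (fun g hg => hNJ (hNz hpz hg)) ?_
        rw [closure_le]
        have h2 : ∀ {y : G}, y ∈ J → p * y = y * p → y ∈ J.comap (MulAut.conj p).toMonoidHom := by
          intro y hy hpy
          show p * y * p⁻¹ ∈ J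
          rw [hpy, mul_inv_cancel_right]
          exact hy
        rintro y (rfl | rfl | hy)
        · exact h2 (hKJ hi) (hPc p hp _ hi)
        · exact h2 (hKJ hj) (hPc p hp _ hj)
        · rw [Set.mem_singleton_iff] at hy
          subst hy
          exact h2 hcJ' (hcc p hp).symm
      rw [cj_def, map_le_iff_le_comap]
      exact h1
    intro u hu
    obtain ⟨n, hn, p, hp, rfl⟩ := hdec u hu
    exact mul_mem (le_normalizer (hNJ hn)) (hPJ p hp)
  -- the subgroup `C(K z) K_z ⟨c⟩`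
  obtain ⟨U, hU⟩ : ∃ U : Subgroup G, U = centralizer (K z : Set G) ⊔ J := ⟨_, rfl⟩
  have hJU : J ≤ U := by rw [hU]; exact le_sup_right
  have hWU : ∀ {g : G}, Cen K g z → g ∈ U := fun {g} hg => by
    rw [hU]; exact le_sup_left (a := centralizer (K z : Set G)) (x.mem_W.2 hg)
  have hUn : ∀ m ∈ U, m ∈ normalizer (J : Set G) := by
    have h1 : U ≤ normalizer (J : Set G) := by
      rw [hU]
      exact sup_le (fun g hg => hWJ (x.mem_W.1 hg)) le_normalizer
    exact fun m hm => h1 hm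
  have hUC : ∀ u ∈ C, ∀ g ∈ U, u * g * u⁻¹ ∈ U := by
    intro u hu
    rw [hCm] at hu
    have h1 : U ≤ U.comap (MulAut.conj u).toMonoidHom := by
      conv_lhs => rw [hU, hJ]
      refine sup_le (fun g hg => hWU (conj_cen w hz hu (x.mem_W.1 hg))) (sup_le (fun g hg => hJU (hNJ (hNz hu hg))) ?_)
      rw [closure_le]
      rintro y (rfl | rfl | hy)
      · exact hJU (hKJ (w.norm_mem hz hu hi))
      · exact hJU (hKJ (w.norm_mem hz hu hj))
      · rw [Set.mem_singleton_iff] at hy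
        subst hy
        show u * y * u⁻¹ ∈ U
        obtain ⟨k, hk, v, hv, h2 | h2⟩ := conj_rot w hz hu hcz hco hcK
        · rw [h2]
          exact mul_mem (mul_mem (hWU hv) (hJU (hKJ hk))) (hJU hcJ')
        · rw [h2]
          exact mul_mem (mul_mem (hWU hv) (hJU (hKJ hk))) (mul_mem (hJU hcJ') (hJU hcJ'))
    exact fun g hg => h1 hg
  unfold IndDefs.Three
  rw [w.zz_K hz, ← hC]
  refine ⟨J, hJC, hKJ, ?_, sl23_quot hNo (hJC.trans hCN) hJ hrel (by rw [pow_two, hii]; exact w.ne z hz) hc3⟩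
  have hUn' : (U.subgroupOf C).Normal := ⟨fun g hg u => mem_subgroupOf.2 (hUC u u.2 g (mem_subgroupOf.1 hg))⟩
  refine Subgroup.IsSubnormal.step _ (U.subgroupOf C) (fun g hg => mem_subgroupOf.2 (hJU (mem_subgroupOf.1 hg))) hUn'.isSubnormal ⟨?_⟩
  rintro ⟨g, hgU⟩ hg ⟨m, hmU⟩
  exact mem_subgroupOf.2 ((mem_normalizer_iff.1 (hUn _ (mem_subgroupOf.1 hmU)) _).1 (mem_subgroupOf.1 hg))

end Hq

/-- **(P3)**, with `card_le`, `rot_two` of (P1) as hypotheses -/
theorem XW.three_of_clique [Finite G] {D : Subgroup G} (x : XW Z K D) (hz : z ∈ Z)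
    (le8 : ∀ P : Subgroup G, IsPGroup 2 P → (∀ p ∈ P, Cen K p z) → Nat.card P ≤ 8)
    (rt : ∀ (P : Subgroup G) (g : G), IsPGroup 2 P → (∀ p ∈ P, Cen K p z) → g * z = z * g → Odd (orderOf g) →
      (∀ p ∈ P, g * p * g⁻¹ ∈ P) → (∃ p ∈ P, g * p ≠ p * g) →
      Nat.card P = 8 ∧ ∃ r ∈ P, ∃ v ∈ K z, v * v = z ∧ r * r = z ∧ v * r ∈ Z ∧
        (g * r * g⁻¹) * r = z * (r * (g * r * g⁻¹)))
    (hq : ∀ t ∈ Z, ∀ t' ∈ Z, t ≠ z → t' ≠ z → t * z = z * t → t' * z = z * t' → t * t' = t' * t →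
      t' = t ∨ t' = z * t) : IndDefs.Three (K z) :=
  (Hq.mk x.w hz le8 rt (x.rot z hz) hq).three

end main

end Cfsg.Agent.Cit.Nil.Comp.AO
end

-- part: Cit/Nil/Comp/AO/HRot
section
/-!
# S1309 (6b), `r = 1`, COMP, AllOne, (M2): rotations in a normal subgroup (helper61)

`exists_rot_in` : `T` normal, `s ∈ T` fixes exactly one axis of `K z`, some `g ∈ C(z)` moves it: an element of odd
order of `T ∩ C(z)` acts non-trivially on `K z`.
-/

set_option autoImplicit false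
set_option linter.style.haveILetI false
set_option linter.unusedSectionVars false

namespace Cfsg.Agent.Cit.Nil.Comp.AO

open Subgroup Cfsg Cfsg.Agent.Cit Cfsg.Agent.Cit.Nil.ROne

/-- `F p q` fixes exactly the axis `y` -/
def Tq (p q y : QEight.Q) : Prop :=
  (QEight.F p q y = y ∨ QEight.F p q y = y⁻¹) ∧
    ∀ x : QEight.Q, x * x = QuaternionGroup.a 2 → x ≠ y → x ≠ y⁻¹ → QEight.F p q x ≠ x ∧ QEight.F p q x ≠ x⁻¹

instance (p q y : QEight.Q) : Decidable (Tq p q y) := by unfold Tq; infer_instance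

/-- the product moves all axes -/
def Aq (p q r s : QEight.Q) : Prop :=
  ∀ x : QEight.Q, x * x = QuaternionGroup.a 2 →
    QEight.F p q (QEight.F r s x) ≠ x ∧ QEight.F p q (QEight.F r s x) ≠ x⁻¹

instance (p q r s : QEight.Q) : Decidable (Aq p q r s) := by unfold Aq; infer_instance

set_option maxRecDepth 100000 in
theorem tq_aux : ∀ p q : QEight.Q, QEight.Ok p q → ∀ y : QEight.Q, y * y = QuaternionGroup.a 2 → Tq p q y →
    ∀ r s : QEight.Q, QEight.Ok r s → ∀ y' : QEight.Q, y' * y' = QuaternionGroup.a 2 → Tq r s y' → y' ≠ y →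
    y' ≠ y⁻¹ → Aq p q r s := by
  (refine of_decide_eq_true ?_; (try (delta Cfsg.Agent.Cit.Nil.Comp.AO.Aq Cfsg.Agent.Cit.Nil.Comp.AO.Tq Cfsg.Agent.Cit.Nil.Comp.AO.instDecidableAq Cfsg.Agent.Cit.Nil.Comp.AO.instDecidableTq Cfsg.Agent.Cit.Nil.ROne.QEight.Ok Cfsg.Agent.Cit.Nil.ROne.QEight.instDecidableOk; rewrite [Cfsg.Agent.LsF.f1a593b_0.2, Cfsg.Agent.LsF.dForall_eq, Cfsg.Agent.LsF.dAnd_eq, Cfsg.Agent.LsF.dOr_eq, Cfsg.Agent.LsF.dNot_eq, Cfsg.Agent.LsF.dImp_eq, Cfsg.Agent.LsF.dAllP_eq, Cfsg.Agent.LsF.decide_eq])); decide +kernel)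

set_option maxRecDepth 100000 in
theorem ax_three : ∀ p q : QEight.Q, QEight.Ok p q → Ax p q → ∀ x, QEight.F p q (QEight.F p q (QEight.F p q x)) = x := by
  decide +kernel

section

variable {G : Type*} [Group G] {Z : Set G} {K : G → Subgroup G} {z s g y : G}

theorem tq_of (w : W Z K) (hz : z ∈ Z) (hsz : s * z = z * s) (hy : y ∈ K z)
    (hfix : s * y * s⁻¹ = y ∨ s * y * s⁻¹ = y⁻¹)
    (hmov : ∀ b ∈ K z, b * b = z → b ≠ y → b ≠ y⁻¹ → s * b * s⁻¹ ≠ b ∧ s * b * s⁻¹ ≠ b⁻¹) :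
    Tq (w.rho hz s hsz (QuaternionGroup.a 1)) (w.rho hz s hsz (QuaternionGroup.xa 0)) (w.e hz ⟨y, hy⟩) := by
  refine ⟨?_, ?_⟩
  · rw [← QEight.funF, w.rho_e hz hsz hy]
    rcases hfix with h1 | h1
    · left
      exact congrArg (w.e hz) (Subtype.ext h1)
    · right
      rw [← w.e_inv hz hy]
      exact congrArg (w.e hz) (Subtype.ext h1)
  · intro x hxx h1 h2
    obtain ⟨b, hb, rfl⟩ := w.exists_e hz x
    have hbb : b * b = z := by
      rw [← w.e_mul hz hb hb, ← w.e_z hz] at hxx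
      exact w.e_inj hz _ _ hxx
    obtain ⟨h3, h4⟩ := hmov b hb hbb (fun h => h1 (congrArg (w.e hz) (Subtype.ext h))) (fun h => h2 (by
      rw [← w.e_inv hz hy]
      exact congrArg (w.e hz) (Subtype.ext h)))
    rw [← QEight.funF, w.rho_e hz hsz hb]
    refine ⟨fun h => h3 (w.e_inj hz _ _ h), fun h => h4 ?_⟩
    rw [← w.e_inv hz hb] at h
    exact w.e_inj hz _ _ h

/-- **rotations in a normal subgroup** -/
theorem exists_rot_in [Finite G] (w : W Z K) (hz : z ∈ Z) {T : Subgroup G} (hT : T.Normal) (hs : s ∈ T)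
    (hsz : s * z = z * s) (hy : y ∈ K z) (hyy : y * y = z) (hfix : s * y * s⁻¹ = y ∨ s * y * s⁻¹ = y⁻¹)
    (hmov : ∀ b ∈ K z, b * b = z → b ≠ y → b ≠ y⁻¹ → s * b * s⁻¹ ≠ b ∧ s * b * s⁻¹ ≠ b⁻¹)
    (hg : g * z = z * g) (hg1 : g * y * g⁻¹ ≠ y) (hg2 : g * y * g⁻¹ ≠ y⁻¹) :
    ∃ d ∈ T, d * z = z * d ∧ Odd (orderOf d) ∧ ¬ Cen K d z := by
  obtain ⟨s', hs'⟩ : ∃ s', s' = g * s * g⁻¹ := ⟨_, rfl⟩
  obtain ⟨y', hy'⟩ : ∃ y', y' = g * y * g⁻¹ := ⟨_, rfl⟩
  have hyK' : y' ∈ K z := by rw [hy']; exact w.norm_mem hz hg hy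
  have hyy' : y' * y' = z := by
    rw [hy', show g * y * g⁻¹ * (g * y * g⁻¹) = g * (y * y) * g⁻¹ by group, hyy, hg, mul_inv_cancel_right]
  have hgi : g⁻¹ * z = z * g⁻¹ := by
    calc g⁻¹ * z = g⁻¹ * (z * g) * g⁻¹ := by group
      _ = g⁻¹ * (g * z) * g⁻¹ := by rw [hg]
      _ = z * g⁻¹ := by group
  have hsz' : s' * z = z * s' := by
    calc s' * z = g * s * (g⁻¹ * z) := by rw [hs']; group
      _ = g * (s * z) * g⁻¹ := by rw [hgi]; group
      _ = (g * z) * s * g⁻¹ := by rw [hsz]; group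
      _ = z * s' := by rw [hg, hs']; group
  have hfix' : s' * y' * s'⁻¹ = y' ∨ s' * y' * s'⁻¹ = y'⁻¹ := by
    have e : s' * y' * s'⁻¹ = g * (s * y * s⁻¹) * g⁻¹ := by rw [hs', hy']; group
    rw [e]
    rcases hfix with h1 | h1
    · left; rw [h1, hy']
    · right; rw [h1, hy']; group
  have hmov' : ∀ b ∈ K z, b * b = z → b ≠ y' → b ≠ y'⁻¹ → s' * b * s'⁻¹ ≠ b ∧ s' * b * s'⁻¹ ≠ b⁻¹ := by
    intro b hb hbb h1 h2
    obtain ⟨c, hc⟩ : ∃ c, c = g⁻¹ * b * g := ⟨_, rfl⟩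
    have hbc : b = g * c * g⁻¹ := by rw [hc]; group
    have hcK : c ∈ K z := by rw [hc]; exact w.norm_mem' hz hg hb
    have hcc : c * c = z := by
      rw [hc, show g⁻¹ * b * g * (g⁻¹ * b * g) = g⁻¹ * (b * b) * g by group, hbb, hgi, inv_mul_cancel_right]
    obtain ⟨h3, h4⟩ := hmov c hcK hcc (fun h => h1 (by rw [hbc, h, hy'])) (fun h => h2 (by rw [hbc, h, hy']; group))
    have e : s' * b * s'⁻¹ = g * (s * c * s⁻¹) * g⁻¹ := by rw [hs', hbc]; group
    rw [e, hbc]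
    refine ⟨fun h => h3 (mul_left_cancel (mul_right_cancel h)), fun h => h4 ?_⟩
    have h5 : g * (s * c * s⁻¹) * g⁻¹ = g * c⁻¹ * g⁻¹ := by rw [h]; group
    exact mul_left_cancel (mul_right_cancel h5)
  obtain ⟨d, hd⟩ : ∃ d, d = s * s' := ⟨_, rfl⟩
  have hdT : d ∈ T := by rw [hd, hs']; exact mul_mem hs (hT.conj_mem s hs g)
  have hdz : d * z = z * d := by rw [hd, mul_assoc, hsz', ← mul_assoc, hsz, mul_assoc]
  have hrho : w.rho hz d hdz = w.rho hz s hsz * w.rho hz s' hsz' := by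
    subst hd
    exact w.rho_mul hz hsz hsz' hdz
  have hsq : ∀ {y : G} (hy : y ∈ K z), y * y = z → w.e hz ⟨y, hy⟩ * w.e hz ⟨y, hy⟩ = QuaternionGroup.a 2 := by
    intro y hy h4
    rw [← w.e_mul hz hy hy, ← w.e_z hz]
    exact congrArg (w.e hz) (Subtype.ext h4)
  have haq := tq_aux _ _ (QEight.aut_ok (w.rho hz s hsz)) _ (hsq hy hyy) (tq_of w hz hsz hy hfix hmov) _ _
    (QEight.aut_ok (w.rho hz s' hsz')) _ (hsq hyK' hyy') (tq_of w hz hsz' hyK' hfix' hmov')
    (fun h => hg1 (by rw [← hy']; exact w.e_inj hz _ _ h)) (fun h => hg2 (by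
      rw [← hy']
      rw [← w.e_inv hz hy] at h
      exact w.e_inj hz _ _ h))
  have hax : ∀ x : QEight.Q, x * x = QuaternionGroup.a 2 → w.rho hz d hdz x ≠ x ∧ w.rho hz d hdz x ≠ x⁻¹ := by
    intro x hx
    rw [hrho, MulAut.mul_apply]
    have h1 := haq x hx
    rwa [← QEight.funF, ← QEight.funF] at h1
  have hax' : Ax (w.rho hz d hdz (QuaternionGroup.a 1)) (w.rho hz d hdz (QuaternionGroup.xa 0)) := by
    intro x hx
    rw [← QEight.funF]
    exact hax x hx
  have h3 : w.rho hz d hdz ^ 3 = 1 := by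
    have h1 := ax_three _ _ (QEight.aut_ok _) hax'
    rw [← QEight.funF] at h1
    refine MulEquiv.ext fun x => ?_
    rw [pow_succ, pow_succ, pow_one]
    exact h1 x
  obtain ⟨k, hk⟩ := exists_odd_pow d
  obtain ⟨h4, h5⟩ := w.rho_pow hz hdz (2 ^ k)
  refine ⟨d ^ 2 ^ k, pow_mem hdT _, h4, hk, fun hcen => ?_⟩
  rw [(w.rho_eq_one hz h4).2 hcen] at h5
  have h6 : orderOf (w.rho hz d hdz) ∣ 3 := orderOf_dvd_of_pow_eq_one h3
  have h7 : orderOf (w.rho hz d hdz) ∣ 2 ^ k := orderOf_dvd_of_pow_eq_one h5.symm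
  have h8 : orderOf (w.rho hz d hdz) = 1 := by
    refine Nat.eq_one_of_dvd_coprimes (a := 3) (b := 2 ^ k) ?_ h6 h7
    exact Nat.Coprime.pow_right k (by norm_num)
  rw [orderOf_eq_one_iff] at h8
  have h9 := (hax _ (hsq hy hyy)).1
  rw [h8] at h9
  exact h9 rfl

end

end Cfsg.Agent.Cit.Nil.Comp.AO
end
end

-- part: Cit/Nil/Unbal/LThreeN
section
prune_inst 0x300041041c0000000018000220002040720001000020080161400c000500214120040121b08017100100a274200c0008130000490200000000000a00411800800000020080480000200000008800000000000000000000000000000000000000000000000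
set_option linter.all false
open scoped Cfsg.Agent.FastGrp

/-!
# S1309, `F*(G) = L₃(4)`, members of arbitrary order

* `LG X` : two noncentral involutions `a`, `a'` of `C(z)`, with elementary abelian centralisers in `C(z)`, such that
  `C(z)`, `C(a)`, `C(a')` generate `X`; elements of `C(z)` have order dividing 4;
* `core_bot` : `O(C_G(z)) = 1` for the involutions `z ∈ F*(G) = L₃(4)`;
* `lthree_false_nil` : no member, if the members are 2-nilpotent.
-/

set_option autoImplicit false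
set_option linter.style.haveILetI false
set_option linter.unusedSectionVars false

namespace Cfsg.Agent.Cit.Nil.Unbal.LThreeN

open Subgroup Cfsg Cit Cfsg.Agent.Cit.Nil Cfsg.Agent.Cit.Nil.LO.LThreeQ

/-- an involution of `C(z)` with elementary abelian centraliser in `C(z)` -/
structure NC {X : Type*} [Group X] (z a : X) : Prop where
  ne : a ≠ 1
  sq : a * a = 1
  comm : a * z = z * a
  el : ∀ b, b * z = z * b → b * a = a * b → b * b = 1

theorem NC.map {X Y : Type*} [Group X] [Group Y] (e : X ≃* Y) {z a : X} (h : NC z a) : NC (e z) (e a) where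
  ne h1 := h.ne (e.injective (h1.trans (map_one e).symm))
  sq := by rw [← map_mul, h.sq, map_one]
  comm := by rw [← map_mul, h.comm, map_mul]
  el b hb1 hb2 := by
    apply e.symm.injective
    rw [map_mul, map_one]
    refine h.el _ ?_ ?_
    · apply e.injective
      simpa using hb1
    · apply e.injective
      simpa using hb2

/-- see the head of the file -/
structure LG (X : Type*) [Group X] : Prop extends LF X where
  exp : ∀ z : X, z ≠ 1 → z * z = 1 → ∀ a, a * z = z * a → a * a * (a * a) = 1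
  gen : ∀ z : X, z ≠ 1 → z * z = 1 → ∃ a a', NC z a ∧ NC z a' ∧ ∀ M : Subgroup X, (∀ b, b * z = z * b → b ∈ M) →
    (∀ b, b * a = a * b → b ∈ M) → (∀ b, b * a' = a' * b → b ∈ M) → M = ⊤

theorem LG.congr {X Y : Type*} [Group X] [Group Y] (e : X ≃* Y) (h : LG X) : LG Y where
  toLF := h.toLF.congr e
  exp := by
    intro z hz1 hz2 a ha
    have h1 := h.exp (e.symm z) (fun h3 => hz1 (e.symm.injective (h3.trans (map_one _).symm)))
      (by rw [← map_mul, hz2, map_one]) (e.symm a) (by rw [← map_mul, ha, map_mul])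
    apply e.symm.injective
    simpa using h1
  gen := by
    intro z hz1 hz2
    obtain ⟨a, a', h1, h2, h3⟩ := h.gen (e.symm z) (fun h3 => hz1 (e.symm.injective (h3.trans (map_one _).symm)))
      (by rw [← map_mul, hz2, map_one])
    have h1' := h1.map e
    have h2' := h2.map e
    rw [e.apply_symm_apply] at h1' h2'
    refine ⟨e a, e a', h1', h2', fun M e1 e2 e3 => ?_⟩
    have h4 := h3 (M.comap e.toMonoidHom) ?_ ?_ ?_
    · rw [eq_top_iff]
      intro x _
      have h5 : e.symm x ∈ M.comap e.toMonoidHom := by rw [h4]; exact mem_top _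
      have h6 : e (e.symm x) ∈ M := h5
      rwa [e.apply_symm_apply] at h6
    · intro b hb
      refine e1 (e b) ?_
      apply e.symm.injective
      simpa using hb
    · intro b hb
      exact e2 (e b) (by rw [← map_mul, hb, map_mul])
    · intro b hb
      exact e3 (e b) (by rw [← map_mul, hb, map_mul])

section psl

open Cfsg.Agent.SporadicA.FieldFour Cfsg.Agent.ONType.Psl Cfsg.Agent.StdL34.PslCent Cfsg.Agent.StdLThreeFour.Base
open Cfsg.Agent.StdLThreeFour.Facts1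

theorem nc_of {z l : L0} (hl : l * z * l⁻¹ = t 0 2 1) {u w : F4} (huv : u * w = 0) (hne : u ≠ 0 ∨ w ≠ 0) :
    NC z (l⁻¹ * e u w 0 * l) := by
  have hz : z = l⁻¹ * t 0 2 1 * l := by rw [← hl]; group
  have conj_mul : ∀ x y : L0, l⁻¹ * x * l * (l⁻¹ * y * l) = l⁻¹ * (x * y) * l := fun x y => by group
  refine ⟨?_, ?_, ?_, ?_⟩
  · intro h1
    have h2 : e u w 0 = 1 := by
      calc e u w 0 = l * (l⁻¹ * e u w 0 * l) * l⁻¹ := by group
        _ = 1 := by rw [h1, mul_one, mul_inv_cancel]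
    rcases hne with h3 | h3
    · exact h3 (e_one h2).1
    · exact h3 (e_one h2).2.1
  · rw [conj_mul, e_sq, huv, e_zero, mul_one, inv_mul_cancel]
  · rw [hz, conj_mul, conj_mul, ← e_02, (comm_iff u w 0 0 0 1).2 (by rw [zero_mul, mul_zero, add_zero])]
  · intro b hb1 hb2
    have h1 : l * b * l⁻¹ * t 0 2 1 = t 0 2 1 * (l * b * l⁻¹) := by
      rw [← hl]
      calc l * b * l⁻¹ * (l * z * l⁻¹) = l * (b * z) * l⁻¹ := by group
        _ = l * (z * b) * l⁻¹ := by rw [hb1]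
        _ = l * z * l⁻¹ * (l * b * l⁻¹) := by group
    obtain ⟨b1, b2, b3, hbe⟩ := (cent_t02 _).1 h1
    have hbe' : l * b * l⁻¹ = e b1 b2 b3 := hbe
    have h2 : e b1 b2 b3 * e u w 0 = e u w 0 * e b1 b2 b3 := by
      rw [← hbe']
      calc l * b * l⁻¹ * e u w 0 = l * (b * (l⁻¹ * e u w 0 * l)) * l⁻¹ := by group
        _ = l * (l⁻¹ * e u w 0 * l * b) * l⁻¹ := by rw [hb2]
        _ = e u w 0 * (l * b * l⁻¹) := by group
    have h3 := (comm_iff _ _ _ _ _ _).1 h2
    have h5 : b1 * b2 = 0 := by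
      rcases mul_eq_zero.1 huv with h6 | h6
      · rw [h6, zero_mul, zero_add] at h3
        rcases hne with h7 | h7
        · exact absurd h6 h7
        · rw [(mul_eq_zero.1 h3).resolve_right h7, zero_mul]
      · rw [h6, mul_zero, add_zero] at h3
        rcases hne with h7 | h7
        · rw [(mul_eq_zero.1 h3).resolve_left h7, mul_zero]
        · exact absurd h6 h7
    have h4 : l * (b * b) * l⁻¹ = 1 := by
      calc l * (b * b) * l⁻¹ = (l * b * l⁻¹) * (l * b * l⁻¹) := by group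
        _ = 1 := by rw [hbe', e_sq, h5, e_zero]
    calc b * b = l⁻¹ * (l * (b * b) * l⁻¹) * l := by group
      _ = 1 := by rw [h4, mul_one, inv_mul_cancel]

theorem lg_PSL3 : LG L0 where
  toLF := lf_PSL3
  exp := by
    intro z hz1 hz2 a ha
    obtain ⟨l, hl⟩ := inv_conj hz1 hz2
    have h1 : l * a * l⁻¹ * t 0 2 1 = t 0 2 1 * (l * a * l⁻¹) := by
      rw [← hl]
      calc l * a * l⁻¹ * (l * z * l⁻¹) = l * (a * z) * l⁻¹ := by group
        _ = l * (z * a) * l⁻¹ := by rw [ha]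
        _ = l * z * l⁻¹ * (l * a * l⁻¹) := by group
    obtain ⟨b1, b2, b3, hbe⟩ := (cent_t02 _).1 h1
    have hbe' : l * a * l⁻¹ = e b1 b2 b3 := hbe
    have h4 : l * (a * a * (a * a)) * l⁻¹ = 1 := by
      calc l * (a * a * (a * a)) * l⁻¹ = (l * a * l⁻¹) * (l * a * l⁻¹) * ((l * a * l⁻¹) * (l * a * l⁻¹)) := by group
        _ = 1 := by rw [hbe', e_sq, e_sq, zero_mul, e_zero]
    calc a * a * (a * a) = l⁻¹ * (l * (a * a * (a * a)) * l⁻¹) * l := by group
      _ = 1 := by rw [h4, mul_one, inv_mul_cancel]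
  gen := by
    intro z hz1 hz2
    obtain ⟨l, hl⟩ := inv_conj hz1 hz2
    refine ⟨l⁻¹ * e 1 0 0 * l, l⁻¹ * e 0 1 0 * l, nc_of hl (mul_zero _) (Or.inl one_ne_zero),
      nc_of hl (zero_mul _) (Or.inr one_ne_zero), ?_⟩
    intro M h1 h2 h3
    have hz : z = l⁻¹ * t 0 2 1 * l := by rw [← hl]; group
    have conj_mul : ∀ x y : L0, l⁻¹ * x * l * (l⁻¹ * y * l) = l⁻¹ * (x * y) * l := fun x y => by group
    -- the root elements are in `l M l⁻¹`
    have k1 : ∀ b, b * t 0 2 1 = t 0 2 1 * b → l⁻¹ * b * l ∈ M := by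
      intro b hb
      apply h1
      rw [hz, conj_mul, conj_mul, hb]
    have k2 : ∀ b, b * e 1 0 0 = e 1 0 0 * b → l⁻¹ * b * l ∈ M := by
      intro b hb
      apply h2
      rw [conj_mul, conj_mul, hb]
    have k3 : ∀ b, b * e 0 1 0 = e 0 1 0 * b → l⁻¹ * b * l ∈ M := by
      intro b hb
      apply h3
      rw [conj_mul, conj_mul, hb]
    have r02 : ∀ c, l⁻¹ * t 0 2 c * l ∈ M := by
      intro c
      apply k1
      rw [← e_02, ← e_02]
      exact (comm_iff _ _ _ _ _ _).2 (by rw [zero_mul, add_zero])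
    have r01 : ∀ c, l⁻¹ * t 0 1 c * l ∈ M := by
      intro c
      apply k1
      rw [← e_01, ← e_02]
      exact (comm_iff _ _ _ _ _ _).2 (by rw [zero_mul, mul_zero, add_zero])
    have r12 : ∀ c, l⁻¹ * t 1 2 c * l ∈ M := by
      intro c
      apply k1
      rw [← e_12, ← e_02]
      exact (comm_iff _ _ _ _ _ _).2 (by rw [zero_mul, mul_zero, add_zero])
    have r21 : ∀ c, l⁻¹ * t 2 1 c * l ∈ M := by
      intro c
      apply k2
      rw [e_01]
      exact t_col 2 1 0 c 1 (by decide) (by decide)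
    have r10 : ∀ c, l⁻¹ * t 1 0 c * l ∈ M := by
      intro c
      apply k3
      rw [e_12]
      exact t_row 1 0 2 c 1 (by decide) (by decide)
    have r20 : ∀ c, l⁻¹ * t 2 0 c * l ∈ M := by
      intro c
      have h4 := t_sum 2 0 1 c 1 (by decide) (by decide) (by decide)
      rw [mul_one] at h4
      have h5 : l⁻¹ * t 2 0 c * l = (l⁻¹ * t 2 1 c * l)⁻¹ * (l⁻¹ * t 1 0 1 * l)⁻¹ * (l⁻¹ * t 2 1 c * l) *
          (l⁻¹ * t 1 0 1 * l) := by
        calc l⁻¹ * t 2 0 c * l = l⁻¹ * ((t 1 0 1 * t 2 1 c)⁻¹ * (t 1 0 1 * t 2 1 c * t 2 0 c)) * l := by group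
          _ = l⁻¹ * ((t 1 0 1 * t 2 1 c)⁻¹ * (t 2 1 c * t 1 0 1)) * l := by rw [← h4]
          _ = _ := by group
      rw [h5]
      exact M.mul_mem (M.mul_mem (M.mul_mem (M.inv_mem (r21 c)) (M.inv_mem (r10 1))) (r21 c)) (r10 1)
    have h4 : (⊤ : Subgroup L0) ≤ cj l M := by
      rw [← Cfsg.Agent.ONType.PslCard.closure_t, closure_le]
      rintro _ ⟨i, j, hij, c, rfl⟩
      change _ ∈ cj l M
      rw [mem_cj]
      fin_cases i <;> fin_cases j
      · exact absurd rfl hij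
      · exact r01 c
      · exact r02 c
      · exact r10 c
      · exact absurd rfl hij
      · exact r12 c
      · exact r20 c
      · exact r21 c
      · exact absurd rfl hij
    rw [eq_top_iff]
    intro x _
    have h5 := h4 (mem_top (l * x * l⁻¹))
    rwa [conj_mem_cj_iff] at h5

theorem lg_psl {X : Type*} [Group X] {F : Type*} [Field F] [Fintype F] (hF : Fintype.card F = 4)
    (e : Nonempty (X ≃* Matrix.ProjectiveSpecialLinearGroup (Fin 3) F)) : LG X := by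
  obtain ⟨e⟩ := e
  obtain ⟨f⟩ := nonempty_psl_equiv (n := Fin 3) F hF
  exact lg_PSL3.congr (f.trans e.symm)

end psl

/-! ### `O(C_G(z)) = 1` -/

section core

variable {G : Type*} [Group G] [Finite G] {F : Subgroup G} {a b c t z : G}

/-- the centralisers of `c` -/
theorem comm_of (hN : F.Normal) (lg : LG F) (hz : z ∈ F) (hc : Odd (orderOf c))
    (hcT : ∀ b ∈ F, b * z = z * b → c * b = b * c) {a : F} (ha : NC (⟨z, hz⟩ : F) a) :
    ∀ t : F, t * a = a * t → c * t = t * c := by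
  intro t hta
  have haz : (a : G) * z = z * a := congrArg Subtype.val ha.comm
  have hta' : (t : G) * a = a * t := congrArg Subtype.val hta
  have hca := hcT a a.2 haz
  obtain ⟨hd1, -⟩ := lg.cen a ha.ne ha.sq t ⟨z, hz⟩ hta ha.comm.symm
  obtain ⟨d, hd⟩ : ∃ d, d = (t : G) * z * (t : G)⁻¹ * z⁻¹ := ⟨_, rfl⟩
  have hdz : d * z = z * d := by
    have h1 := congrArg Subtype.val (hd1 ⟨z, hz⟩ ha.comm.symm)
    rw [hd]
    exact h1
  have hdF : d ∈ F := by
    rw [hd]
    exact F.mul_mem (F.mul_mem (F.mul_mem t.2 hz) (F.inv_mem t.2)) (F.inv_mem hz)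
  have hcd := hcT d hdF hdz
  have hcz := hcT z hz rfl
  have htz : (t : G) * z * (t : G)⁻¹ = d * z := by rw [hd]; group
  obtain ⟨u, hu⟩ : ∃ u, u = (t : G)⁻¹ * (c * t * c⁻¹) := ⟨_, rfl⟩
  have huF : u ∈ F := by
    rw [hu]
    exact F.mul_mem (F.inv_mem t.2) (hN.conj_mem t t.2 c)
  have hctc : c * t * c⁻¹ = t * u := by rw [hu]; group
  have hta'' : (t : G)⁻¹ * a = a * (t : G)⁻¹ := by
    rw [inv_mul_eq_iff_eq_mul, ← mul_assoc, hta', mul_inv_cancel_right]
  have hca' : c⁻¹ * (a : G) = a * c⁻¹ := by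
    rw [inv_mul_eq_iff_eq_mul, ← mul_assoc, hca, mul_inv_cancel_right]
  have hua : u * a = a * u := by
    rw [hu]
    calc (t : G)⁻¹ * (c * t * c⁻¹) * a = (t : G)⁻¹ * (c * t * (c⁻¹ * a)) := by group
      _ = (t : G)⁻¹ * (c * (t * a) * c⁻¹) := by rw [hca']; group
      _ = (t : G)⁻¹ * (c * a * t * c⁻¹) := by rw [hta']; group
      _ = (t : G)⁻¹ * a * (c * t * c⁻¹) := by rw [hca]; group
      _ = a * ((t : G)⁻¹ * (c * t * c⁻¹)) := by rw [hta'']; group
  have huz : u * z = z * u := by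
    have h1 : c * t * c⁻¹ * z * (c * t * c⁻¹)⁻¹ = t * z * (t : G)⁻¹ := by
      have h2 : c⁻¹ * z = z * c⁻¹ := by
        rw [inv_mul_eq_iff_eq_mul, ← mul_assoc, hcz, mul_inv_cancel_right]
      calc c * t * c⁻¹ * z * (c * t * c⁻¹)⁻¹ = c * t * (c⁻¹ * z) * c * (t : G)⁻¹ * c⁻¹ := by group
        _ = c * (t * z * (t : G)⁻¹) * c⁻¹ := by rw [h2]; group
        _ = (c * d) * z * c⁻¹ := by rw [htz]; group
        _ = d * (c * z) * c⁻¹ := by rw [hcd]; group
        _ = d * z := by rw [hcz]; group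
        _ = t * z * (t : G)⁻¹ := htz.symm
    rw [hctc] at h1
    have h3 : u * z * u⁻¹ = z := by
      calc u * z * u⁻¹ = (t : G)⁻¹ * (t * u * z * (t * u)⁻¹) * t := by group
        _ = (t : G)⁻¹ * (t * z * (t : G)⁻¹) * t := by rw [h1]
        _ = z := by group
    exact mul_inv_eq_iff_eq_mul.1 h3
  have hu2 : u * u = 1 := congrArg Subtype.val (ha.el ⟨u, huF⟩ (Subtype.ext huz) (Subtype.ext hua))
  have hcu := hcT u huF huz
  -- `c²` commutes with `t`
  have h1 : c * (c * t * c⁻¹) * c⁻¹ = t := by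
    rw [hctc]
    calc c * (t * u) * c⁻¹ = (c * t * c⁻¹) * (c * u) * c⁻¹ := by group
      _ = t * u * u := by rw [hctc, hcu]; group
      _ = t := by rw [mul_assoc, hu2, mul_one]
  have h2 : Commute (c ^ 2) (t : G) := by
    have h3 : c ^ 2 * t * (c ^ 2)⁻¹ = t := by
      calc c ^ 2 * t * (c ^ 2)⁻¹ = c * (c * t * c⁻¹) * c⁻¹ := by rw [pow_two]; group
        _ = t := h1
    exact mul_inv_eq_iff_eq_mul.1 h3
  obtain ⟨m, hm⟩ := hc
  have h3 : c = (c ^ 2) ^ (m + 1) := by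
    rw [← pow_mul, show 2 * (m + 1) = (2 * m + 1) + 1 by ring, pow_succ, ← hm, pow_orderOf_eq_one, one_mul]
  rw [h3]
  exact (h2.pow_left _).eq

/-- **`O(C_G(z)) = 1`** for `z ∈ F` -/
theorem core_bot (hN : F.Normal) (hC : centralizer (F : Set G) = ⊥) (lg : LG F) (hz : z ∈ F) (hz1 : z ≠ 1)
    (hz2 : z * z = 1) : centralizerPPrimeCore 2 z = ⊥ := by
  rw [eq_bot_iff]
  intro c hc
  have hodd : Odd (Nat.card (centralizerPPrimeCore 2 z)) := by
    have h3 : Nat.card (centralizerPPrimeCore 2 z) = Nat.card (pPrimeCore 2 ↥(centralizer ({z} : Set G))) :=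
      card_map_of_injective (Subgroup.subtype_injective _)
    rw [h3]
    exact Nat.coprime_two_right.mp (Lib.Cores.pPrimeCore_coprime 2)
  have hn : ∀ c : G, c * z = z * c → ∀ i ∈ centralizerPPrimeCore 2 z, c * i * c⁻¹ ∈ centralizerPPrimeCore 2 z := by
    rintro c hc _ ⟨x, hx, rfl⟩
    exact ⟨_, (Lib.Cores.pPrimeCore_normal 2).conj_mem x hx ⟨c, mem_centralizer_singleton_iff.2 hc⟩, rfl⟩
  have hcv : ∀ i ∈ centralizerPPrimeCore 2 z, i * z = z * i := by
    rintro _ ⟨x, -, rfl⟩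
    exact mem_centralizer_singleton_iff.1 x.2
  have ho : ∀ x ∈ centralizerPPrimeCore 2 z, Odd (orderOf x) := by
    intro x hx
    have h4 : orderOf (⟨x, hx⟩ : centralizerPPrimeCore 2 z) ∣ Nat.card (centralizerPPrimeCore 2 z) :=
      orderOf_dvd_natCard _
    rw [Subgroup.orderOf_mk] at h4
    exact Odd.of_dvd_nat hodd h4
  have hcT : ∀ b ∈ F, b * z = z * b → c * b = b * c := by
    intro b hb hbz
    have h1 : c * b * c⁻¹ * b⁻¹ ∈ centralizerPPrimeCore 2 z := by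
      have h2 := hn b hbz _ (inv_mem hc)
      have h3 := mul_mem hc h2
      have h4 : c * (b * c⁻¹ * b⁻¹) = c * b * c⁻¹ * b⁻¹ := by group
      rwa [h4] at h3
    have h2 : c * b * c⁻¹ * b⁻¹ ∈ F := F.mul_mem (hN.conj_mem b hb c) (F.inv_mem hb)
    obtain ⟨x, hx⟩ : ∃ x, x = c * b * c⁻¹ * b⁻¹ := ⟨_, rfl⟩
    rw [← hx] at h1 h2
    have h3 : x * x * (x * x) = 1 := congrArg Subtype.val (lg.exp ⟨z, hz⟩ (fun h => hz1 (congrArg Subtype.val h))
      (Subtype.ext hz2) ⟨x, h2⟩ (Subtype.ext (hcv x h1)))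
    have h4 : orderOf x ∣ 2 ^ 2 := by
      apply orderOf_dvd_of_pow_eq_one
      rw [← h3]
      simp only [pow_succ, pow_zero, one_mul, mul_assoc]
      norm_num
      simp only [pow_succ, pow_zero, one_mul, mul_assoc]
    have h5 : x = 1 := by
      rw [← orderOf_eq_one_iff]
      exact Nat.eq_one_of_dvd_coprimes (a := 2 ^ 2) (b := orderOf x) (Nat.Coprime.pow_left 2 (by
        rw [Nat.coprime_comm, Nat.coprime_two_right]; exact ho x h1)) h4 dvd_rfl
    rw [hx, mul_inv_eq_one, mul_inv_eq_iff_eq_mul] at h5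
    exact h5
  obtain ⟨a, a', h1, h2, h3⟩ := lg.gen ⟨z, hz⟩ (fun h => hz1 (congrArg Subtype.val h)) (Subtype.ext hz2)
  have e1 := comm_of hN lg hz (ho c hc) hcT h1
  have e2 := comm_of hN lg hz (ho c hc) hcT h2
  have h4 := h3 ((centralizer ({c} : Set G)).subgroupOf F) ?_ ?_ ?_
  · have h5 : c ∈ centralizer (F : Set G) := by
      rw [mem_centralizer_iff]
      intro x hx
      have h6 : (⟨x, hx⟩ : F) ∈ (centralizer ({c} : Set G)).subgroupOf F := by rw [h4]; exact mem_top _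
      rw [mem_subgroupOf, mem_centralizer_singleton_iff] at h6
      exact h6
    rwa [hC] at h5
  · intro b hb
    rw [mem_subgroupOf, mem_centralizer_singleton_iff]
    exact (hcT b b.2 (congrArg Subtype.val hb)).symm
  · intro b hb
    rw [mem_subgroupOf, mem_centralizer_singleton_iff]
    exact (e1 b hb).symm
  · intro b hb
    rw [mem_subgroupOf, mem_centralizer_singleton_iff]
    exact (e2 b hb).symm

end core

/-- **`F*(G) = L₃(4)`**, 2-nilpotent members of arbitrary order -/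
theorem lthree_false_nil {G : Type*} [Group G] [Finite G] {Om : Set (Subgroup G)} (h : Hyp Om)
    (hn : ∀ K ∈ Om, NilK K) {K : Subgroup G} (hK : K ∈ Om) (fs : AssemblyNil.FS G)
    (hL : ∃ (F : Type) (_ : Field F) (_ : Fintype F), Fintype.card F = 4 ∧
      Nonempty (↥(generalizedFittingSubgroup G) ≃* Matrix.ProjectiveSpecialLinearGroup (Fin 3) F)) : False := by
  have hL' := hL
  obtain ⟨F, i, j, hF, e⟩ := hL
  refine lthree_false h ?_ hK fs hL'
  intro L hLO
  -- `z_L ∈ F*(G)`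
  obtain ⟨Q, hQ⟩ := Hyp.exists_syl L
  obtain ⟨c, v, n, hgq⟩ := h.exists_gq hLO hQ
  obtain ⟨x, hx, -, hxv⟩ := hgq.exists_inverting hgq.v_mem hgq.orderOf_v
  have h1 : x * v * x⁻¹ * v⁻¹ = zz L := by
    rw [hxv, ← mul_inv_rev, hgq.v_sq, h.zz_inv hLO]
  have hzF : zz L ∈ generalizedFittingSubgroup G := by
    refine mem_fstar fs (Cfsg.Agent.StdL3.OuterFacts.facts_of_psl hF e).cube ?_ ?_
    · rw [← h1]
      exact commutator_mem_commutator (mem_top x) (mem_top v)
    · have h2 := h.zz_mul hLO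
      calc zz L ^ 4 = (zz L * zz L) * (zz L * zz L) := by simp only [pow_succ, pow_zero, one_mul, mul_assoc]
        _ = 1 := by rw [h2, one_mul]
  have hO := ROne.OO_eq_bot h hLO (core_bot (Lib.GenFitting.genFitting_normal (G := G))
    (End.centralizer_fstar fs.simple fs.na) (lg_psl hF e) hzF (h.zz_ne hLO) (h.zz_mul hLO))
  have h2 := hn L hLO Q hQ
  rw [hO, bot_sup_eq] at h2
  exact hQ.2.1.to_le h2

end Cfsg.Agent.Cit.Nil.Unbal.LThreeN
end

-- part: Cit/Nil/Comp/AO/Conn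
section
set_option linter.all false
open scoped Cfsg.Agent.FastGrp

/-!
# S1309 (6b), `r = 1`, COMP, AllOne, (M2), piece (P2): the commuting graph on `Z` is connected (helper815)

`XW.connected` (bb R18 #19884): `h : XW Z K D`, Bender's theorem and Glauberman's criterion for `D` (`CloEnd.Bend ↥D`,
`CloEnd.Crit1175 ↥D`) ==> the commuting graph on `Z` is connected.

The stabiliser `M` of a component `Γ ∋ a` contains `C(x)` for `x ∈ Γ`, and `M ∩ Z = Γ` (`OW.rch_of_mem`); if `Γ ≠ Z`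
then S1175 gives a strongly embedded subgroup of `D` (`XW.exists_strong`), all involutions of `D` are `D`-conjugate and
`G = K_a D`; `K_a ∩ D` is `K_a` (`XW.false_of_le`) or `<a>` (`XW.false_of_inf`).
-/

set_option autoImplicit false
set_option linter.style.haveILetI false
set_option linter.unusedSectionVars false

namespace Cfsg.Agent.Cit.Nil.Comp.AO

open Subgroup Cfsg Cfsg.Agent.Cit Cfsg.Agent.Cit.Nil.ROne

variable {G : Type*} [Group G] {Z : Set G} {K : G → Subgroup G} {D : Subgroup G} {a b g u x y t : G}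

/-- adjacency in the commuting graph on `Z` -/
def Adj (Z : Set G) (a b : G) : Prop := a ∈ Z ∧ b ∈ Z ∧ a * b = b * a

theorem Adj.symm (h : Adj Z a b) : Adj Z b a := ⟨h.2.1, h.1, h.2.2.symm⟩

/-- connected in the commuting graph on `Z` -/
def Rch (Z : Set G) (a b : G) : Prop := Relation.ReflTransGen (Adj Z) a b

theorem Rch.refl : Rch Z a a := Relation.ReflTransGen.refl

theorem Rch.of_adj (h : Adj Z a b) : Rch Z a b := Relation.ReflTransGen.single h

theorem Rch.trans (h1 : Rch Z a b) (h2 : Rch Z b u) : Rch Z a u := Relation.ReflTransGen.trans h1 h2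

theorem Rch.symm (h : Rch Z a b) : Rch Z b a := by
  induction h with
  | refl => exact Rch.refl
  | tail _ h2 ih => exact (Rch.of_adj h2.symm).trans ih

theorem Rch.mem (h : Rch Z a b) (ha : a ∈ Z) : b ∈ Z := by
  induction h with
  | refl => exact ha
  | tail _ h2 _ => exact h2.2.1

theorem Rch.conj (hZ : ∀ z ∈ Z, ∀ g, g * z * g⁻¹ ∈ Z) (h : Rch Z a b) (g : G) :
    Rch Z (g * a * g⁻¹) (g * b * g⁻¹) := by
  have key : ∀ {x y : G}, Adj Z x y → Adj Z (g * x * g⁻¹) (g * y * g⁻¹) := by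
    rintro x y ⟨hx, hy, hxy⟩
    refine ⟨hZ x hx g, hZ y hy g, ?_⟩
    calc g * x * g⁻¹ * (g * y * g⁻¹) = g * (x * y) * g⁻¹ := by group
      _ = g * (y * x) * g⁻¹ := by rw [hxy]
      _ = g * y * g⁻¹ * (g * x * g⁻¹) := by group
  induction h with
  | refl => exact Rch.refl
  | tail _ h2 ih => exact ih.trans (Rch.of_adj (key h2))

/-- the stabiliser of the component of `a` -/
def stab (hZ : ∀ z ∈ Z, ∀ g, g * z * g⁻¹ ∈ Z) (a : G) : Subgroup G where
  carrier := {g | Rch Z a (g * a * g⁻¹)}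
  one_mem' := by
    change Rch Z a (1 * a * 1⁻¹)
    rw [one_mul, inv_one, mul_one]
    exact Rch.refl
  mul_mem' := by
    intro g h hg hh
    change Rch Z a (g * h * a * (g * h)⁻¹)
    have h1 := Rch.conj hZ (show Rch Z a (h * a * h⁻¹) from hh) g
    have h2 : g * h * a * (g * h)⁻¹ = g * (h * a * h⁻¹) * g⁻¹ := by group
    rw [h2]
    exact Rch.trans hg h1
  inv_mem' := by
    intro g hg
    change Rch Z a (g⁻¹ * a * g⁻¹⁻¹)
    have h1 := Rch.conj hZ (show Rch Z a (g * a * g⁻¹) from hg) g⁻¹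
    have h2 : g⁻¹ * (g * a * g⁻¹) * g⁻¹⁻¹ = a := by group
    rw [h2] at h1
    exact h1.symm

section stab

variable (hZ : ∀ z ∈ Z, ∀ g, g * z * g⁻¹ ∈ Z)

theorem mem_stab : g ∈ stab hZ a ↔ Rch Z a (g * a * g⁻¹) := Iff.rfl

theorem mem_stab_of_conj (hx : Rch Z a x) (hg : Rch Z a (g * x * g⁻¹)) : g ∈ stab hZ a :=
  (mem_stab hZ).2 (hg.trans (Rch.conj hZ hx g).symm)

theorem cent_le_stab (hx : Rch Z a x) : centralizer {x} ≤ stab hZ a := by
  intro c hc
  rw [mem_centralizer_singleton_iff] at hc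
  refine mem_stab_of_conj hZ hx ?_
  rwa [hc, mul_inv_cancel_right]

end stab

/-- an element of prime power order of a subgroup `M` containing the Sylow subgroup `R` lies in an `M`-conjugate of `R` -/
theorem exists_conj_mem_sylow [Finite G] (R : Sylow 2 G) {M : Subgroup G} (hRM : (R : Subgroup G) ≤ M) (hx : x ∈ M)
    (h2 : IsPGroup 2 (zpowers x)) : ∃ m ∈ M, m * x * m⁻¹ ∈ R := by
  haveI : Fact (Nat.Prime 2) := ⟨Nat.prime_two⟩
  have h3 : IsPGroup 2 ((zpowers x).subgroupOf M) := h2.comap_subtype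
  obtain ⟨P, hP⟩ := h3.exists_le_sylow
  obtain ⟨m, hm⟩ := MulAction.exists_smul_eq M P (R.subtype hRM)
  refine ⟨m, m.2, ?_⟩
  have h4 : m * (⟨x, hx⟩ : M) * m⁻¹ ∈ (R.subtype hRM : Sylow 2 M) := by
    rw [← hm, ← SetLike.mem_coe, Sylow.coe_smul]
    exact ⟨⟨x, hx⟩, hP (by rw [mem_subgroupOf]; exact mem_zpowers x), rfl⟩
  exact h4

/-- two elements of order 4 on different axes generate `K z` -/
theorem gen_of_axes (w : W Z K) {z p q : G} (hz : z ∈ Z) (hp : p ∈ K z) (hq : q ∈ K z) (hpp : p * p = z)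
    (hqq : q * q = z) (h1 : q ≠ p) (h2 : q ≠ p⁻¹) (hy : y ∈ K z) {H : Subgroup G} (hpH : p ∈ H) (hqH : q ∈ H) :
    y ∈ H := by
  have key : ∀ p q x : QEight.Q, p * p = QuaternionGroup.a 2 → q * q = QuaternionGroup.a 2 → q ≠ p → q ≠ p⁻¹ →
      ∃ i j : Fin 4, x = p ^ i.val * q ^ j.val := by decide
  have hsq : ∀ {y : G} (hy : y ∈ K z), y * y = z → w.e hz ⟨y, hy⟩ * w.e hz ⟨y, hy⟩ = QuaternionGroup.a 2 := by
    intro y hy h4
    rw [← w.e_mul hz hy hy, ← w.e_z hz]
    exact congrArg (w.e hz) (Subtype.ext h4)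
  obtain ⟨i, j, hij⟩ := key _ _ (w.e hz ⟨y, hy⟩) (hsq hp hpp) (hsq hq hqq) (fun h5 => h1 (w.e_inj hz _ _ h5))
    (fun h5 => h2 (by rw [← w.e_inv hz hp] at h5; exact w.e_inj hz _ _ h5))
  rw [← map_pow, ← map_pow, ← map_mul] at hij
  have h3 := congrArg Subtype.val ((w.e hz).injective hij)
  have h4 : y = p ^ i.val * q ^ j.val := h3
  rw [h4]
  exact mul_mem (pow_mem hpH _) (pow_mem hqH _)

namespace OW

variable (o : OW Z K)

include o

/-- an N-partner -/
theorem npOf (hz : a ∈ Z) (hu : u ∈ Z) (hne : a ≠ u) (hc : a * u = u * a) : NP K a u :=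
  ⟨hne, hc, o.nc a hz u hu⟩

/-- a Sylow subgroup containing `K a` centralises `a` -/
theorem sylow_le [Finite G] (ha : a ∈ Z) {S : Subgroup G} (hS : IsPGroup 2 S) (h : K a ≤ S) :
    S ≤ centralizer {a} := by
  intro r hr
  rw [mem_centralizer_singleton_iff]
  by_contra hne
  have h1 : r * a * r⁻¹ ≠ a := fun h2 => hne (by rw [mul_inv_eq_iff_eq_mul] at h2; exact h2)
  have h2 : K (r * a * r⁻¹) ≤ S := by
    rw [o.w.conjK a ha r]
    intro x hx
    rw [mem_cj] at hx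
    have h3 : x = r * (r⁻¹ * x * r) * r⁻¹ := by group
    rw [h3]
    exact mul_mem (mul_mem hr (h hx)) (inv_mem hr)
  exact o.nc a ha _ (o.w.conjZ a ha r) (o.w.com ha (o.w.conjZ a ha r) hS h h2 h1.symm)

/-- `M ∩ Z = Γ` -/
theorem rch_of_mem [Finite G] (ha : a ∈ Z) (hx : x ∈ Z) (hM : x ∈ stab o.w.conjZ a) : Rch Z a x := by
  haveI : Fact (Nat.Prime 2) := ⟨Nat.prime_two⟩
  obtain ⟨R, hR⟩ := (o.w.two ha).exists_le_sylow
  have hRc := o.sylow_le ha R.isPGroup' hR
  have hRM : (R : Subgroup G) ≤ stab o.w.conjZ a := hRc.trans (cent_le_stab o.w.conjZ Rch.refl)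
  obtain ⟨m, hm, hmx⟩ := exists_conj_mem_sylow R hRM hM (CloEnd.isPGroup_zpowers (o.w.sq x hx))
  -- `m x m⁻¹` commutes with `a`
  have h1 := mem_centralizer_singleton_iff.1 (hRc hmx)
  have h2 : Rch Z a (m * x * m⁻¹) := Rch.of_adj ⟨ha, o.w.conjZ x hx m, h1.symm⟩
  have h3 := Rch.conj o.w.conjZ h2 m⁻¹
  have h4 : m⁻¹ * (m * x * m⁻¹) * m⁻¹⁻¹ = x := by group
  rw [h4] at h3
  exact ((mem_stab o.w.conjZ).1 (inv_mem hm)).trans h3

end OW

namespace XW

variable (h : XW Z K D)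

include h

/-- if the graph is not connected then `D` has a strongly embedded subgroup -/
theorem exists_strong [Finite G] (h75 : CloEnd.Crit1175 ↥D) (ha : a ∈ Z) (hu : u ∈ Z) (hn : ¬ Rch Z a u) :
    ∃ H : Subgroup ↥D, IsStronglyEmbedded H := by
  haveI : Fact (Nat.Prime 2) := ⟨Nat.prime_two⟩
  haveI := h.f.nor
  have hZ := h.w.conjZ
  set M := stab hZ a with hM
  have haD := h.mem a ha
  have hxM : ∀ {v}, v ∈ Z → v ∈ M → Rch Z a v := fun hv hvM => h.toOW.rch_of_mem ha hv hvM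
  refine h75 (M.subgroupOf D) ?_ ⟨a, haD⟩ ?_ ?_ ?_ ?_ ?_
  · intro h1
    rw [subgroupOf_eq_top] at h1
    exact hn (hxM hu (h1 (h.mem u hu)))
  · rw [orderOf_mk]
    exact h.w.ord ha
  · rw [mem_subgroupOf]
    exact cent_le_stab hZ Rch.refl (mem_centralizer_singleton_iff.2 rfl)
  · obtain ⟨R, hR⟩ := (h.w.two ha).exists_le_sylow
    have hRc := h.toOW.sylow_le ha R.isPGroup' hR
    refine ⟨(Lib.SylowNormalInf.isPGroup_subgroupOf R D).toSylow (Lib.SylowNormalInf.not_dvd_relIndex R D), ?_, ?_⟩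
    · change (⟨a, haD⟩ : D) ∈ (R : Subgroup G).subgroupOf D
      rw [mem_subgroupOf]
      exact hR (h.w.mem a ha)
    · intro s hs
      change s ∈ (R : Subgroup G).subgroupOf D at hs
      exact Subtype.ext (mem_centralizer_singleton_iff.1 (hRc (mem_subgroupOf.1 hs)))
  · intro g hg
    rw [mem_subgroupOf] at hg ⊢
    exact (mem_stab hZ).2 (hxM (hZ a ha g) hg)
  · intro g hg hne
    have hc : a * (g * a * g⁻¹) = g * a * g⁻¹ * a := congrArg Subtype.val hg.eq
    have hne' : a ≠ (g : G) * a * (g : G)⁻¹ := fun h' => hne (Subtype.ext h'.symm)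
    have hgZ := hZ a ha g
    have hnp := h.toOW.npOf ha hgZ hne' hc
    have hmZ := h.w.mul_mem_of_np ha hgZ hnp
    have h1 : Rch Z a (a * (g * a * g⁻¹)) := by
      refine Rch.of_adj ⟨ha, hmZ, ?_⟩
      rw [mul_assoc a, ← hc]
    intro c hcc
    rw [mem_subgroupOf]
    apply cent_le_stab hZ h1
    rw [mem_centralizer_singleton_iff] at hcc ⊢
    exact congrArg Subtype.val hcc

/-- the involution `t ∈ D` commuting with `a` acts on `K a` as an inner automorphism; so does `C_D(a)` -/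
theorem false_of_inf [Finite G] (ha : a ∈ Z) (hK : ∀ k ∈ K a, k * k = a → k ∉ D) (hG : ∀ g : G, ∃ k ∈ K a, ∃ d ∈ D, g = k * d) :
    False := by
  haveI := h.f.nor
  -- `[K a, C_D(a)] ≤ <a>`
  have key : ∀ d ∈ D, d * a = a * d → ∀ k ∈ K a, d * k * d⁻¹ = k ∨ d * k * d⁻¹ = k⁻¹ := by
    intro d hd hda k hk
    have h1 : d * k * d⁻¹ * k⁻¹ ∈ K a := mul_mem (h.w.norm_mem ha hda hk) (inv_mem hk)
    have h2 : d * k * d⁻¹ * k⁻¹ ∈ D := by
      have h3 : d * k * d⁻¹ * k⁻¹ = d * (k * d⁻¹ * k⁻¹) := by group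
      rw [h3]
      exact mul_mem hd (h.f.nor.conj_mem _ (inv_mem hd) k)
    by_cases h3 : d * k * d⁻¹ * k⁻¹ = 1
    · left
      exact mul_inv_eq_one.1 h3
    by_cases h4 : d * k * d⁻¹ * k⁻¹ = a
    · by_cases hk1 : k * k = a
      · right
        have h5 : d * k * d⁻¹ = a * k := by rw [← h4]; group
        rw [h5, ← hk1]
        have h6 : k * k * (k * k) = 1 := by rw [hk1, h.w.sq a ha]
        calc k * k * k = k * k * (k * k) * k⁻¹ := by group
          _ = k⁻¹ := by rw [h6, one_mul]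
      · exfalso
        apply h3
        -- `k = 1` or `k = a`
        have h5 : k = 1 ∨ k = a := by
          by_contra h5
          rw [not_or] at h5
          exact hk1 (h.w.sq_eq ha hk h5.1 h5.2)
        rcases h5 with h5 | h5
        · rw [h5]; group
        · rw [h5, hda]; group
    · exact absurd h2 (hK _ h1 (h.w.sq_eq ha h1 h3 h4))
  obtain ⟨t, ht, hta, hc⟩ := h.np a ha
  have hnp := h.toOW.npOf ha ht hta.symm hc
  have hti : TI K a t := by
    rcases h.w.np_cases ha ht hnp with h1 | ⟨b, b', h1, -⟩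
    · exact h1
    · exfalso
      obtain ⟨c, hcK, hcc, h2, h3, -, -⟩ := h.w.exists_inv ha h1.mem h1.sq
      obtain ⟨h4, h5⟩ := h1.ne c hcK hcc h2 h3
      rcases key t (h.mem t ht) hc.symm c hcK with h6 | h6
      · exact h4 h6
      · exact h5 h6
  obtain ⟨c, hcK, hcc, hca⟩ := h.w.ti_four hti
  obtain ⟨y, y', h1, -⟩ := hti
  obtain ⟨h2, h3⟩ := h.w.ti_act ha h1 hcc hca
  obtain ⟨b, hbK, hbb, hb1, hb2, -, -⟩ := h.w.exists_inv ha h1.mem h1.sq
  obtain ⟨h4, h5⟩ := h3 b hbK hbb hb1 hb2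
  obtain ⟨k, hk, d, hd, hckd⟩ := hG c
  have hka := h.w.cent ha hk
  have hda : d * a = a * d := by
    have h6 : d = k⁻¹ * c := by rw [hckd]; group
    have h7 : k⁻¹ * a = a * k⁻¹ := by rw [inv_mul_eq_iff_eq_mul, ← mul_assoc, hka, mul_inv_cancel_right]
    rw [h6, mul_assoc, hca, ← mul_assoc, h7, mul_assoc]
  -- `c b c⁻¹ = k (d b d⁻¹) k⁻¹ = k b^± k⁻¹ = b^±`
  have hkb : ∀ k ∈ K a, k * b * k⁻¹ = b ∨ k * b * k⁻¹ = b⁻¹ := by
    intro k hk
    by_cases h6 : k * k = a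
    · by_cases h7 : b = k
      · left; rw [h7, mul_inv_cancel_right]
      by_cases h8 : b = k⁻¹
      · left; rw [h8]; group
      right
      exact h.w.inv_of_ne ha hk h6 hbK hbb h7 h8
    · left
      have h5 : k = 1 ∨ k = a := by
        by_contra h5
        rw [not_or] at h5
        exact h6 (h.w.sq_eq ha hk h5.1 h5.2)
      rcases h5 with h5 | h5
      · rw [h5]; group
      · rw [h5, ← h.w.cent ha hbK, mul_inv_cancel_right]
  have h6 : c * b * c⁻¹ = k * (d * b * d⁻¹) * k⁻¹ := by rw [hckd]; group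
  rcases key d hd hda b hbK with h7 | h7
  · rw [h7] at h6
    rcases hkb k hk with h8 | h8
    · exact h4 (h6.trans h8)
    · exact h5 (h6.trans h8)
  · rw [h7] at h6
    rcases hkb k hk with h8 | h8
    · refine h5 (h6.trans ?_)
      have h9 : k * b⁻¹ * k⁻¹ = (k * b * k⁻¹)⁻¹ := by group
      rw [h9, h8]
    · refine h4 (h6.trans ?_)
      have h9 : k * b⁻¹ * k⁻¹ = (k * b * k⁻¹)⁻¹ := by group
      rw [h9, h8, inv_inv]

/-- `K a ≤ D` is impossible -/
theorem false_of_le [Finite G] (hc : Cfsg.Agent.BenderType.Classify.Concl ↥D) (ha : a ∈ Z) (hK : K a ≤ D) : False := by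
  haveI : Fact (Nat.Prime 2) := ⟨Nat.prime_two⟩
  obtain ⟨t, ht, hta, hc'⟩ := h.np a ha
  have hnp := h.toOW.npOf ha ht hta.symm hc'
  have h1 : IsPGroup 2 (zpowers t ⊔ K a : Subgroup G) := by
    refine IsPGroup.to_sup_of_normal_right' (CloEnd.isPGroup_zpowers (h.w.sq t ht)) (h.w.two ha) ?_
    rw [zpowers_le]
    exact h.w.mem_norm ha hc'.symm
  have h2 : IsPGroup 2 ((zpowers t ⊔ K a : Subgroup G).subgroupOf D) := h1.comap_subtype
  apply hnp.2.2
  refine h.w.csymm ha ht hta.symm fun k hk => ?_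
  have h3 := comm_of_concl hc h2 (x := ⟨t, h.mem t ht⟩) (y := ⟨k, hK hk⟩)
    (by rw [mem_subgroupOf]; exact mem_sup_left (mem_zpowers t))
    (by rw [mem_subgroupOf]; exact mem_sup_right hk) (Subtype.ext (h.w.sq t ht))
  exact congrArg Subtype.val h3

/-- **(P2)** : the commuting graph on `Z` is connected -/
theorem connected [Finite G] (hB : CloEnd.Bend ↥D) (h75 : CloEnd.Crit1175 ↥D) :
    ∀ z ∈ Z, ∀ u ∈ Z, Relation.ReflTransGen (fun a b => a ∈ Z ∧ b ∈ Z ∧ a * b = b * a) z u := by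
  intro a ha u hu
  by_contra hn
  obtain ⟨H, hH⟩ := h.exists_strong h75 ha hu hn
  haveI := h.f.nor
  have haD := h.mem a ha
  -- all members are conjugate under `D`
  have h1 : ∀ v ∈ Z, ∃ d ∈ D, d * a * d⁻¹ = v := by
    intro v hv
    obtain ⟨d, hd⟩ := isConj_iff.1 (TwoFusion.StronglyEmbeddedBasic.isConj_of_involutions hH ⟨a, haD⟩ ⟨v, h.mem v hv⟩
      (by rw [orderOf_mk]; exact h.w.ord ha) (by rw [orderOf_mk]; exact h.w.ord hv))
    exact ⟨d, d.2, congrArg Subtype.val hd⟩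
  -- `G = K a D`
  have h2 : K a ⊔ D = ⊤ := by
    refine h.top _ fun v hv => ?_
    obtain ⟨d, hd, rfl⟩ := h1 v hv
    intro y hy
    rw [h.w.conjK a ha d, mem_cj] at hy
    have h3 : y = d * (d⁻¹ * y * d) * d⁻¹ := by group
    rw [h3]
    exact mul_mem (mul_mem (mem_sup_right hd) (mem_sup_left hy)) (inv_mem (mem_sup_right hd))
  have h3 : ∀ g : G, ∃ k ∈ K a, ∃ d ∈ D, g = k * d := by
    intro g
    have h4 : g ∈ ((K a ⊔ D : Subgroup G) : Set G) := by rw [h2]; exact mem_top g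
    rw [mul_normal] at h4
    obtain ⟨k, hk, d, hd, hkd⟩ := Set.mem_mul.1 h4
    exact ⟨k, hk, d, hd, hkd.symm⟩
  by_cases h4 : ∃ k ∈ K a, k * k = a ∧ k ∈ D
  · -- `K a ≤ D`
    obtain ⟨k, hk, hkk, hkD⟩ := h4
    obtain ⟨c, hc, hodd, hcen⟩ := h.rot a ha
    obtain ⟨h5, h6⟩ := h.w.axes ha hc hodd hcen hk hkk
    refine h.false_of_le (hB H hH) ha fun y hy => ?_
    refine gen_of_axes h.w ha hk (h.w.norm_mem ha hc hk) hkk ?_ h5 h6 hy hkD (h.f.nor.conj_mem _ hkD c)
    have h7 : c * k * c⁻¹ * (c * k * c⁻¹) = c * (k * k) * c⁻¹ := by group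
    rw [h7, hkk, hc, mul_inv_cancel_right]
  · push Not at h4
    exact h.false_of_inf ha h4 h3

end XW

end Cfsg.Agent.Cit.Nil.Comp.AO
end
end
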